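import Mathlib
import Cfsg.Agent.Lib.Helper11.ZJ

/-!
# A Frattini factorization adapted to fusion

For a Sylow `p`-subgroup `T` of `G`, a normal subgroup `C` and an element `g` conjugating the
subgroup `P ≤ T` into `T`, one can write `g = c n` with `c ∈ C`, `n ∈ N_G(T ∩ C)` and
`n P n⁻¹ ≤ T`.
-/

set_option autoImplicit false

namespace Cfsg.Agent.Lib.Helper10.FratAdj

open scoped Pointwise

variable {G : Type*} [Group G]

/-- A `p`-subgroup of `T K`, where the Sylow subgroup `T` normalizes `K`, is conjugate into `T`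
by an element of `K`. -/
theorem sylow_adjust [Finite G] {p : ℕ} [Fact p.Prime] (T : Sylow p G) (K : Subgroup G)
    (hTK : (T : Subgroup G) ≤ Subgroup.normalizer (K : Set G)) (P' : Subgroup G)
    (hP' : IsPGroup p P') (hle : P' ≤ (T : Subgroup G) ⊔ K) :
    ∃ k ∈ K, ∀ x ∈ P', k * x * k⁻¹ ∈ T := by
  have hTX : (T : Subgroup G) ≤ (T : Subgroup G) ⊔ K := le_sup_left
  have hPX : IsPGroup p (P'.subgroupOf ((T : Subgroup G) ⊔ K)) := hP'.comap_subtype
  obtain ⟨Q, hQ⟩ := hPX.exists_le_sylow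
  obtain ⟨m, hm⟩ := MulAction.exists_smul_eq ↥((T : Subgroup G) ⊔ K) Q (T.subtype hTX)
  have hmem : ((m : ↥((T : Subgroup G) ⊔ K)) : G) ∈ (((T : Subgroup G) ⊔ K : Subgroup G) : Set G) :=
    m.2
  rw [Subgroup.coe_mul_of_left_le_normalizer_right _ _ hTK] at hmem
  obtain ⟨t, ht, k, hk, htk⟩ := Set.mem_mul.mp hmem
  refine ⟨k, hk, fun x hx => ?_⟩
  have hxX : x ∈ (T : Subgroup G) ⊔ K := hle hx
  have hxQ : (⟨x, hxX⟩ : ↥((T : Subgroup G) ⊔ K)) ∈ (Q : Subgroup ↥((T : Subgroup G) ⊔ K)) := by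
    apply hQ
    rw [Subgroup.mem_subgroupOf]
    exact hx
  have h1 : MulAut.conj m • (⟨x, hxX⟩ : ↥((T : Subgroup G) ⊔ K)) ∈
      MulAut.conj m • (Q : Subgroup ↥((T : Subgroup G) ⊔ K)) :=
    Subgroup.smul_mem_pointwise_smul _ _ _ hxQ
  rw [← Sylow.pointwise_smul_def, ← Sylow.smul_def, hm, Sylow.coe_subtype, Subgroup.mem_subgroupOf] at h1
  have h2 : (m : G) * x * (m : G)⁻¹ ∈ (T : Subgroup G) := by
    simpa [MulAut.smul_def] using h1
  rw [← htk] at h2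
  have h3 : k * x * k⁻¹ = t⁻¹ * (t * k * x * (t * k)⁻¹) * t := by group
  rw [h3]
  exact Subgroup.mul_mem _ (Subgroup.mul_mem _ (Subgroup.inv_mem _ ht) h2) ht

/-- The Frattini factorization with control of the intermediate subgroup. -/
theorem gfact [Finite G] {p : ℕ} [Fact p.Prime] (T : Sylow p G) (C : Subgroup G) [hC : C.Normal]
    (P : Subgroup G) (hP : P ≤ T) (g : G) (hg : ∀ x ∈ P, g * x * g⁻¹ ∈ T) :
    ∃ n ∈ Subgroup.normalizer ((((T : Subgroup G) ⊓ C : Subgroup G)) : Set G), ∃ c ∈ C,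
      g = c * n ∧ ∀ x ∈ P, n * x * n⁻¹ ∈ T := by
  have hfr := Cfsg.Agent.Lib.Helper11.ZJ.frattini_core T C C le_rfl
    (fun x hx => ⟨0, by simpa using hx⟩)
  have hTN : (T : Subgroup G) ≤ Subgroup.normalizer ((((T : Subgroup G) ⊓ C : Subgroup G)) : Set G) := by
    intro t ht
    rw [Subgroup.mem_normalizer_iff]
    intro h
    constructor
    · rintro ⟨h1, h2⟩
      exact ⟨Subgroup.mul_mem _ (Subgroup.mul_mem _ ht h1) (Subgroup.inv_mem _ ht),
        hC.conj_mem h h2 t⟩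
    · rintro ⟨h1, h2⟩
      have e : h = t⁻¹ * (t * h * t⁻¹) * t := by group
      rw [e]
      refine ⟨Subgroup.mul_mem _ (Subgroup.mul_mem _ (Subgroup.inv_mem _ ht) h1) ht, ?_⟩
      have := hC.conj_mem _ h2 t⁻¹
      rwa [inv_inv] at this
  have hgmem : g ∈ ((C ⊔ Subgroup.normalizer ((((T : Subgroup G) ⊓ C : Subgroup G)) : Set G) :
      Subgroup G) : Set G) := by
    rw [sup_comm, hfr]
    exact Subgroup.mem_top g
  rw [Subgroup.normal_mul] at hgmem
  obtain ⟨c, hc, n₀, hn₀, hcn⟩ := Set.mem_mul.mp hgmem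
  have hTK : (T : Subgroup G) ≤ Subgroup.normalizer
      (((Subgroup.normalizer ((((T : Subgroup G) ⊓ C : Subgroup G)) : Set G) ⊓ C : Subgroup G)) :
        Set G) := by
    intro t ht
    have htN := hTN ht
    rw [Subgroup.mem_normalizer_iff]
    intro h
    constructor
    · rintro ⟨h1, h2⟩
      exact ⟨Subgroup.mul_mem _ (Subgroup.mul_mem _ htN h1) (Subgroup.inv_mem _ htN),
        hC.conj_mem h h2 t⟩
    · rintro ⟨h1, h2⟩
      have e : h = t⁻¹ * (t * h * t⁻¹) * t := by group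
      rw [e]
      refine ⟨Subgroup.mul_mem _ (Subgroup.mul_mem _ (Subgroup.inv_mem _ htN) h1) htN, ?_⟩
      have := hC.conj_mem _ h2 t⁻¹
      rwa [inv_inv] at this
  have hPp : IsPGroup p (P.map (MulAut.conj n₀).toMonoidHom) :=
    (T.isPGroup'.to_le hP).map _
  have hle : P.map (MulAut.conj n₀).toMonoidHom ≤ (T : Subgroup G) ⊔
      (Subgroup.normalizer ((((T : Subgroup G) ⊓ C : Subgroup G)) : Set G) ⊓ C) := by
    rintro _ ⟨x, hx, rfl⟩
    show n₀ * x * n₀⁻¹ ∈ _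
    have ht : g * x * g⁻¹ ∈ (T : Subgroup G) := hg x hx
    have hy : n₀ * x * n₀⁻¹ = (g * x * g⁻¹) * ((g * x * g⁻¹)⁻¹ * (n₀ * x * n₀⁻¹)) := by group
    rw [hy]
    apply Subgroup.mul_mem _ (Subgroup.mem_sup_left ht)
    apply Subgroup.mem_sup_right
    constructor
    · apply Subgroup.mul_mem _ (Subgroup.inv_mem _ (hTN ht))
      exact Subgroup.mul_mem _ (Subgroup.mul_mem _ hn₀ (hTN (hP hx))) (Subgroup.inv_mem _ hn₀)
    · have e : (g * x * g⁻¹)⁻¹ * (n₀ * x * n₀⁻¹) =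
          ((g * x * g⁻¹)⁻¹ * c⁻¹ * (g * x * g⁻¹)) * c := by
        rw [← hcn]
        group
      rw [e]
      apply Subgroup.mul_mem _ _ hc
      have := hC.conj_mem _ (Subgroup.inv_mem _ hc) (g * x * g⁻¹)⁻¹
      rwa [inv_inv] at this
  obtain ⟨k, hk, hkP⟩ := sylow_adjust T _ hTK _ hPp hle
  refine ⟨k * n₀, Subgroup.mul_mem _ hk.1 hn₀, c * k⁻¹,
    Subgroup.mul_mem _ hc (Subgroup.inv_mem _ hk.2), ?_, ?_⟩
  · rw [← hcn]
    group
  · intro x hx
    have := hkP (n₀ * x * n₀⁻¹) ⟨x, hx, rfl⟩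
    have e : k * n₀ * x * (k * n₀)⁻¹ = k * (n₀ * x * n₀⁻¹) * k⁻¹ := by group
    rw [e]
    exact this

end Cfsg.Agent.Lib.Helper10.FratAdj
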