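import Mathlib
import Cfsg.Prelude.Def_FusionSystem
import Cfsg.Prelude.Def_PLocal
import Cfsg.Agent.Lib.Helper10.AgemoA
import Cfsg.Agent.Lib.Helper10.FratAdj
import Cfsg.Agent.Lib.Helper10.AgemoFus1

/-!
# Models and the generation theorem: realized maps, the factorization and the dichotomy
-/

set_option autoImplicit false

namespace Cfsg.Agent.Lib.Helper10.AgemoFus2

open Cfsg Cfsg.FusionSystem
open Cfsg.Agent.Lib.Helper10.Thompson Cfsg.Agent.Lib.Helper10.AgemoFus1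
open Cfsg.Agent.Lib.Helper87.FSBasic Cfsg.Agent.Lib.Helper87.FSSat Cfsg.Agent.Lib.Helper87.FSNormal

variable {Ω : Type*} [Group Ω] {S : Subgroup Ω} {G : Type*} [Group G]

/-- A conjugation of the realizing group that keeps `P` inside the image of `S` gives a map of
the system. -/
theorem realize (F : FusionSystem S) {ι : S →* G} (hr : F.IsRealizedBy ι) {P : Subgroup Ω}
    (hP : P ≤ S) (g : G) (hg : ∀ x : P, g * ι ⟨x, hP x.2⟩ * g⁻¹ ∈ ι.range) :
    ∃ φ ∈ F.Hom P, ∃ hφ : ∀ x : P, φ x ∈ S, ∀ x : P, ι ⟨φ x, hφ x⟩ = g * ι ⟨x, hP x.2⟩ * g⁻¹ := by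
  obtain ⟨hinj, hreal⟩ := hr
  let κ : P →* ι.range :=
    ((MulAut.conj g).toMonoidHom.comp (ι.comp (Subgroup.inclusion hP))).codRestrict ι.range
      (fun u => hg u)
  let j : ι.range ≃* S := (MonoidHom.ofInjective hinj).symm
  let φ : P →* Ω := S.subtype.comp (j.toMonoidHom.comp κ)
  have hφS : ∀ u, φ u ∈ S := fun u => (j (κ u)).2
  have hφι : ∀ u, ι ⟨φ u, hφS u⟩ = g * ι ⟨u, hP u.2⟩ * g⁻¹ := fun u =>
    MonoidHom.apply_ofInjective_symm hinj (κ u)
  exact ⟨φ, (hreal P hP φ hφS).mpr ⟨g, hφι⟩, hφS, hφι⟩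

/-- Extension of a realized map to `P ⊔ D` when the realizing element keeps `D` inside the image
of `S`. -/
theorem realize_sup (F : FusionSystem S) {ι : S →* G} (hr : F.IsRealizedBy ι) {P D : Subgroup Ω}
    (hD : D ≤ S) (g : G) (hgD : ∀ x : D, g * ι ⟨x, hD x.2⟩ * g⁻¹ ∈ ι.range)
    {φ : P →* Ω} (hφ : φ ∈ F.Hom P)
    (hφg : ∀ x : P, ι ⟨φ x, map_mem F hφ x⟩ = g * ι ⟨x, dom_le F hφ x.2⟩ * g⁻¹) :
    ∃ ψ ∈ F.Hom (P ⊔ D), (∀ x : P, ψ (Subgroup.inclusion le_sup_left x) = φ x) ∧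
      ∃ hψS : ∀ z : ↥(P ⊔ D), ψ z ∈ S, ∀ z : ↥(P ⊔ D),
        ι ⟨ψ z, hψS z⟩ = g * ι ⟨z, sup_le (dom_le F hφ) hD z.2⟩ * g⁻¹ := by
  have hP := dom_le F hφ
  have hPD : P ⊔ D ≤ S := sup_le hP hD
  have hrange : ∀ x : ↥(P ⊔ D), g * ι ⟨x, hPD x.2⟩ * g⁻¹ ∈ ι.range := by
    have hPM : P ≤ (ι.range.comap ((MulAut.conj g).toMonoidHom.comp ι)).map S.subtype := by
      intro x hx
      refine ⟨⟨x, hP hx⟩, ?_, rfl⟩
      show g * ι ⟨x, hP hx⟩ * g⁻¹ ∈ ι.range
      exact ⟨⟨φ ⟨x, hx⟩, map_mem F hφ _⟩, hφg ⟨x, hx⟩⟩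
    have hDM : D ≤ (ι.range.comap ((MulAut.conj g).toMonoidHom.comp ι)).map S.subtype := by
      intro x hx
      refine ⟨⟨x, hD hx⟩, ?_, rfl⟩
      show g * ι ⟨x, hD hx⟩ * g⁻¹ ∈ ι.range
      exact hgD ⟨x, hx⟩
    intro x
    obtain ⟨s, hs, hsx⟩ := (sup_le hPM hDM) x.2
    have e : s = ⟨x, hPD x.2⟩ := Subtype.ext hsx
    rw [← e]
    exact hs
  obtain ⟨ψ, hψ, hψS, hψn⟩ := realize F hr hPD g hrange
  refine ⟨ψ, hψ, ?_, hψS, hψn⟩
  intro x
  have h1 := hψn (Subgroup.inclusion le_sup_left x)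
  have h2 := hφg x
  have h3 : ι ⟨ψ (Subgroup.inclusion le_sup_left x), hψS _⟩ = ι ⟨φ x, map_mem F hφ x⟩ :=
    h1.trans h2.symm
  exact congrArg Subtype.val (hr.1 h3)

/-- A map realized by an element normalizing (the image of) `D` is a normalizer map of `D`. -/
theorem normalizerHom_of_realized [Finite S] (F : FusionSystem S) {ι : S →* G}
    (hr : F.IsRealizedBy ι) {P D : Subgroup Ω} (hD : D ≤ S)
    (hDn : S ≤ Subgroup.normalizer (D : Set Ω)) (n : G)
    (hnD : ∀ x : D, ∃ y : D, n * ι ⟨x, hD x.2⟩ * n⁻¹ = ι ⟨y, hD y.2⟩)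
    {φ : P →* Ω} (hφ : φ ∈ F.Hom P)
    (hφn : ∀ x : P, ι ⟨φ x, map_mem F hφ x⟩ = n * ι ⟨x, dom_le F hφ x.2⟩ * n⁻¹) :
    φ ∈ F.normalizerHom D P := by
  have hP := dom_le F hφ
  obtain ⟨ψ, hψ, hext, hψS, hψn⟩ := realize_sup F hr hD n
    (fun x => by
      obtain ⟨y, hy⟩ := hnD x
      exact ⟨_, hy.symm⟩) hφ hφn
  refine ⟨hφ, fun x hx => ⟨hP hx, hDn (hP hx)⟩,
    fun x => ⟨map_mem F hφ x, hDn (map_mem F hφ x)⟩, ψ, hψ, hext, ?_⟩
  apply map_eq_of_maps_into F hD hψ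
  intro q
  obtain ⟨y, hy⟩ := hnD q
  have h1 := hψn (Subgroup.inclusion le_sup_right q)
  have h3 : ι ⟨ψ (Subgroup.inclusion le_sup_right q), hψS _⟩ = ι ⟨y, hD y.2⟩ := h1.trans hy
  have h4 : ψ (Subgroup.inclusion le_sup_right q) = (y : Ω) := congrArg Subtype.val (hr.1 h3)
  rw [h4]
  exact y.2

/-- A map realized by an element centralizing (the image of) `V` is a centralizer map of `V`. -/
theorem centralizerHom_of_realized (F : FusionSystem S) {ι : S →* G} (hr : F.IsRealizedBy ι)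
    {P V : Subgroup Ω} (hV : V ≤ S) (hVc : S ≤ Subgroup.centralizer (V : Set Ω)) (c : G)
    (hcV : ∀ v : V, c * ι ⟨v, hV v.2⟩ * c⁻¹ = ι ⟨v, hV v.2⟩)
    {φ : P →* Ω} (hφ : φ ∈ F.Hom P)
    (hφc : ∀ x : P, ι ⟨φ x, map_mem F hφ x⟩ = c * ι ⟨x, dom_le F hφ x.2⟩ * c⁻¹) :
    φ ∈ F.centralizerHom V P := by
  have hP := dom_le F hφ
  obtain ⟨ψ, hψ, hext, hψS, hψn⟩ := realize_sup F hr hV c
    (fun x => ⟨_, (hcV x).symm⟩) hφ hφc
  refine ⟨hφ, fun x hx => ⟨hP hx, hVc (hP hx)⟩,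
    fun x => ⟨map_mem F hφ x, hVc (map_mem F hφ x)⟩, ψ, hψ, hext, ?_⟩
  intro v
  have h1 := hψn (Subgroup.inclusion le_sup_right v)
  have h3 : ι ⟨ψ (Subgroup.inclusion le_sup_right v), hψS _⟩ = ι ⟨v, hV v.2⟩ := h1.trans (hcV v)
  exact congrArg Subtype.val (hr.1 h3)

/-- The preimage in `S` of `ι(S) ∩ C` is normal in `S` for a normal subgroup `C`. -/
theorem le_normalizer_comap {ι : S →* G} (C : Subgroup G) [hC : C.Normal] :
    S ≤ Subgroup.normalizer ((((ι.range ⊓ C).comap ι).map S.subtype : Subgroup Ω) : Set Ω) := by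
  have key : ∀ s ∈ S, ∀ t ∈ ((ι.range ⊓ C).comap ι).map S.subtype,
      s * t * s⁻¹ ∈ ((ι.range ⊓ C).comap ι).map S.subtype := by
    rintro s hs _ ⟨d, hd, rfl⟩
    refine ⟨⟨s, hs⟩ * d * ⟨s, hs⟩⁻¹, ?_, rfl⟩
    show ι (⟨s, hs⟩ * d * ⟨s, hs⟩⁻¹) ∈ ι.range ⊓ C
    refine ⟨⟨_, rfl⟩, ?_⟩
    rw [map_mul, map_mul, map_inv]
    exact hC.conj_mem _ hd.2 _
  intro s hs
  refine Cfsg.Agent.H85.mem_normalizer_of_forall (key s hs) (fun t ht => ?_)
  have h := key s⁻¹ (S.inv_mem hs) t ht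
  rwa [inv_inv] at h

/-- **Factorization in a model.**  For a normal subgroup `C` of the realizing group centralizing
the image of `V`, every map of the system is a normalizer map of the preimage of `ι(S) ∩ C`
followed by a centralizer map of `V`. -/
theorem model_factor [Finite S] [Finite G] {p : ℕ} [Fact p.Prime] (F : FusionSystem S)
    {ι : S →* G} (hr : F.IsRealizedBy ι) (T : Sylow p G) (hT : (T : Subgroup G) = ι.range)
    (C : Subgroup G) [hC : C.Normal] {V : Subgroup Ω} (hV : V ≤ S)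
    (hVc : S ≤ Subgroup.centralizer (V : Set Ω))
    (hCV : ∀ c ∈ C, ∀ v : V, c * ι ⟨v, hV v.2⟩ * c⁻¹ = ι ⟨v, hV v.2⟩)
    {P : Subgroup Ω} {φ : P →* Ω} (hφ : φ ∈ F.Hom P) :
    ∃ φ₁ ∈ F.normalizerHom (((ι.range ⊓ C).comap ι).map S.subtype) P,
      ∃ φ₂ ∈ F.centralizerHom V φ₁.range, ∀ x : P, φ x = φ₂ ⟨φ₁ x, ⟨x, rfl⟩⟩ := by
  have hP := dom_le F hφ
  have hφS := map_mem F hφ
  obtain ⟨g, hg⟩ := (hr.2 P hP φ hφS).mp hφ
  have hPle : (P.subgroupOf S).map ι ≤ (T : Subgroup G) := by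
    rw [hT]
    rintro _ ⟨s, -, rfl⟩
    exact ⟨s, rfl⟩
  have hgP : ∀ y ∈ (P.subgroupOf S).map ι, g * y * g⁻¹ ∈ (T : Subgroup G) := by
    rintro _ ⟨s, hs, rfl⟩
    rw [hT]
    exact ⟨_, hg ⟨s, hs⟩⟩
  obtain ⟨n, hn, c, hc, hgcn, hnP⟩ :=
    Cfsg.Agent.Lib.Helper10.FratAdj.gfact T C _ hPle g hgP
  have hrange₁ : ∀ x : P, n * ι ⟨x, hP x.2⟩ * n⁻¹ ∈ ι.range := by
    intro x
    rw [← hT]
    exact hnP _ ⟨⟨x, hP x.2⟩, x.2, rfl⟩
  obtain ⟨φ₁, hφ₁, hφ₁S, hφ₁n⟩ := realize F hr hP n hrange₁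
  have hrange₂ : ∀ y : φ₁.range, c * ι ⟨y, range_le F hφ₁ y.2⟩ * c⁻¹ ∈ ι.range := by
    rintro ⟨_, x, rfl⟩
    refine ⟨⟨φ x, hφS x⟩, ?_⟩
    rw [hg x, hgcn]
    have := hφ₁n x
    show (c * n) * ι ⟨x, hP x.2⟩ * (c * n)⁻¹ = c * ι ⟨φ₁ x, hφ₁S x⟩ * c⁻¹
    rw [this]
    group
  obtain ⟨φ₂, hφ₂, hφ₂S, hφ₂c⟩ := realize F hr (range_le F hφ₁) c hrange₂
  have hDS : ((ι.range ⊓ C).comap ι).map S.subtype ≤ S := Subgroup.map_subtype_le _
  refine ⟨φ₁, ?_, φ₂, ?_, ?_⟩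
  · refine normalizerHom_of_realized F hr hDS (le_normalizer_comap C) n ?_ hφ₁ hφ₁n
    rintro ⟨_, d, hd, rfl⟩
    have hmem : n * ι d * n⁻¹ ∈ (T : Subgroup G) ⊓ C := by
      have hd' : ι d ∈ (T : Subgroup G) ⊓ C := by
        rw [hT]
        exact hd
      exact (Subgroup.mem_normalizer_iff.mp hn (ι d)).mp hd'
    have hmem' : n * ι d * n⁻¹ ∈ ι.range ⊓ C := by
      rw [← hT]
      exact hmem
    obtain ⟨s, hs⟩ := hmem'.1
    have hsD : (s : Ω) ∈ ((ι.range ⊓ C).comap ι).map S.subtype := by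
      refine ⟨s, ?_, rfl⟩
      show ι s ∈ ι.range ⊓ C
      rw [hs]
      exact hmem'
    exact ⟨⟨s, hsD⟩, hs.symm⟩
  · exact centralizerHom_of_realized F hr hV hVc c (hCV c hc) hφ₂ hφ₂c
  · intro x
    have h1 := hφ₂c ⟨φ₁ x, ⟨x, rfl⟩⟩
    have h2 := hφ₁n x
    have h3 : ι ⟨φ₂ ⟨φ₁ x, ⟨x, rfl⟩⟩, hφ₂S _⟩ = ι ⟨φ x, hφS x⟩ := by
      rw [h1, hg x, hgcn]
      show c * ι ⟨φ₁ x, hφ₁S x⟩ * c⁻¹ = (c * n) * ι ⟨x, hP x.2⟩ * (c * n)⁻¹
      rw [h2]
      group
    exact (congrArg Subtype.val (hr.1 h3)).symm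

/-- The largest normal `p`-subgroup lies in the Sylow `p`-subgroup. -/
theorem pCore_le_sylow {p : ℕ} [Fact p.Prime] (T : Sylow p G) : pCore p G ≤ T := by
  have hQn : (pCore p G).Normal := Cfsg.Agent.H84.pCore_normal p
  have h1 : IsPGroup p ((T : Subgroup G) ⊔ pCore p G : Subgroup G) :=
    IsPGroup.to_sup_of_normal_right T.isPGroup' (Cfsg.Agent.H84.pCore_isPGroup p)
  have h2 := T.is_maximal' h1 le_sup_left
  calc pCore p G ≤ (T : Subgroup G) ⊔ pCore p G := le_sup_right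
    _ = T := h2

/-- **The dichotomy in a model.**  There is a normal subgroup `C` of the model centralizing the
image of `℧¹(Z(S))` such that either the preimage of `ι(S) ∩ C` is not contained in the preimage
of `O_p(G)`, or every abelian subgroup of `S` of maximal order lies in the preimage of
`O_p(G)`. -/
theorem dich [Finite S] {p : ℕ} [Fact p.Prime] (F : FusionSystem S) {ι : S →* G}
    (hM : F.IsModel p G ι) :
    ∃ C : Subgroup G, C.Normal ∧
      (∀ c ∈ C, ∀ v : S, (v : Ω) ∈ powerClosure p 1 (S ⊓ Subgroup.centralizer (S : Set Ω)) →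
        c * ι v * c⁻¹ = ι v) ∧
      (¬ (((ι.range ⊓ C).comap ι).map S.subtype ≤ ((pCore p G).comap ι).map S.subtype) ∨
        ∀ A, MaxAb S A → A ≤ ((pCore p G).comap ι).map S.subtype) := by
  obtain ⟨hfin, hr, ⟨T, hT⟩, hchar⟩ := hM
  have hinj := hr.1
  have hWn : (Subgroup.normalClosure (((T : Subgroup G) ⊓
      Subgroup.centralizer ((T : Subgroup G) : Set G) : Subgroup G) : Set G)).Normal :=
    inferInstance
  have hW1n : (powerClosure p 1 (Subgroup.normalClosure (((T : Subgroup G) ⊓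
      Subgroup.centralizer ((T : Subgroup G) : Set G) : Subgroup G) : Set G))).Normal :=
    Cfsg.Agent.Lib.Helper10.AgemoA.powerClosure_normal _
  refine ⟨Subgroup.centralizer ((powerClosure p 1 (Subgroup.normalClosure (((T : Subgroup G) ⊓
      Subgroup.centralizer ((T : Subgroup G) : Set G) : Subgroup G) : Set G)) : Subgroup G) :
        Set G), Subgroup.normal_centralizer, ?_, ?_⟩
  · intro c hc v hv
    have hle : powerClosure p 1 (S ⊓ Subgroup.centralizer (S : Set Ω)) ≤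
        ((powerClosure p 1 (Subgroup.normalClosure (((T : Subgroup G) ⊓
          Subgroup.centralizer ((T : Subgroup G) : Set G) : Subgroup G) : Set G))).comap ι).map
            S.subtype := by
      unfold powerClosure
      rw [Subgroup.closure_le]
      rintro y ⟨x, hx, rfl⟩
      obtain ⟨hxS, hxC⟩ := Subgroup.mem_inf.mp hx
      refine ⟨⟨x, hxS⟩ ^ (p ^ 1), ?_, rfl⟩
      show ι (⟨x, hxS⟩ ^ (p ^ 1)) ∈ Subgroup.closure _
      rw [map_pow]
      apply Subgroup.subset_closure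
      refine ⟨ι ⟨x, hxS⟩, ?_, rfl⟩
      apply Subgroup.subset_normalClosure
      refine Subgroup.mem_inf.mpr ⟨?_, ?_⟩
      · rw [hT]
        exact ⟨_, rfl⟩
      · rw [Subgroup.mem_centralizer_iff]
        intro t ht
        have ht' : t ∈ ι.range := by
          rw [← hT]
          exact ht
        obtain ⟨s, rfl⟩ := ht'
        rw [← map_mul, ← map_mul]
        congr 1
        apply Subtype.ext
        exact (Subgroup.mem_centralizer_iff.mp hxC) s s.2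
    obtain ⟨s, hs, hsv⟩ := hle hv
    have e : s = v := Subtype.ext hsv
    rw [e] at hs
    have h1 := (Subgroup.mem_centralizer_iff.mp hc) (ι v) hs
    calc c * ι v * c⁻¹ = (ι v * c) * c⁻¹ := by rw [h1]
      _ = ι v := by group
  · by_cases h : (T : Subgroup G) ⊓ Subgroup.centralizer ((powerClosure p 1
        (Subgroup.normalClosure (((T : Subgroup G) ⊓
          Subgroup.centralizer ((T : Subgroup G) : Set G) : Subgroup G) : Set G)) : Subgroup G) :
            Set G) ≤ pCore p G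
    · right
      intro A hA
      have hAS : A ≤ S := hA.1
      have hAG := Cfsg.Agent.Lib.Helper10.AgemoA.thmA T hchar _ rfl h
        ((A.subgroupOf S).map ι)
        (by
          rw [hT]
          rintro _ ⟨s, -, rfl⟩
          exact ⟨s, rfl⟩)
        (by
          rintro _ ⟨x, hx, rfl⟩ _ ⟨y, hy, rfl⟩
          rw [← map_mul, ← map_mul]
          congr 1
          apply Subtype.ext
          exact hA.2.1 _ hx _ hy)
        (by
          intro B hBT hBc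
          rw [Subgroup.card_map_of_injective hinj, card_subgroupOf hAS]
          have hBr : B ≤ ι.range := by
            rw [← hT]
            exact hBT
          have h1 := hA.2.2 ((B.comap ι).map S.subtype) (Subgroup.map_subtype_le _) (by
            rintro _ ⟨x, hx, rfl⟩ _ ⟨y, hy, rfl⟩
            have h2 := hBc _ hx _ hy
            rw [← map_mul, ← map_mul] at h2
            exact congrArg Subtype.val (hinj h2))
          rw [card_map_subtype] at h1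
          have h3 : Nat.card ((B.comap ι).map ι) = Nat.card (B.comap ι) :=
            Subgroup.card_map_of_injective hinj
          rw [Subgroup.map_comap_eq, inf_eq_right.mpr hBr] at h3
          rw [h3]
          exact h1)
      intro x hx
      refine ⟨⟨x, hAS hx⟩, ?_, rfl⟩
      show ι ⟨x, hAS hx⟩ ∈ pCore p G
      exact hAG ⟨⟨x, hAS hx⟩, hx, rfl⟩
    · left
      intro hle
      apply h
      intro y hy
      have hy' : y ∈ ι.range := by
        rw [← hT]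
        exact hy.1
      obtain ⟨s, rfl⟩ := hy'
      have hsD : (s : Ω) ∈ ((ι.range ⊓ Subgroup.centralizer ((powerClosure p 1
          (Subgroup.normalClosure (((T : Subgroup G) ⊓
            Subgroup.centralizer ((T : Subgroup G) : Set G) : Subgroup G) : Set G)) :
              Subgroup G) : Set G)).comap ι).map S.subtype :=
        ⟨s, ⟨⟨s, rfl⟩, hy.2⟩, rfl⟩
      obtain ⟨s', hs', hss'⟩ := hle hsD
      have e : s' = s := Subtype.ext hss'
      rw [e] at hs'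
      exact hs'

end Cfsg.Agent.Lib.Helper10.AgemoFus2
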