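import Mathlib
import Cfsg.Prelude.Def_FusionSystem
import Cfsg.Agent.Lib.Helper87.FSBasic
import Cfsg.Agent.Lib.Helper87.FSSat
import Cfsg.Agent.Lib.Helper87.FSAlperin
import Cfsg.Agent.Lib.Helper87.Model
import Cfsg.Agent.Lib.Helper88.AlpCentric
import Cfsg.Agent.Lib.Helper88.FSBase
import Cfsg.Agent.H85.FullyNorm
import Cfsg.Agent.H85.Aut
import Cfsg.Agent.H84.FusSat
import Cfsg.Agent.H84.FusModel
import Cfsg.Agent.S5096
import Cfsg.Agent.S5098

/-!
# A weak-closure engine for saturated fusion systems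

Let `F` be a saturated fusion system on the finite `p`-group `S`, let `U` be a rule assigning to
each subgroup `T ≤ S` a subgroup `U T ≤ T` containing `Z(T)`, equivariant under the maps of `F`,
and let `z ∈ Z(S)` be fixed by every `F`-automorphism of `U S`.  If in every model `L` of the
normalizer system of a fully automized, receptive, centric subgroup `Y` the element `z` is central
as soon as it is centralized by the normalizer of (the image of) `U (N_S(Y))`, then `z` lies in the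
centre of `F`.
-/

set_option autoImplicit false
open Cfsg Cfsg.FusionSystem

namespace Cfsg.Agent.Lib.Helper10.FusWC

open Cfsg.Agent.Lib.Helper87.FSBasic Cfsg.Agent.Lib.Helper87.FSSat

universe u

section basic

variable {Ω : Type*} [Group Ω] {S : Subgroup Ω}

/-- The subsystem of the maps of `F` that fix `z` and send nothing else to `z`. -/
def fixSys (F : FusionSystem S) (z : Ω) (hz : ∀ g ∈ S, g * z * g⁻¹ = z) : FusionSystem S where
  Hom P := {φ | φ ∈ F.Hom P ∧ ∀ x : P, (x : Ω) = z ↔ φ x = z}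
  le_of_mem h := F.le_of_mem h.1
  injective_of_mem h := F.injective_of_mem h.1
  conj_mem := by
    intro P g hP hg
    refine ⟨F.conj_mem hP hg, fun x => ?_⟩
    show (x : Ω) = z ↔ g * (x : Ω) * g⁻¹ = z
    constructor
    · intro h
      rw [h]
      exact hz g hg
    · intro h
      have h2 : g * (x : Ω) * g⁻¹ = g * z * g⁻¹ := h.trans (hz g hg).symm
      exact mul_left_cancel (mul_right_cancel h2)
  comp_mem := by
    intro P Q φ ψ hφ hψ h
    refine ⟨F.comp_mem hφ.1 hψ.1 h, fun x => ?_⟩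
    show (x : Ω) = z ↔ ψ (φ.codRestrict Q h x) = z
    rw [hφ.2 x]
    exact hψ.2 (φ.codRestrict Q h x)
  inv_mem := by
    intro P φ hφ
    obtain ⟨ψ, hψ, hinv⟩ := F.inv_mem hφ.1
    refine ⟨ψ, ⟨hψ, ?_⟩, hinv⟩
    rintro ⟨_, x, rfl⟩
    show φ x = z ↔ ψ ⟨φ x, ⟨x, rfl⟩⟩ = z
    rw [hinv x]
    exact (hφ.2 x).symm

theorem fixSys_fix (F : FusionSystem S) {z : Ω} (hz : ∀ g ∈ S, g * z * g⁻¹ = z)
    {P : Subgroup Ω} {φ : P →* Ω} (hφ : φ ∈ (fixSys F z hz).Hom P) (hzP : z ∈ P) :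
    φ ⟨z, hzP⟩ = z :=
  (hφ.2 ⟨z, hzP⟩).mp rfl

theorem fixSys_fix_zpowers (F : FusionSystem S) {z : Ω} (hz : ∀ g ∈ S, g * z * g⁻¹ = z)
    {P : Subgroup Ω} {φ : P →* Ω} (hφ : φ ∈ (fixSys F z hz).Hom P) (hzP : z ∈ P)
    (x : P) (hx : (x : Ω) ∈ Subgroup.zpowers z) : φ x = x := by
  obtain ⟨k, hk⟩ := Subgroup.mem_zpowers_iff.mp hx
  have e : x = (⟨z, hzP⟩ : P) ^ k := by
    apply Subtype.ext
    rw [Subgroup.coe_zpow]
    exact hk.symm
  rw [e, map_zpow, fixSys_fix F hz hφ hzP, Subgroup.coe_zpow]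

theorem mem_fixSys_of_aut (F : FusionSystem S) {z : Ω} (hz : ∀ g ∈ S, g * z * g⁻¹ = z)
    {Y : Subgroup Ω} {α : Y →* Ω} (hα : α ∈ F.Hom Y) (hr : α.range = Y)
    (h : ∀ hzY : z ∈ Y, α ⟨z, hzY⟩ = z) : α ∈ (fixSys F z hz).Hom Y := by
  refine ⟨hα, fun x => ⟨fun hx => ?_, fun hx => ?_⟩⟩
  · have hzY : z ∈ Y := hx ▸ x.2
    have e : x = ⟨z, hzY⟩ := Subtype.ext hx
    rw [e]
    exact h hzY
  · have hzY : z ∈ Y := by
      rw [← hr, ← hx]
      exact ⟨x, rfl⟩
    have e := F.injective_of_mem hα (hx.trans (h hzY).symm)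
    rw [e]

/-- Every `F`-automorphism of `P` fixes `z` (when `z ∈ P`). -/
def AutFix (F : FusionSystem S) (z : Ω) (P : Subgroup Ω) : Prop :=
  ∀ α ∈ F.Hom P, α.range = P → ∀ h : z ∈ P, α ⟨z, h⟩ = z

/-- Transport of `AutFix` along a map of the system fixing `z`. -/
theorem autFix_of_map (F : FusionSystem S) {z : Ω} {R P : Subgroup Ω} {ψ : R →* Ω}
    (hψ : ψ ∈ F.Hom R) (hPR : P ≤ R) (hzP : z ∈ P) (hψz : ψ ⟨z, hPR hzP⟩ = z)
    (h : AutFix F z (ψ.comp (Subgroup.inclusion hPR)).range) : AutFix F z P := by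
  intro α hα hr hz
  have hρ : ψ.comp (Subgroup.inclusion hPR) ∈ F.Hom P := restrict_mem F hψ hPR
  have hαP : ∀ x : P, α x ∈ P := fun x => (SetLike.ext_iff.mp hr (α x)).mp ⟨x, rfl⟩
  have hβ := F.comp_mem hα hρ hαP
  obtain ⟨ρ', hρ', hρ'β, hρ'r⟩ := exists_comp_inv F hρ hβ
  have hr' : ρ'.range = (ψ.comp (Subgroup.inclusion hPR)).range := by
    rw [hρ'r]
    apply le_antisymm
    · rintro _ ⟨x, rfl⟩
      exact ⟨α.codRestrict P hαP x, rfl⟩
    · rintro _ ⟨y, rfl⟩
      obtain ⟨x, hx⟩ := (SetLike.ext_iff.mp hr (y : Ω)).mpr y.2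
      refine ⟨x, ?_⟩
      have e : α.codRestrict P hαP x = y := Subtype.ext hx
      show (ψ.comp (Subgroup.inclusion hPR)) (α.codRestrict P hαP x) = _
      rw [e]
  have hz' : z ∈ (ψ.comp (Subgroup.inclusion hPR)).range := ⟨⟨z, hzP⟩, hψz⟩
  have h1 := h ρ' hρ' hr' hz'
  have h2 := hρ'β ⟨z, hzP⟩
  have e : (⟨z, hz'⟩ : (ψ.comp (Subgroup.inclusion hPR)).range) =
      ⟨(ψ.comp (Subgroup.inclusion hPR)) ⟨z, hzP⟩, ⟨⟨z, hzP⟩, rfl⟩⟩ := Subtype.ext hψz.symm
  rw [e, h2] at h1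
  have h3 : ψ (Subgroup.inclusion hPR ⟨α ⟨z, hzP⟩, hαP _⟩) = ψ ⟨z, hPR hzP⟩ := h1.trans hψz.symm
  have h4 := F.injective_of_mem hψ h3
  exact congrArg (fun t : R => (t : Ω)) h4

/-- The range of the restriction to `P` of an extension of `χ ∘ θ`. -/
theorem range_restrict_eq {P : Subgroup Ω} {θ : P →* Ω} {χ : θ.range →* Ω}
    (hχr : χ.range = θ.range) {R : Subgroup Ω} (hPR : P ≤ R) {ψ : R →* Ω}
    (hψx : ∀ (x : P) (hx : (x : Ω) ∈ R), ψ ⟨x, hx⟩ = χ ⟨θ x, ⟨x, rfl⟩⟩) :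
    (ψ.comp (Subgroup.inclusion hPR)).range = θ.range := by
  apply le_antisymm
  · rintro _ ⟨x, rfl⟩
    rw [← hχr]
    exact ⟨⟨θ x, ⟨x, rfl⟩⟩, (hψx x (hPR x.2)).symm⟩
  · intro y hy
    rw [← hχr] at hy
    obtain ⟨⟨_, x, rfl⟩, rfl⟩ := hy
    exact ⟨x, hψx x (hPR x.2)⟩

end basic

section engine

variable {Ω : Type u} [Group Ω] {S : Subgroup Ω}

/-- The local condition at `Y`: in every model `L` of the normalizer system of `Y`, if the
elements of `L` that conjugate the image of `U (N_S(Y))` into itself centralize the image of `z`,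
then the image of `z` is central in `L`. -/
def LocCond (p : ℕ) (F : FusionSystem S) (U : Subgroup Ω → Subgroup Ω) (z : Ω) (Y : Subgroup Ω) :
    Prop :=
  ∀ (E : FusionSystem (normalizerIn S Y)), F.IsNormalizerSystem Y E → E.IsSaturated p →
    ∀ (L : Type u) [Group L] (ι : ↥(normalizerIn S Y) →* L), E.IsModel p L ι →
      ((Y.subgroupOf (normalizerIn S Y)).map ι).Normal →
      ∀ hzT : z ∈ normalizerIn S Y,
        (∀ g : L, (∀ x : ↥(normalizerIn S Y), (x : Ω) ∈ U (normalizerIn S Y) →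
            ∃ y : ↥(normalizerIn S Y), (y : Ω) ∈ U (normalizerIn S Y) ∧ g * ι x * g⁻¹ = ι y) →
          g * ι ⟨z, hzT⟩ * g⁻¹ = ι ⟨z, hzT⟩) →
        ∀ g : L, g * ι ⟨z, hzT⟩ * g⁻¹ = ι ⟨z, hzT⟩

/-- The model step: if the `F`-automorphisms of `U (N_S(Y))` fix `z`, so do those of the fully
automized, receptive, centric subgroup `Y`. -/
theorem star [Finite S] {p : ℕ} [Fact p.Prime] (hS : IsPGroup p S) (F : FusionSystem S)
    (hF : F.IsSaturated p) (U : Subgroup Ω → Subgroup Ω) (hU_le : ∀ T, U T ≤ T) {z : Ω}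
    {Y : Subgroup Ω} (hfa : F.IsFullyAutomized p Y) (hrec : F.IsReceptive Y)
    (hcen : F.IsCentric Y) (hzU : z ∈ U (normalizerIn S Y))
    (hloc : LocCond p F U z Y) (hT : AutFix F z (U (normalizerIn S Y))) : AutFix F z Y := by
  intro α hα hr hzY
  have hYS : Y ≤ S := hrec.1
  have hfn : F.IsFullyNormalized Y := Cfsg.Agent.H84.fullyNormalized_of_fa_receptive hS F hfa hrec
  obtain ⟨E, hE⟩ := Cfsg.Agent.S5096.result F Y hYS
  have hEsat : E.IsSaturated p := Cfsg.Agent.S5098.result p hS F hF Y hfn E hE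
  have hEnorm : E.IsNormal Y := Cfsg.Agent.H84.normalizerSystem_isNormal F hYS E hE
  have hYT : Y ≤ normalizerIn S Y := le_normalizerIn hYS
  have hCT : centralizerIn (normalizerIn S Y) Y ≤ Y := by
    intro x hx
    exact hcen.2 Y ⟨Y.subtype, subtype_mem F hYS, Subgroup.range_subtype Y⟩ ⟨hx.1.1, hx.2⟩
  have hTp : IsPGroup p (normalizerIn S Y) := hS.to_le inf_le_left
  haveI : Finite (normalizerIn S Y) := finite_of_le inf_le_left
  obtain ⟨L, _, ι, hM, hYn, -⟩ :=
    Cfsg.Agent.Lib.Helper87.Model.exists_model hTp E hEsat hEnorm hCT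
  have hzT : z ∈ normalizerIn S Y := hYT hzY
  have hM' := hM
  obtain ⟨hLfin, ⟨hinj, hreal⟩, -, -⟩ := hM'
  have hαE : α ∈ E.Hom Y := by
    have h1 := Cfsg.Agent.H84.normalizerSystem_aut_mem F hYS E hE
      (autOfMap α (F.injective_of_mem hα) hr) (autOfMap_mem F hα hr)
    exact mem_of_eq E h1 (fun x => rfl)
  have hαT : ∀ x : Y, α x ∈ normalizerIn S Y := fun x => (E.le_of_mem hαE).2 x
  obtain ⟨g, hg⟩ := (hreal Y hYT α hαT).mp hαE
  have hUT : U (normalizerIn S Y) ≤ normalizerIn S Y := hU_le _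
  have hcentral : ∀ g : L, g * ι ⟨z, hzT⟩ * g⁻¹ = ι ⟨z, hzT⟩ := by
    refine hloc E hE hEsat L ι hM hYn hzT ?_
    intro g hgU
    let κ : ↥(U (normalizerIn S Y)) →* ι.range :=
      ((MulAut.conj g).toMonoidHom.comp (ι.comp (Subgroup.inclusion hUT))).codRestrict ι.range
        (fun u => by
          obtain ⟨y, -, hy⟩ := hgU (Subgroup.inclusion hUT u) u.2
          exact ⟨y, hy.symm⟩)
    let j : ι.range ≃* ↥(normalizerIn S Y) := (MonoidHom.ofInjective hinj).symm
    let φ : ↥(U (normalizerIn S Y)) →* Ω := (normalizerIn S Y).subtype.comp (j.toMonoidHom.comp κ)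
    have hφT : ∀ u, φ u ∈ normalizerIn S Y := fun u => (j (κ u)).2
    have hφι : ∀ u, ι ⟨φ u, hφT u⟩ = g * ι ⟨u, hUT u.2⟩ * g⁻¹ := fun u =>
      MonoidHom.apply_ofInjective_symm hinj (κ u)
    have hφE : φ ∈ E.Hom (U (normalizerIn S Y)) := (hreal _ hUT φ hφT).mpr ⟨g, hφι⟩
    have hφF : φ ∈ F.Hom (U (normalizerIn S Y)) := by
      rw [hE (U (normalizerIn S Y))] at hφE
      exact hφE.1
    have hφU : ∀ u : ↥(U (normalizerIn S Y)), φ u ∈ U (normalizerIn S Y) := by
      intro u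
      obtain ⟨y, hy, hyg⟩ := hgU (Subgroup.inclusion hUT u) u.2
      have h1 : ι ⟨φ u, hφT u⟩ = ι y := (hφι u).trans hyg
      have h2 := hinj h1
      have e : φ u = (y : Ω) := congrArg (fun t : ↥(normalizerIn S Y) => (t : Ω)) h2
      rw [e]
      exact hy
    haveI : Finite (U (normalizerIn S Y)) := finite_of_le (hUT.trans inf_le_left)
    have hφr : φ.range = U (normalizerIn S Y) :=
      Cfsg.Agent.Lib.Helper88.FSBase.range_eq_of_finite F hφF hφU
    have h1 := hT φ hφF hφr hzU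
    have h2 := hφι ⟨z, hzU⟩
    have e : (⟨φ ⟨z, hzU⟩, hφT _⟩ : ↥(normalizerIn S Y)) = ⟨z, hzT⟩ := Subtype.ext h1
    rw [e] at h2
    exact h2.symm
  have h1 := hg ⟨z, hzY⟩
  have h2 : ι ⟨α ⟨z, hzY⟩, hαT _⟩ = ι ⟨z, hzT⟩ := h1.trans (hcentral g)
  have h3 := hinj h2
  exact congrArg (fun t : ↥(normalizerIn S Y) => (t : Ω)) h3

theorem normalizerIn_le_U (F : FusionSystem S) (U : Subgroup Ω → Subgroup Ω)
    (hU_le : ∀ T, U T ≤ T)
    (hU_eq : ∀ (T : Subgroup Ω) (θ : T →* Ω), θ ∈ F.Hom T →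
      ∀ x : T, (x : Ω) ∈ U T ↔ θ x ∈ U θ.range)
    {T : Subgroup Ω} (hTS : T ≤ S) : normalizerIn S T ≤ normalizerIn S (U T) := by
  rintro g ⟨hgS, hgN⟩
  refine ⟨hgS, ?_⟩
  have hθ : conjHom T g ∈ F.Hom T := F.conj_mem hTS hgS
  have hr : (conjHom T g).range = T := by
    ext y
    constructor
    · rintro ⟨x, rfl⟩
      exact (Subgroup.mem_normalizer_iff.mp hgN x).mp x.2
    · intro hy
      have hy' : g⁻¹ * y * g ∈ T := by
        apply (Subgroup.mem_normalizer_iff.mp hgN (g⁻¹ * y * g)).mpr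
        have e : g * (g⁻¹ * y * g) * g⁻¹ = y := by group
        rw [e]
        exact hy
      refine ⟨⟨g⁻¹ * y * g, hy'⟩, ?_⟩
      show g * (g⁻¹ * y * g) * g⁻¹ = y
      group
  have key := hU_eq T (conjHom T g) hθ
  rw [hr] at key
  refine Subgroup.mem_normalizer_iff.mpr ?_
  intro h
  constructor
  · intro hh
    exact (key ⟨h, hU_le T hh⟩).mp hh
  · intro hh
    have hT' : h ∈ T := (Subgroup.mem_normalizer_iff.mp hgN h).mpr (hU_le T hh)
    exact (key ⟨h, hT'⟩).mpr hh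

theorem normalizerIn_le_sup_centralizer (S U1 : Subgroup Ω) :
    normalizerIn S U1 ≤ normalizerIn S (U1 ⊔ centralizerIn S U1) := by
  have key : ∀ g ∈ normalizerIn S U1, ∀ t ∈ U1 ⊔ centralizerIn S U1,
      g * t * g⁻¹ ∈ U1 ⊔ centralizerIn S U1 := by
    intro g hg t ht
    have hmap : (U1 ⊔ centralizerIn S U1).map (MulAut.conj g).toMonoidHom ≤
        U1 ⊔ centralizerIn S U1 := by
      rw [Subgroup.map_sup]
      refine sup_le_sup ?_ ?_
      · rintro _ ⟨u, hu, rfl⟩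
        show g * u * g⁻¹ ∈ U1
        exact (Subgroup.mem_normalizer_iff.mp hg.2 u).mp hu
      · rintro _ ⟨c, hc, rfl⟩
        show g * c * g⁻¹ ∈ centralizerIn S U1
        refine ⟨S.mul_mem (S.mul_mem hg.1 hc.1) (S.inv_mem hg.1),
          Subgroup.mem_centralizer_iff.mpr ?_⟩
        intro u hu
        have hu' : g⁻¹ * u * g ∈ U1 := by
          apply (Subgroup.mem_normalizer_iff.mp hg.2 (g⁻¹ * u * g)).mpr
          have e : g * (g⁻¹ * u * g) * g⁻¹ = u := by group
          rw [e]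
          exact hu
        have hcomm := (Subgroup.mem_centralizer_iff.mp hc.2) (g⁻¹ * u * g) hu'
        calc u * (g * c * g⁻¹) = g * ((g⁻¹ * u * g) * c) * g⁻¹ := by group
          _ = g * (c * (g⁻¹ * u * g)) * g⁻¹ := by rw [hcomm]
          _ = g * c * g⁻¹ * u := by group
    exact hmap ⟨t, ht, rfl⟩
  intro g hg
  refine ⟨hg.1, Cfsg.Agent.H85.mem_normalizer_of_forall (key g hg) ?_⟩
  intro t ht
  have h := key g⁻¹ ((normalizerIn S U1).inv_mem hg) t ht
  rwa [inv_inv] at h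

/-- Automorphisms of a receptive subgroup extend to automorphisms of `U₁ C_S(U₁)`. -/
theorem autFix_of_sup_centralizer [Finite S] (F : FusionSystem S) {z : Ω} {U1 : Subgroup Ω}
    (hrec1 : F.IsReceptive U1) (h : AutFix F z (U1 ⊔ centralizerIn S U1)) : AutFix F z U1 := by
  intro β hβ hβr hz1
  obtain ⟨β', hβ', hext⟩ := Cfsg.Agent.H85.receptive_extend_sup F hrec1 hβ hβr
  have hβU : ∀ x : U1, β x ∈ U1 := fun x => (SetLike.ext_iff.mp hβr (β x)).mp ⟨x, rfl⟩
  have hsurj : ∀ y ∈ U1, ∃ x : U1, β' (Subgroup.inclusion le_sup_left x) = y := by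
    intro y hy
    obtain ⟨x, hx⟩ := (SetLike.ext_iff.mp hβr y).mpr hy
    exact ⟨x, (hext x).trans hx⟩
  have hmem : ∀ x : ↥(U1 ⊔ centralizerIn S U1), β' x ∈ U1 ⊔ centralizerIn S U1 := by
    have hle : U1.subgroupOf (U1 ⊔ centralizerIn S U1) ⊔
        (centralizerIn S U1).subgroupOf (U1 ⊔ centralizerIn S U1) ≤
        (U1 ⊔ centralizerIn S U1).comap β' := by
      refine sup_le ?_ ?_
      · intro x hx
        rw [Subgroup.mem_subgroupOf] at hx
        show β' x ∈ U1 ⊔ centralizerIn S U1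
        have e : x = Subgroup.inclusion le_sup_left (⟨(x : Ω), hx⟩ : U1) := Subtype.ext rfl
        rw [e, hext]
        exact Subgroup.mem_sup_left (hβU _)
      · intro x hx
        rw [Subgroup.mem_subgroupOf] at hx
        exact Subgroup.mem_sup_right (Cfsg.Agent.H85.map_centralizer_mem F hβ' hsurj x hx)
    intro x
    have hx : x ∈ U1.subgroupOf (U1 ⊔ centralizerIn S U1) ⊔
        (centralizerIn S U1).subgroupOf (U1 ⊔ centralizerIn S U1) := by
      rw [← Subgroup.subgroupOf_sup le_sup_left le_sup_right, Subgroup.subgroupOf_self]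
      exact Subgroup.mem_top x
    exact hle hx
  haveI : Finite ↥(U1 ⊔ centralizerIn S U1) := finite_of_le (sup_le hrec1.1 inf_le_left)
  have hr' : β'.range = U1 ⊔ centralizerIn S U1 :=
    Cfsg.Agent.Lib.Helper88.FSBase.range_eq_of_finite F hβ' hmem
  have h1 := h β' hβ' hr' (Subgroup.mem_sup_left hz1)
  have h2 := hext ⟨z, hz1⟩
  exact h2.symm.trans h1

theorem central_comm {z : Ω} (hzC : ∀ g ∈ S, g * z * g⁻¹ = z) {t : Ω} (ht : t ∈ S) :
    t * z = z * t := by
  have h := hzC t ht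
  calc t * z = (t * z * t⁻¹) * t := by group
    _ = z * t := by rw [h]

/-- The passage through a fully automized receptive conjugate of `U₁ C_S(U₁)`. -/
theorem autFix_Q1 [Finite S] {p : ℕ} [Fact p.Prime] (hS : IsPGroup p S) (F : FusionSystem S)
    (hF : F.IsSaturated p) {z : Ω} (hzS : z ∈ S) (hzC : ∀ g ∈ S, g * z * g⁻¹ = z)
    {U1 : Subgroup Ω} (hrec1 : F.IsReceptive U1) (m : ℕ)
    (IH : ∀ R : Subgroup Ω, m < Nat.card R → F.Hom R ⊆ (fixSys F z hzC).Hom R)
    (hm : m < Nat.card (normalizerIn S (U1 ⊔ centralizerIn S U1)))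
    (H : ∀ Q2 : Subgroup Ω, F.IsFullyAutomized p Q2 → F.IsReceptive Q2 → F.IsCentric Q2 →
      Nat.card (normalizerIn S (U1 ⊔ centralizerIn S U1)) ≤ Nat.card (normalizerIn S Q2) →
      AutFix F z Q2) :
    AutFix F z (U1 ⊔ centralizerIn S U1) := by
  have hU1S : U1 ≤ S := hrec1.1
  have hQ1S : U1 ⊔ centralizerIn S U1 ≤ S := sup_le hU1S inf_le_left
  have hzcen : z ∈ centralizerIn S U1 :=
    ⟨hzS, Subgroup.mem_centralizer_iff.mpr fun u hu => central_comm hzC (hU1S hu)⟩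
  have hzQ1 : z ∈ U1 ⊔ centralizerIn S U1 := Subgroup.mem_sup_right hzcen
  obtain ⟨ρ3, hρ3, hfa2, hrec2⟩ := exists_far F hF hQ1S
  obtain ⟨χ3, hχ3, hχ3r, ψ3, hψ3, hψ3x⟩ := exists_extension_normalizer hS F hρ3 hfa2 hrec2
  have hQ1N : U1 ⊔ centralizerIn S U1 ≤ normalizerIn S (U1 ⊔ centralizerIn S U1) :=
    le_normalizerIn hQ1S
  have hψ3fix := IH _ hm hψ3
  have hψ3z : ψ3 ⟨z, hQ1N hzQ1⟩ = z := fixSys_fix F hzC hψ3fix _
  have hrange : (ψ3.comp (Subgroup.inclusion hQ1N)).range = ρ3.range :=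
    range_restrict_eq hχ3r hQ1N hψ3x
  apply autFix_of_map F hψ3 hQ1N hzQ1 hψ3z
  rw [hrange]
  refine H ρ3.range hfa2 hrec2 ?_ ?_
  · apply Cfsg.Agent.Lib.Helper88.AlpCentric.isCentric_of_receptive F hrec2
    have hU1N : U1 ≤ normalizerIn S (U1 ⊔ centralizerIn S U1) := le_sup_left.trans hQ1N
    have hCN : centralizerIn S U1 ≤ normalizerIn S (U1 ⊔ centralizerIn S U1) :=
      le_sup_right.trans hQ1N
    have hψU : ψ3.comp (Subgroup.inclusion hU1N) ∈ F.Hom U1 := restrict_mem F hψ3 hU1N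
    have hfc : F.IsFullyCentralized U1 := Cfsg.Agent.H84.receptive_fullyCentralized F hrec1
    have hcard : Nat.card (centralizerIn S (ψ3.comp (Subgroup.inclusion hU1N)).range) ≤
        Nat.card (centralizerIn S U1) := hfc.2 _ ⟨_, hψU, rfl⟩
    have hfmem : ∀ c : ↥(centralizerIn S U1), ψ3 (Subgroup.inclusion hCN c) ∈
        centralizerIn S (ψ3.comp (Subgroup.inclusion hU1N)).range := by
      intro c
      refine ⟨map_mem F hψ3 _, Subgroup.mem_centralizer_iff.mpr ?_⟩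
      rintro _ ⟨u, rfl⟩
      show ψ3 (Subgroup.inclusion hU1N u) * ψ3 (Subgroup.inclusion hCN c) =
        ψ3 (Subgroup.inclusion hCN c) * ψ3 (Subgroup.inclusion hU1N u)
      rw [← map_mul, ← map_mul]
      congr 1
      apply Subtype.ext
      exact (Subgroup.mem_centralizer_iff.mp c.2.2) u u.2
    haveI : Finite ↥(centralizerIn S (ψ3.comp (Subgroup.inclusion hU1N)).range) :=
      finite_of_le inf_le_left
    have hbij : Function.Bijective (fun c : ↥(centralizerIn S U1) =>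
        (⟨ψ3 (Subgroup.inclusion hCN c), hfmem c⟩ :
          ↥(centralizerIn S (ψ3.comp (Subgroup.inclusion hU1N)).range))) := by
      apply Function.Injective.bijective_of_nat_card_le _ hcard
      intro a b hab
      have h1 : ψ3 (Subgroup.inclusion hCN a) = ψ3 (Subgroup.inclusion hCN b) :=
        congrArg Subtype.val hab
      have h2 := F.injective_of_mem hψ3 h1
      exact Subtype.ext (congrArg (fun t : ↥(normalizerIn S (U1 ⊔ centralizerIn S U1)) => (t : Ω)) h2)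
    intro x hx
    have hxU2 : x ∈ centralizerIn S (ψ3.comp (Subgroup.inclusion hU1N)).range := by
      refine ⟨hx.1, Subgroup.mem_centralizer_iff.mpr ?_⟩
      rintro _ ⟨u, rfl⟩
      refine (Subgroup.mem_centralizer_iff.mp hx.2) _ ?_
      rw [← hrange]
      exact ⟨Subgroup.inclusion le_sup_left u, rfl⟩
    obtain ⟨c, hc⟩ := hbij.2 ⟨x, hxU2⟩
    have hc' : ψ3 (Subgroup.inclusion hCN c) = x := congrArg Subtype.val hc
    rw [← hrange]
    exact ⟨Subgroup.inclusion le_sup_right c, hc'⟩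
  · have hmap : ∀ n : ↥(normalizerIn S (U1 ⊔ centralizerIn S U1)),
        ψ3 n ∈ normalizerIn S ρ3.range := by
      intro n
      refine Cfsg.Agent.H85.map_normalizer_mem F hψ3 ?_ ?_ n
      · intro x hx
        rw [← hrange]
        exact ⟨⟨x, hx⟩, rfl⟩
      · intro t ht
        rw [← hrange] at ht
        obtain ⟨x, rfl⟩ := ht
        exact ⟨Subgroup.inclusion hQ1N x, x.2, rfl⟩
    haveI : Finite ↥(normalizerIn S ρ3.range) := finite_of_le inf_le_left
    exact Nat.card_le_card_of_injective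
      (fun n : ↥(normalizerIn S (U1 ⊔ centralizerIn S U1)) =>
        (⟨ψ3 n, hmap n⟩ : ↥(normalizerIn S ρ3.range)))
      (fun a b hab => F.injective_of_mem hψ3 (congrArg Subtype.val hab))

/-- The climb: given the maps on subgroups of order `> m`, the `F`-automorphisms of `U T` fix `z`
for every `T ≤ S` of order `> m` containing `z`. -/
theorem climb [Finite S] {p : ℕ} [Fact p.Prime] (hS : IsPGroup p S) (F : FusionSystem S)
    (hF : F.IsSaturated p) (U : Subgroup Ω → Subgroup Ω) (hU_le : ∀ T, U T ≤ T)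
    (hU_Z : ∀ T, T ≤ S → T ⊓ Subgroup.centralizer (T : Set Ω) ≤ U T)
    (hU_eq : ∀ (T : Subgroup Ω) (θ : T →* Ω), θ ∈ F.Hom T →
      ∀ x : T, (x : Ω) ∈ U T ↔ θ x ∈ U θ.range)
    {z : Ω} (hzS : z ∈ S) (hzC : ∀ g ∈ S, g * z * g⁻¹ = z) (hz : AutFix F z (U S))
    (hloc : ∀ Y, F.IsFullyAutomized p Y → F.IsReceptive Y → F.IsCentric Y → LocCond p F U z Y)
    (m : ℕ) (IH : ∀ R : Subgroup Ω, m < Nat.card R → F.Hom R ⊆ (fixSys F z hzC).Hom R) :
    ∀ (n : ℕ) (T : Subgroup Ω), T ≤ S → z ∈ T → m < Nat.card T → Nat.card S ≤ Nat.card T + n →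
      AutFix F z (U T) := by
  have hzU : ∀ T : Subgroup Ω, T ≤ S → z ∈ T → z ∈ U T := by
    intro T hTS hzT
    exact hU_Z T hTS ⟨hzT, Subgroup.mem_centralizer_iff.mpr fun t ht => central_comm hzC (hTS ht)⟩
  intro n
  induction n with
  | zero =>
    intro T hTS _ _ hn
    have hTeq : T = S := Subgroup.eq_of_le_of_card_ge hTS (by simpa using hn)
    rw [hTeq]
    exact hz
  | succ n ih =>
    intro T hTS hzT hm hn
    by_cases hTeq : T = S
    · rw [hTeq]
      exact hz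
    have hlt : Nat.card T < Nat.card (normalizerIn S T) := card_lt_card_normalizerIn hS hTS hTeq
    have hU0S : U T ≤ S := (hU_le T).trans hTS
    have hNle : normalizerIn S T ≤ normalizerIn S (U T) := normalizerIn_le_U F U hU_le hU_eq hTS
    haveI : Finite ↥(normalizerIn S (U T)) := finite_of_le inf_le_left
    have hcard0 : Nat.card (normalizerIn S T) ≤ Nat.card (normalizerIn S (U T)) :=
      Subgroup.card_le_of_le hNle
    obtain ⟨ρ, hρ, hfa1, hrec1⟩ := exists_far F hF hU0S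
    obtain ⟨χ, hχ, hχr, ψ, hψ, hψx⟩ := exists_extension_normalizer hS F hρ hfa1 hrec1
    have hψfix := IH _ (by omega : m < Nat.card (normalizerIn S (U T))) hψ
    have hTN0 : T ≤ normalizerIn S (U T) := (le_normalizerIn hTS).trans hNle
    have hψz : ψ ⟨z, hTN0 hzT⟩ = z := fixSys_fix F hzC hψfix _
    have hψT : ψ.comp (Subgroup.inclusion hTN0) ∈ F.Hom T := restrict_mem F hψ hTN0
    have hT1S : (ψ.comp (Subgroup.inclusion hTN0)).range ≤ S := range_le F hψT
    have hT1card : Nat.card (ψ.comp (Subgroup.inclusion hTN0)).range = Nat.card T :=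
      card_range F hψT
    have hzT1 : z ∈ (ψ.comp (Subgroup.inclusion hTN0)).range := ⟨⟨z, hzT⟩, hψz⟩
    have hUT : U T ≤ T := hU_le T
    have hkey := hU_eq T _ hψT
    have hr1 : ((ψ.comp (Subgroup.inclusion hTN0)).comp (Subgroup.inclusion hUT)).range =
        U (ψ.comp (Subgroup.inclusion hTN0)).range := by
      apply le_antisymm
      · rintro _ ⟨x, rfl⟩
        exact (hkey (Subgroup.inclusion hUT x)).mp x.2
      · intro y hy
        obtain ⟨x, rfl⟩ := (hU_le _) hy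
        exact ⟨⟨x, (hkey x).mpr hy⟩, rfl⟩
    have hr2 : ((ψ.comp (Subgroup.inclusion hTN0)).comp (Subgroup.inclusion hUT)).range =
        ρ.range := range_restrict_eq hχr (hUT.trans hTN0) hψx
    have hU1eq : U (ψ.comp (Subgroup.inclusion hTN0)).range = ρ.range := hr1.symm.trans hr2
    have hfa1' : F.IsFullyAutomized p (U (ψ.comp (Subgroup.inclusion hTN0)).range) := by
      rw [hU1eq]
      exact hfa1
    have hrec1' : F.IsReceptive (U (ψ.comp (Subgroup.inclusion hTN0)).range) := by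
      rw [hU1eq]
      exact hrec1
    have hzUT : z ∈ U T := hzU T hTS hzT
    refine autFix_of_map F hψT hUT hzUT hψz ?_
    rw [hr1]
    apply autFix_of_sup_centralizer F hrec1'
    have hN1 : normalizerIn S (ψ.comp (Subgroup.inclusion hTN0)).range ≤
        normalizerIn S (U (ψ.comp (Subgroup.inclusion hTN0)).range ⊔
          centralizerIn S (U (ψ.comp (Subgroup.inclusion hTN0)).range)) :=
      (normalizerIn_le_U F U hU_le hU_eq hT1S).trans (normalizerIn_le_sup_centralizer S _)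
    have hT1ne : (ψ.comp (Subgroup.inclusion hTN0)).range ≠ S := by
      intro h
      apply hTeq
      refine Subgroup.eq_of_le_of_card_ge hTS ?_
      rw [← hT1card, h]
    have hlt1 := card_lt_card_normalizerIn hS hT1S hT1ne
    haveI : Finite ↥(normalizerIn S (U (ψ.comp (Subgroup.inclusion hTN0)).range ⊔
        centralizerIn S (U (ψ.comp (Subgroup.inclusion hTN0)).range))) := finite_of_le inf_le_left
    have hcard1 := Subgroup.card_le_of_le hN1
    refine autFix_Q1 hS F hF hzS hzC hrec1' m IH (by omega) ?_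
    intro Q2 hfa2 hrec2 hcen2 hcard2
    have hQ2S : Q2 ≤ S := hrec2.1
    have hzQ2 : z ∈ Q2 :=
      hcen2.2 Q2 ⟨Q2.subtype, subtype_mem F hQ2S, Subgroup.range_subtype Q2⟩
        ⟨hzS, Subgroup.mem_centralizer_iff.mpr fun t ht => central_comm hzC (hQ2S ht)⟩
    have hzT2 : z ∈ normalizerIn S Q2 := le_normalizerIn hQ2S hzQ2
    have hT2 := ih (normalizerIn S Q2) inf_le_left hzT2 (by omega) (by omega)
    exact star hS F hF U hU_le hfa2 hrec2 hcen2 (hzU _ inf_le_left hzT2)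
      (hloc Q2 hfa2 hrec2 hcen2) hT2

/-- Every map of `F` fixes `z`. -/
theorem all_fix [Finite S] {p : ℕ} [Fact p.Prime] (hS : IsPGroup p S) (F : FusionSystem S)
    (hF : F.IsSaturated p) (U : Subgroup Ω → Subgroup Ω) (hU_le : ∀ T, U T ≤ T)
    (hU_Z : ∀ T, T ≤ S → T ⊓ Subgroup.centralizer (T : Set Ω) ≤ U T)
    (hU_eq : ∀ (T : Subgroup Ω) (θ : T →* Ω), θ ∈ F.Hom T →
      ∀ x : T, (x : Ω) ∈ U T ↔ θ x ∈ U θ.range)
    {z : Ω} (hzS : z ∈ S) (hzC : ∀ g ∈ S, g * z * g⁻¹ = z) (hz : AutFix F z (U S))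
    (hloc : ∀ Y, F.IsFullyAutomized p Y → F.IsReceptive Y → F.IsCentric Y → LocCond p F U z Y) :
    ∀ P : Subgroup Ω, F.Hom P ⊆ (fixSys F z hzC).Hom P := by
  refine Cfsg.Agent.Lib.Helper87.FSAlperin.alperin_induction hS F hF (fixSys F z hzC) ?_
  intro Y hfa hrec IH α hα hr
  apply mem_fixSys_of_aut F hzC hα hr
  intro hzY
  have hYS : Y ≤ S := hrec.1
  by_cases hc : F.IsCentric Y
  · have hzT : z ∈ normalizerIn S Y := le_normalizerIn hYS hzY
    have hzU : z ∈ U (normalizerIn S Y) :=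
      hU_Z _ inf_le_left ⟨hzT, Subgroup.mem_centralizer_iff.mpr fun t ht =>
        central_comm hzC ht.1⟩
    have hT : AutFix F z (U (normalizerIn S Y)) := by
      by_cases hYeq : Y = S
      · have e : normalizerIn S Y = S := by
          rw [hYeq]
          exact inf_eq_left.mpr Subgroup.le_normalizer
        rw [e]
        exact hz
      · have hlt := card_lt_card_normalizerIn hS hYS hYeq
        exact climb hS F hF U hU_le hU_Z hU_eq hzS hzC hz hloc (Nat.card Y) IH (Nat.card S)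
          (normalizerIn S Y) inf_le_left hzT hlt (Nat.le_add_left _ _)
    exact star hS F hF U hU_le hfa hrec hc hzU (hloc Y hfa hrec hc) hT α hα hr hzY
  · obtain ⟨R, hYR, hlt, α', hα', hext⟩ :=
      Cfsg.Agent.Lib.Helper88.AlpCentric.extends_of_not_centric F hrec hα hr hc
    have h1 := IH R hlt hα'
    have h2 : α' ⟨z, hYR hzY⟩ = z := fixSys_fix F hzC h1 _
    have h3 := hext ⟨z, hzY⟩
    exact h3.symm.trans h2

/-- An element of `Z(S)` fixed by every map of `F` lies in the centre of `F`. -/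
theorem mem_center_of_all_fix [Finite S] {p : ℕ} (F : FusionSystem S) (hF : F.IsSaturated p)
    {z : Ω} (hzS : z ∈ S) (hzC : ∀ g ∈ S, g * z * g⁻¹ = z)
    (h : ∀ P : Subgroup Ω, F.Hom P ⊆ (fixSys F z hzC).Hom P) : z ∈ F.center := by
  have hcen : F.IsCentral (Subgroup.zpowers z) := by
    refine ⟨(Subgroup.zpowers_le).mpr hzS, fun P φ hφ => ?_⟩
    have hPS : P ≤ S := dom_le F hφ
    have hP'S : φ.range ≤ S := range_le F hφ
    obtain ⟨ρ, hρ, hfa, hrec⟩ := exists_far F hF hP'S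
    have hφr : ∀ x : P, φ x ∈ φ.range := fun x => ⟨x, rfl⟩
    have hθ : ρ.comp (φ.codRestrict φ.range hφr) ∈ F.Hom P := F.comp_mem hφ hρ hφr
    have hθr : (ρ.comp (φ.codRestrict φ.range hφr)).range = ρ.range := by
      apply le_antisymm
      · rintro _ ⟨x, rfl⟩
        exact ⟨_, rfl⟩
      · rintro _ ⟨⟨_, x, rfl⟩, rfl⟩
        exact ⟨x, rfl⟩
    obtain ⟨ψ1, hψ1, hext1⟩ := Cfsg.Agent.H85.receptive_extend_sup F hrec hθ hθr
    obtain ⟨ψ2, hψ2, hext2⟩ := Cfsg.Agent.H85.receptive_extend_sup F hrec hρ rfl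
    have hzC1 : z ∈ centralizerIn S P :=
      ⟨hzS, Subgroup.mem_centralizer_iff.mpr fun t ht => central_comm hzC (hPS ht)⟩
    have hzC2 : z ∈ centralizerIn S φ.range :=
      ⟨hzS, Subgroup.mem_centralizer_iff.mpr fun t ht => central_comm hzC (hP'S ht)⟩
    have hD : P ⊔ Subgroup.zpowers z ≤ P ⊔ centralizerIn S P :=
      sup_le_sup le_rfl ((Subgroup.zpowers_le).mpr hzC1)
    have hD' : φ.range ⊔ Subgroup.zpowers z ≤ φ.range ⊔ centralizerIn S φ.range :=
      sup_le_sup le_rfl ((Subgroup.zpowers_le).mpr hzC2)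
    have hψ1' : ψ1.comp (Subgroup.inclusion hD) ∈ F.Hom (P ⊔ Subgroup.zpowers z) :=
      restrict_mem F hψ1 hD
    have hψ2' : ψ2.comp (Subgroup.inclusion hD') ∈ F.Hom (φ.range ⊔ Subgroup.zpowers z) :=
      restrict_mem F hψ2 hD'
    have hf1 := h _ hψ1'
    have hf2 := h _ hψ2'
    have hzD : z ∈ P ⊔ Subgroup.zpowers z := Subgroup.mem_sup_right (Subgroup.mem_zpowers z)
    have hzD' : z ∈ φ.range ⊔ Subgroup.zpowers z :=
      Subgroup.mem_sup_right (Subgroup.mem_zpowers z)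
    have h1P : ∀ x : P, (ψ1.comp (Subgroup.inclusion hD)) (Subgroup.inclusion le_sup_left x) =
        ρ ⟨φ x, hφr x⟩ := fun x => hext1 x
    have h2P : ∀ y : φ.range,
        (ψ2.comp (Subgroup.inclusion hD')) (Subgroup.inclusion le_sup_left y) = ρ y :=
      fun y => hext2 y
    have h1z : ∀ x : ↥(P ⊔ Subgroup.zpowers z), (x : Ω) ∈ Subgroup.zpowers z →
        (ψ1.comp (Subgroup.inclusion hD)) x = x :=
      fun x hx => fixSys_fix_zpowers F hzC hf1 hzD x hx
    have h2z : ∀ x : ↥(φ.range ⊔ Subgroup.zpowers z), (x : Ω) ∈ Subgroup.zpowers z →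
        (ψ2.comp (Subgroup.inclusion hD')) x = x :=
      fun x hx => fixSys_fix_zpowers F hzC hf2 hzD' x hx
    have hclaim : ∀ x : ↥(P ⊔ Subgroup.zpowers z),
        (ψ1.comp (Subgroup.inclusion hD)) x ∈ (ψ2.comp (Subgroup.inclusion hD')).range := by
      have hle : P.subgroupOf (P ⊔ Subgroup.zpowers z) ⊔
          (Subgroup.zpowers z).subgroupOf (P ⊔ Subgroup.zpowers z) ≤
          ((ψ2.comp (Subgroup.inclusion hD')).range).comap (ψ1.comp (Subgroup.inclusion hD)) := by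
        refine sup_le ?_ ?_
        · intro x hx
          rw [Subgroup.mem_subgroupOf] at hx
          show (ψ1.comp (Subgroup.inclusion hD)) x ∈ (ψ2.comp (Subgroup.inclusion hD')).range
          have e : x = Subgroup.inclusion le_sup_left (⟨(x : Ω), hx⟩ : P) := Subtype.ext rfl
          rw [e, h1P]
          exact ⟨Subgroup.inclusion le_sup_left ⟨φ ⟨x, hx⟩, hφr _⟩, h2P _⟩
        · intro x hx
          rw [Subgroup.mem_subgroupOf] at hx
          show (ψ1.comp (Subgroup.inclusion hD)) x ∈ (ψ2.comp (Subgroup.inclusion hD')).range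
          rw [h1z x hx]
          exact ⟨⟨x, Subgroup.mem_sup_right hx⟩, h2z _ hx⟩
      intro x
      have hx : x ∈ P.subgroupOf (P ⊔ Subgroup.zpowers z) ⊔
          (Subgroup.zpowers z).subgroupOf (P ⊔ Subgroup.zpowers z) := by
        rw [← Subgroup.subgroupOf_sup le_sup_left le_sup_right, Subgroup.subgroupOf_self]
        exact Subgroup.mem_top x
      exact hle hx
    obtain ⟨σ, hσ, -, hinv, -, -⟩ := exists_inv F hψ2'
    refine ⟨σ.comp ((ψ1.comp (Subgroup.inclusion hD)).codRestrict _ hclaim),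
      F.comp_mem hψ1' hσ hclaim, ?_, ?_⟩
    · intro x
      show σ ⟨(ψ1.comp (Subgroup.inclusion hD)) (Subgroup.inclusion le_sup_left x), hclaim _⟩ =
        φ x
      have e : (⟨(ψ1.comp (Subgroup.inclusion hD)) (Subgroup.inclusion le_sup_left x),
          hclaim _⟩ : (ψ2.comp (Subgroup.inclusion hD')).range) =
          ⟨(ψ2.comp (Subgroup.inclusion hD')) (Subgroup.inclusion le_sup_left ⟨φ x, hφr x⟩),
            ⟨_, rfl⟩⟩ := Subtype.ext ((h1P x).trans (h2P _).symm)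
      rw [e, hinv]
      rfl
    · intro x
      show σ ⟨(ψ1.comp (Subgroup.inclusion hD)) (Subgroup.inclusion le_sup_right x), hclaim _⟩ =
        x
      have e : (⟨(ψ1.comp (Subgroup.inclusion hD)) (Subgroup.inclusion le_sup_right x),
          hclaim _⟩ : (ψ2.comp (Subgroup.inclusion hD')).range) =
          ⟨(ψ2.comp (Subgroup.inclusion hD')) (Subgroup.inclusion le_sup_right x),
            ⟨_, rfl⟩⟩ :=
        Subtype.ext ((h1z _ x.2).trans (h2z (Subgroup.inclusion le_sup_right x) x.2).symm)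
      rw [e, hinv]
      rfl
  exact (le_sSup (show Subgroup.zpowers z ∈ {Q : Subgroup Ω | F.IsCentral Q} from hcen))
    (Subgroup.mem_zpowers z)

/-- **The weak-closure engine.** -/
theorem engine [Finite S] {p : ℕ} [Fact p.Prime] (hS : IsPGroup p S) (F : FusionSystem S)
    (hF : F.IsSaturated p) (U : Subgroup Ω → Subgroup Ω) (hU_le : ∀ T, U T ≤ T)
    (hU_Z : ∀ T, T ≤ S → T ⊓ Subgroup.centralizer (T : Set Ω) ≤ U T)
    (hU_eq : ∀ (T : Subgroup Ω) (θ : T →* Ω), θ ∈ F.Hom T →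
      ∀ x : T, (x : Ω) ∈ U T ↔ θ x ∈ U θ.range)
    {z : Ω} (hzS : z ∈ S) (hzC : ∀ g ∈ S, g * z * g⁻¹ = z) (hz : AutFix F z (U S))
    (hloc : ∀ Y, F.IsFullyAutomized p Y → F.IsReceptive Y → F.IsCentric Y → LocCond p F U z Y) :
    z ∈ F.center :=
  mem_center_of_all_fix F hF hzS hzC (all_fix hS F hF U hU_le hU_Z hU_eq hzS hzC hz hloc)

end engine

end Cfsg.Agent.Lib.Helper10.FusWC
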