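import Mathlib
import Cfsg.Prelude.Def_FusionSystem
import Cfsg.Prelude.Def_PLocal
import Cfsg.Agent.Lib.Helper10.AgemoFus2
import Cfsg.Agent.Lib.Helper10.FusWC
import Cfsg.Agent.H85.Core
import Cfsg.Agent.H85.KL1

/-!
# The generation theorem `F = ⟨C_F(℧¹(Z(S))), N_F(J(S))⟩`

The induction: over all saturated fusion systems `F` on finite `p`-subgroups `S` of `Ω` with a
normal subgroup `Q`, ordered by `2 |S| - |Q|`.
-/

set_option autoImplicit false

namespace Cfsg.Agent.Lib.Helper10.AgemoMain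

open Cfsg Cfsg.FusionSystem
open Cfsg.Agent.Lib.Helper10.Thompson Cfsg.Agent.Lib.Helper10.AgemoFus1
open Cfsg.Agent.Lib.Helper10.AgemoFus2
open Cfsg.Agent.Lib.Helper87.FSBasic Cfsg.Agent.Lib.Helper87.FSSat Cfsg.Agent.Lib.Helper87.FSNormal
open scoped Pointwise

universe u

section support

variable {Ω : Type*} [Group Ω] {S : Subgroup Ω}

theorem thompson_le (T : Subgroup Ω) : thompsonSubgroupAOf T ≤ T := Subgroup.map_subtype_le _

/-- `N_S(T)` normalizes `J(T)`. -/
theorem normalizerIn_le_thompson (S T : Subgroup Ω) [Finite T] :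
    normalizerIn S T ≤ normalizerIn S (thompsonSubgroupAOf T) := by
  have key : ∀ g ∈ Subgroup.normalizer (T : Set Ω), ∀ t ∈ thompsonSubgroupAOf T,
      g * t * g⁻¹ ∈ thompsonSubgroupAOf T := by
    intro g hg t ht
    have hinj : Function.Injective (conjHom T g) := by
      intro a b hab
      have h1 : g * (a : Ω) * g⁻¹ = g * (b : Ω) * g⁻¹ := hab
      exact Subtype.ext (mul_left_cancel (mul_right_cancel h1))
    have h := thompson_maps_into (thompson_le T) (conjHom T g) hinj (fun x _ => by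
      show g * (x : Ω) * g⁻¹ ∈ T
      exact (Subgroup.mem_normalizer_iff.mp hg x).mp x.2) ⟨t, thompson_le T ht⟩ ht
    exact h
  rintro g ⟨hgS, hgN⟩
  refine ⟨hgS, Cfsg.Agent.H85.mem_normalizer_of_forall (key g hgN) (fun t ht => ?_)⟩
  have h := key g⁻¹ (Subgroup.inv_mem _ hgN) t ht
  rwa [inv_inv] at h

/-- A map of `F` defined on `R ⊇ Q` maps a strongly closed `Q` onto itself. -/
theorem sc_surj [Finite S] (F : FusionSystem S) {Q R : Subgroup Ω} (hQ : F.StronglyClosed Q)
    (hQR : Q ≤ R) {ψ : R →* Ω} (hψ : ψ ∈ F.Hom R) :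
    ∀ q ∈ Q, ∃ q₀ : R, (q₀ : Ω) ∈ Q ∧ ψ q₀ = q := by
  have : Finite Q := finite_of_le hQ.1
  let f : Q → Q := fun q₀ =>
    ⟨ψ (Subgroup.inclusion hQR q₀), stronglyClosed_maps F hQ hψ _ q₀.2⟩
  have hinj : Function.Injective f := by
    intro a b hab
    have h1 : ψ (Subgroup.inclusion hQR a) = ψ (Subgroup.inclusion hQR b) :=
      congrArg Subtype.val hab
    exact Subgroup.inclusion_injective _ (F.injective_of_mem hψ h1)
  intro q hq
  obtain ⟨q₀, hq₀⟩ := (Finite.injective_iff_surjective.mp hinj) ⟨q, hq⟩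
  exact ⟨Subgroup.inclusion hQR q₀, q₀.2, congrArg Subtype.val hq₀⟩

theorem sc_mem_of_map_mem [Finite S] (F : FusionSystem S) {Q R : Subgroup Ω}
    (hQ : F.StronglyClosed Q) (hQR : Q ≤ R) {ψ : R →* Ω} (hψ : ψ ∈ F.Hom R) (x : R)
    (hx : ψ x ∈ Q) : (x : Ω) ∈ Q := by
  obtain ⟨q₀, hq₀, e⟩ := sc_surj F hQ hQR hψ _ hx
  have h := F.injective_of_mem hψ e
  rw [← h]
  exact hq₀

theorem agemo_le (p : ℕ) (S : Subgroup Ω) :
    powerClosure p 1 (S ⊓ Subgroup.centralizer (S : Set Ω)) ≤ S :=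
  (Cfsg.Agent.Lib.Helper10.AgemoA.powerClosure_le _).trans inf_le_left

theorem le_centralizer_agemo (p : ℕ) (S : Subgroup Ω) :
    S ≤ Subgroup.centralizer
      ((powerClosure p 1 (S ⊓ Subgroup.centralizer (S : Set Ω)) : Subgroup Ω) : Set Ω) := by
  rw [Subgroup.le_centralizer_iff]
  exact (Cfsg.Agent.Lib.Helper10.AgemoA.powerClosure_le _).trans inf_le_right

theorem agemo_mono (p : ℕ) {T S : Subgroup Ω} (hTS : T ≤ S)
    (hZ : S ⊓ Subgroup.centralizer (S : Set Ω) ≤ T) :
    powerClosure p 1 (S ⊓ Subgroup.centralizer (S : Set Ω)) ≤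
      powerClosure p 1 (T ⊓ Subgroup.centralizer (T : Set Ω)) := by
  apply Cfsg.Agent.Lib.Helper10.AgemoA.powerClosure_mono
  exact le_inf hZ (inf_le_right.trans (Subgroup.centralizer_le hTS))

theorem center_le_normalizerIn {S K : Subgroup Ω} (hKS : K ≤ S) :
    S ⊓ Subgroup.centralizer (S : Set Ω) ≤ normalizerIn S K := by
  intro z hz
  have hc : ∀ t ∈ K, t * z = z * t := fun t ht =>
    (Subgroup.mem_centralizer_iff.mp hz.2) t (hKS ht)
  refine ⟨hz.1, Cfsg.Agent.H85.mem_normalizer_of_forall (fun t ht => ?_) (fun t ht => ?_)⟩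
  · have e : z * t * z⁻¹ = t := by
      rw [← hc t ht]
      group
    rw [e]
    exact ht
  · have e : z⁻¹ * t * z = t := by
      rw [mul_assoc, hc t ht]
      group
    rw [e]
    exact ht

theorem le_normalizer_centralizerIn {Q : Subgroup Ω}
    (hQn : S ≤ Subgroup.normalizer (Q : Set Ω)) :
    S ≤ Subgroup.normalizer ((centralizerIn S Q : Subgroup Ω) : Set Ω) := by
  have key : ∀ g ∈ S, ∀ c ∈ centralizerIn S Q, g * c * g⁻¹ ∈ centralizerIn S Q := by
    intro g hg c hc
    refine ⟨S.mul_mem (S.mul_mem hg hc.1) (S.inv_mem hg), Subgroup.mem_centralizer_iff.mpr ?_⟩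
    intro u hu
    have hu' : g⁻¹ * u * g ∈ Q := by
      apply (Subgroup.mem_normalizer_iff.mp (hQn hg) (g⁻¹ * u * g)).mpr
      have e : g * (g⁻¹ * u * g) * g⁻¹ = u := by group
      rw [e]
      exact hu
    have hcomm := (Subgroup.mem_centralizer_iff.mp hc.2) (g⁻¹ * u * g) hu'
    calc u * (g * c * g⁻¹) = g * ((g⁻¹ * u * g) * c) * g⁻¹ := by group
      _ = g * (c * (g⁻¹ * u * g)) * g⁻¹ := by rw [hcomm]
      _ = g * c * g⁻¹ * u := by group
  intro g hg
  refine Cfsg.Agent.H85.mem_normalizer_of_forall (key g hg) (fun t ht => ?_)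
  have h := key g⁻¹ (S.inv_mem hg) t ht
  rwa [inv_inv] at h

/-- If `C_S(Q)` is not contained in `Y`, some element of `C_S(Q)` outside `Y` normalizes `Y`. -/
theorem exists_centralizer_normalizing [Finite S] {p : ℕ} [Fact p.Prime] (hS : IsPGroup p S)
    {Q Y : Subgroup Ω} (hQn : S ≤ Subgroup.normalizer (Q : Set Ω)) (hYS : Y ≤ S)
    (h : ¬ centralizerIn S Q ≤ Y) :
    ∃ x ∈ centralizerIn S Q, x ∈ Subgroup.normalizer (Y : Set Ω) ∧ x ∉ Y := by
  have hWS : Y ⊔ centralizerIn S Q ≤ S := sup_le hYS inf_le_left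
  have : Finite ↥(Y ⊔ centralizerIn S Q) := finite_of_le hWS
  have hWp : IsPGroup p ↥(Y ⊔ centralizerIn S Q) := hS.to_le hWS
  have hne : Y ≠ Y ⊔ centralizerIn S Q := fun e => h (le_sup_right.trans e.ge)
  obtain ⟨g, hgW, hgN, hgY⟩ := exists_normalizer_not_mem hWp le_sup_left hne
  have hYC : Y ≤ Subgroup.normalizer ((centralizerIn S Q : Subgroup Ω) : Set Ω) :=
    hYS.trans (le_normalizer_centralizerIn hQn)
  have hset : ((Y ⊔ centralizerIn S Q : Subgroup Ω) : Set Ω) =
      (Y : Set Ω) * (centralizerIn S Q : Set Ω) :=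
    Subgroup.coe_mul_of_left_le_normalizer_right Y _ hYC
  have hg' : g ∈ (Y : Set Ω) * (centralizerIn S Q : Set Ω) := by
    rw [← hset]
    exact hgW
  obtain ⟨y, hy, c, hc, rfl⟩ := Set.mem_mul.mp hg'
  refine ⟨c, hc, ?_, ?_⟩
  · have h1 : y⁻¹ * (y * c) ∈ Subgroup.normalizer (Y : Set Ω) :=
      Subgroup.mul_mem _ (Subgroup.inv_mem _ (Subgroup.le_normalizer hy)) hgN
    have e : y⁻¹ * (y * c) = c := by group
    rwa [e] at h1
  · intro hcY
    exact hgY (Y.mul_mem hy hcY)

theorem two_mul_card_le {T S : Subgroup Ω} [Finite S] (h : T ≤ S) (hne : T ≠ S) :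
    2 * Nat.card T ≤ Nat.card S := by
  obtain ⟨k, hk⟩ := Subgroup.card_dvd_of_le h
  have hpos : 0 < Nat.card S := Nat.card_pos
  have hlt : Nat.card T < Nat.card S := by
    by_contra hcon
    exact hne (Subgroup.eq_of_le_of_card_ge h (not_lt.mp hcon))
  rcases k with _ | _ | k
  · simp at hk
    omega
  · simp at hk
    omega
  · rw [hk]
    calc 2 * Nat.card T = Nat.card T * 2 := by ring
      _ ≤ Nat.card T * (k + 1 + 1) := Nat.mul_le_mul_left _ (by omega)

theorem card_lt_sup_left {Q K : Subgroup Ω} [Finite ↥(K ⊔ Q)] (h : ¬ K ≤ Q) :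
    Nat.card Q < Nat.card ↥(K ⊔ Q) := by
  by_contra hcon
  have e : Q = K ⊔ Q := Subgroup.eq_of_le_of_card_ge le_sup_right (not_lt.mp hcon)
  exact h (le_sup_left.trans e.ge)

theorem card_lt_sup_right {Q K : Subgroup Ω} [Finite ↥(Q ⊔ K)] (h : ¬ K ≤ Q) :
    Nat.card Q < Nat.card ↥(Q ⊔ K) := by
  by_contra hcon
  have e : Q = Q ⊔ K := Subgroup.eq_of_le_of_card_ge le_sup_left (not_lt.mp hcon)
  exact h (le_sup_right.trans e.ge)

theorem measure_lt {S T Q Q' : Subgroup Ω} [Finite S] (hTS : T ≤ S) (hQS : Q ≤ S)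
    (hQ'T : Q' ≤ T) (hlt : Nat.card Q < Nat.card Q') :
    2 * Nat.card T - Nat.card Q' < 2 * Nat.card S - Nat.card Q := by
  have hpos : 0 < Nat.card S := Nat.card_pos
  have h1 : Nat.card Q ≤ Nat.card S := Subgroup.card_le_of_le hQS
  have : Finite T := finite_of_le hTS
  have h2 : Nat.card Q' ≤ Nat.card T := Subgroup.card_le_of_le hQ'T
  by_cases hTeq : T = S
  · rw [hTeq] at h2 ⊢
    omega
  · have h3 := two_mul_card_le hTS hTeq
    omega

theorem mem_restrictSys (E : FusionSystem S) {T : Subgroup Ω} (hT : T ≤ S) {P : Subgroup Ω}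
    {φ : P →* Ω} (hφ : φ ∈ E.Hom P) (hP : P ≤ T) (hval : ∀ x : P, φ x ∈ T) :
    φ ∈ (restrictSys E T hT).Hom P := ⟨hφ, hP, hval⟩

end support

section main

variable {Ω : Type u} [Group Ω]

/-- The generation statement for `F` and `E` over `S`. -/
def Gen (p : ℕ) (S : Subgroup Ω) (F E : FusionSystem S) : Prop :=
  (∀ P, F.centralizerHom (powerClosure p 1 (S ⊓ Subgroup.centralizer (S : Set Ω))) P ⊆
      E.Hom P) →
    (∀ P, F.normalizerHom (thompsonSubgroupAOf S) P ⊆ E.Hom P) →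
      ∀ P, F.Hom P ⊆ E.Hom P

/-- The induction hypothesis: the generation statement for all data of measure less than `n`. -/
def IH (Ω : Type u) [Group Ω] (p : ℕ) (n : ℕ) : Prop :=
  ∀ (S' : Subgroup Ω) [Finite S'], IsPGroup p S' → ∀ F' : FusionSystem S', F'.IsSaturated p →
    ∀ Q' : Subgroup Ω, F'.IsNormal Q' → 2 * Nat.card S' - Nat.card Q' < n →
      ∀ E' : FusionSystem S', Gen p S' F' E'

/-- The normalizer maps of a subgroup `K` normal in `S` and not contained in `Q` lie in `E`. -/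
theorem sub_normalizer_le {S : Subgroup Ω} [Finite S] {p : ℕ} [Fact p.Prime]
    (hS : IsPGroup p S) (F : FusionSystem S) (hF : F.IsSaturated p) {Q : Subgroup Ω}
    (hQ : F.IsNormal Q) (E : FusionSystem S) (ih : IH Ω p (2 * Nat.card S - Nat.card Q))
    (hC : ∀ P, F.centralizerHom (powerClosure p 1 (S ⊓ Subgroup.centralizer (S : Set Ω))) P ⊆
      E.Hom P)
    (hN : ∀ P, F.normalizerHom (thompsonSubgroupAOf S) P ⊆ E.Hom P)
    {K : Subgroup Ω} (hKS : K ≤ S) (hKn : S ≤ Subgroup.normalizer (K : Set Ω))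
    (hKQ : ¬ K ≤ Q) : ∀ P, F.normalizerHom K P ⊆ E.Hom P := by
  obtain ⟨N', hN', hN'sat, hN'K⟩ := Cfsg.Agent.H85.exists_normalizer_sub hS F hF hKS hKn
  have hQK : Q ≤ normalizerIn S K := fun x hx => ⟨hQ.1 hx, hKn (hQ.1 hx)⟩
  have hN'Q : N'.IsNormal Q := isNormal_sub F hQ hQK N' hQ.1 hN'
  have hsup : N'.IsNormal (K ⊔ Q) := Cfsg.Agent.H85.isNormal_sup N' hN'K hN'Q
  have hsub : ∀ P, N'.Hom P ⊆ F.Hom P := fun P φ hφ => by
    rw [hN' P] at hφ
    exact hφ.1
  have : Finite ↥(K ⊔ Q) := finite_of_le (sup_le hKS hQ.1)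
  have hlt : 2 * Nat.card S - Nat.card ↥(K ⊔ Q) < 2 * Nat.card S - Nat.card Q :=
    measure_lt le_rfl hQ.1 (sup_le hKS hQ.1) (card_lt_sup_left hKQ)
  have key := ih S hS N' hN'sat (K ⊔ Q) hsup hlt E
    (fun P φ hφ => hC P (centralizerHom_mono F N' hsub le_rfl (le_centralizer_agemo p S) P hφ))
    (fun P φ hφ => hN P (normalizerHom_mono F N' hsub le_rfl _ P hφ))
  intro P φ hφ
  apply key P
  rw [hN' P]
  exact hφ

/-- The climb: the normalizer maps of `J(T)` lie in `E` for the subgroups `T ≥ Q` of order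
greater than `m` in which `Q` is not self-centralizing, given the maps of `F` on the subgroups
of order greater than `m`. -/
theorem climb {S : Subgroup Ω} [Finite S] {p : ℕ} [Fact p.Prime] (hS : IsPGroup p S)
    (F : FusionSystem S) (hF : F.IsSaturated p) {Q : Subgroup Ω} (hQ : F.IsNormal Q)
    (E : FusionSystem S) (ih : IH Ω p (2 * Nat.card S - Nat.card Q))
    (hC : ∀ P, F.centralizerHom (powerClosure p 1 (S ⊓ Subgroup.centralizer (S : Set Ω))) P ⊆
      E.Hom P)
    (hN : ∀ P, F.normalizerHom (thompsonSubgroupAOf S) P ⊆ E.Hom P)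
    (m : ℕ) (IHm : ∀ R : Subgroup Ω, m < Nat.card R → F.Hom R ⊆ E.Hom R) :
    ∀ (k : ℕ) (T : Subgroup Ω), T ≤ S → Q ≤ T → ¬ centralizerIn T Q ≤ Q → m < Nat.card T →
      Nat.card S ≤ Nat.card T + k →
      ∀ P, F.normalizerHom (thompsonSubgroupAOf T) P ⊆ E.Hom P := by
  have hQsc : F.StronglyClosed Q := stronglyClosed_of_isNormal F hQ
  intro k
  induction k with
  | zero =>
    intro T hTS _ _ _ hk
    have hTeq : T = S := Subgroup.eq_of_le_of_card_ge hTS (by simpa using hk)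
    rw [hTeq]
    exact hN
  | succ k ihk =>
    intro T hTS hQT hnc hm hk
    by_cases hTeq : T = S
    · rw [hTeq]
      exact hN
    have hTfin : Finite T := finite_of_le hTS
    have hlt : Nat.card T < Nat.card (normalizerIn S T) := card_lt_card_normalizerIn hS hTS hTeq
    have hJT : thompsonSubgroupAOf T ≤ T := thompson_le T
    have hJS : thompsonSubgroupAOf T ≤ S := hJT.trans hTS
    have hNle : normalizerIn S T ≤ normalizerIn S (thompsonSubgroupAOf T) :=
      normalizerIn_le_thompson S T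
    have hNJfin : Finite ↥(normalizerIn S (thompsonSubgroupAOf T)) := finite_of_le inf_le_left
    have hcard0 : Nat.card (normalizerIn S T) ≤
        Nat.card (normalizerIn S (thompsonSubgroupAOf T)) := Subgroup.card_le_of_le hNle
    obtain ⟨ρ, hρ, hfa, hrec⟩ := exists_far F hF hJS
    obtain ⟨χ, hχ, hχr, ψ, hψ, hψx⟩ := exists_extension_normalizer hS F hρ hfa hrec
    have hψE : ψ ∈ E.Hom (normalizerIn S (thompsonSubgroupAOf T)) := IHm _ (by omega) hψ
    have hTN : T ≤ normalizerIn S (thompsonSubgroupAOf T) := (le_normalizerIn hTS).trans hNle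
    have hJN : thompsonSubgroupAOf T ≤ normalizerIn S (thompsonSubgroupAOf T) := hJT.trans hTN
    have hK1 : ∀ x : ↥(normalizerIn S (thompsonSubgroupAOf T)),
        (x : Ω) ∈ thompsonSubgroupAOf T → ψ x ∈ ρ.range := by
      intro x hx
      have h1 : ψ x = χ ⟨ρ ⟨x, hx⟩, ⟨⟨x, hx⟩, rfl⟩⟩ := hψx ⟨x, hx⟩ x.2
      rw [h1]
      exact (SetLike.ext_iff.mp hχr _).mp ⟨_, rfl⟩
    have hK2 : ∀ t ∈ ρ.range, ∃ x : ↥(normalizerIn S (thompsonSubgroupAOf T)),
        (x : Ω) ∈ thompsonSubgroupAOf T ∧ ψ x = t := by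
      intro t ht
      obtain ⟨⟨_, j, rfl⟩, rfl⟩ := (SetLike.ext_iff.mp hχr t).mpr ht
      exact ⟨⟨j, hJN j.2⟩, j.2, hψx j (hJN j.2)⟩
    apply normalizerHom_transport F E hψ hψE hK1 hK2
    have hKS : ρ.range ≤ S := range_le F hρ
    have hfn : F.IsFullyNormalized ρ.range :=
      Cfsg.Agent.H84.fullyNormalized_of_fa_receptive hS F hfa hrec
    obtain ⟨NK, hNK⟩ := Cfsg.Agent.S5096.result F ρ.range hKS
    have hNKsat : NK.IsSaturated p := Cfsg.Agent.S5098.result p hS F hF ρ.range hfn NK hNK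
    have hNKK : NK.IsNormal ρ.range := Cfsg.Agent.H84.normalizerSystem_isNormal F hKS NK hNK
    have hT''S : normalizerIn S ρ.range ≤ S := inf_le_left
    have hT''fin : Finite ↥(normalizerIn S ρ.range) := finite_of_le hT''S
    have hT''p : IsPGroup p (normalizerIn S ρ.range) := hS.to_le hT''S
    have hψN : ∀ n, ψ n ∈ normalizerIn S ρ.range := fun n =>
      Cfsg.Agent.H85.map_normalizer_mem F hψ hK1 hK2 n
    have hQN : Q ≤ normalizerIn S (thompsonSubgroupAOf T) := hQT.trans hTN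
    have hQT'' : Q ≤ normalizerIn S ρ.range := by
      intro q hq
      obtain ⟨q₀, -, e⟩ := sc_surj F hQsc hQN hψ q hq
      rw [← e]
      exact hψN q₀
    have hnc'' : ¬ centralizerIn (normalizerIn S ρ.range) Q ≤ Q := by
      intro hle
      apply hnc
      intro x hx
      have hxN : x ∈ normalizerIn S (thompsonSubgroupAOf T) := hTN hx.1
      have h1 : ψ ⟨x, hxN⟩ ∈ centralizerIn (normalizerIn S ρ.range) Q := by
        refine ⟨hψN _, Subgroup.mem_centralizer_iff.mpr ?_⟩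
        intro q hq
        obtain ⟨q₀, hq₀, e⟩ := sc_surj F hQsc hQN hψ q hq
        rw [← e, ← map_mul, ← map_mul]
        congr 1
        apply Subtype.ext
        exact (Subgroup.mem_centralizer_iff.mp hx.2) _ hq₀
      exact sc_mem_of_map_mem F hQsc hQN hψ ⟨x, hxN⟩ (hle h1)
    have hKQ : ¬ ρ.range ≤ Q := by
      intro hle
      apply hnc
      intro x hx
      refine mem_of_thompson_le (T := T) (Q := Q) ?_ hx.1 ?_
      · intro j hj
        exact sc_mem_of_map_mem F hQsc hQN hψ ⟨j, hJN hj⟩ (hle (hK1 ⟨j, hJN hj⟩ hj))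
      · intro q hq
        exact ((Subgroup.mem_centralizer_iff.mp hx.2) q hq).symm
    have hNKQ : NK.IsNormal Q := isNormal_sub F hQ hQT'' NK hQT'' hNK
    have hsup : NK.IsNormal (ρ.range ⊔ Q) := Cfsg.Agent.H85.isNormal_sup NK hNKK hNKQ
    have hsub : ∀ P, NK.Hom P ⊆ F.Hom P := fun P φ hφ => by
      rw [hNK P] at hφ
      exact hφ.1
    have hsupT'' : ρ.range ⊔ Q ≤ normalizerIn S ρ.range := hsup.1
    have hsupfin : Finite ↥(ρ.range ⊔ Q) := finite_of_le (hsupT''.trans hT''S)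
    have hmeasure : 2 * Nat.card (normalizerIn S ρ.range) - Nat.card ↥(ρ.range ⊔ Q) <
        2 * Nat.card S - Nat.card Q :=
      measure_lt hT''S hQ.1 hsupT'' (card_lt_sup_left hKQ)
    have hcard'' : Nat.card (normalizerIn S (thompsonSubgroupAOf T)) ≤
        Nat.card (normalizerIn S ρ.range) :=
      Nat.card_le_card_of_injective
        (fun n : ↥(normalizerIn S (thompsonSubgroupAOf T)) =>
          (⟨ψ n, hψN n⟩ : ↥(normalizerIn S ρ.range)))
        (fun a b hab => F.injective_of_mem hψ (congrArg Subtype.val hab))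
    have hZ : S ⊓ Subgroup.centralizer (S : Set Ω) ≤ normalizerIn S ρ.range :=
      center_le_normalizerIn hKS
    have hclimb := ihk (normalizerIn S ρ.range) hT''S hQT'' hnc'' (by omega) (by omega)
    have key := ih (normalizerIn S ρ.range) hT''p NK hNKsat (ρ.range ⊔ Q) hsup hmeasure
      (restrictSys E (normalizerIn S ρ.range) hT''S)
      (fun P φ hφ => mem_restrictSys E hT''S
        (hC P (centralizerHom_mono F NK hsub (agemo_mono p hT''S hZ)
          (le_centralizer_agemo p S) P hφ))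
        (NK.le_of_mem hφ.1).1 (NK.le_of_mem hφ.1).2)
      (fun P φ hφ => mem_restrictSys E hT''S
        (hclimb P (normalizerHom_mono F NK hsub hT''S _ P hφ))
        (NK.le_of_mem hφ.1).1 (NK.le_of_mem hφ.1).2)
    intro P φ hφ
    have h1 : φ ∈ NK.Hom P := by
      rw [hNK P]
      exact hφ
    exact (key P h1).1

/-- The constrained case: `Q` is self-centralizing, so `F` has a model. -/
theorem step_constrained {S : Subgroup Ω} [Finite S] {p : ℕ} [Fact p.Prime]
    (hS : IsPGroup p S) (F : FusionSystem S) (hF : F.IsSaturated p) {Q : Subgroup Ω}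
    (hQ : F.IsNormal Q) (E : FusionSystem S) (ih : IH Ω p (2 * Nat.card S - Nat.card Q))
    (hC : ∀ P, F.centralizerHom (powerClosure p 1 (S ⊓ Subgroup.centralizer (S : Set Ω))) P ⊆
      E.Hom P)
    (hN : ∀ P, F.normalizerHom (thompsonSubgroupAOf S) P ⊆ E.Hom P)
    (hcon : centralizerIn S Q ≤ Q) : ∀ P, F.Hom P ⊆ E.Hom P := by
  have hJS : thompsonSubgroupAOf S ≤ S := thompson_le S
  have hSJ : S ≤ normalizerIn S (thompsonSubgroupAOf S) := fun x hx =>
    normalizerIn_le_thompson S S ⟨hx, Subgroup.le_normalizer hx⟩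
  obtain ⟨G, _, ι, hM, hQnorm, -⟩ := Cfsg.Agent.Lib.Helper87.Model.exists_model hS F hF hQ hcon
  obtain ⟨C, hCn, hCV, hdich⟩ := dich F hM
  have hM' := hM
  obtain ⟨hGfin, hr, ⟨T, hT⟩, hchar⟩ := hM'
  have hQp : IsPGroup p ((Q.subgroupOf S).map ι) := (hS.to_subgroup (Q.subgroupOf S)).map ι
  have hQcore : (Q.subgroupOf S).map ι ≤ pCore p G := Cfsg.Agent.H84.le_pCore p hQnorm hQp
  have hQD' : Q ≤ ((pCore p G).comap ι).map S.subtype := by
    intro q hq
    exact ⟨⟨q, hQ.1 hq⟩, hQcore ⟨⟨q, hQ.1 hq⟩, hq, rfl⟩, rfl⟩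
  have hV : powerClosure p 1 (S ⊓ Subgroup.centralizer (S : Set Ω)) ≤ S := agemo_le p S
  rcases hdich with h1 | h2
  · have hDS : ((ι.range ⊓ C).comap ι).map S.subtype ≤ S := Subgroup.map_subtype_le _
    have hDn := le_normalizer_comap (ι := ι) C
    have hDQ : ¬ ((ι.range ⊓ C).comap ι).map S.subtype ≤ Q := fun h => h1 (h.trans hQD')
    have hND := sub_normalizer_le hS F hF hQ E ih hC hN hDS hDn hDQ
    intro P φ hφ
    obtain ⟨φ₁, hφ₁, φ₂, hφ₂, hcomp⟩ := model_factor F hr T hT C hV (le_centralizer_agemo p S)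
      (fun c hc v => hCV c hc ⟨v, hV v.2⟩ v.2) hφ
    exact comp_mem_of_eq E (hND P hφ₁) (hC _ hφ₂) (fun x => ⟨x, rfl⟩) hcomp
  · have hJD' : thompsonSubgroupAOf S ≤ ((pCore p G).comap ι).map S.subtype :=
      thompson_le_of_maxAb h2
    intro P φ hφ
    apply hN P
    have hP := dom_le F hφ
    obtain ⟨g, hg⟩ := (hr.2 P hP φ (map_mem F hφ)).mp hφ
    have hcoreN : (pCore p G).Normal := Cfsg.Agent.H84.pCore_normal p
    have hgJ : ∀ x : ↥(thompsonSubgroupAOf S), g * ι ⟨x, hJS x.2⟩ * g⁻¹ ∈ ι.range := by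
      intro x
      obtain ⟨s, hs, hsx⟩ := hJD' x.2
      have e : s = ⟨x, hJS x.2⟩ := Subtype.ext hsx
      have h3 : g * ι s * g⁻¹ ∈ (T : Subgroup G) :=
        pCore_le_sylow T (hcoreN.conj_mem _ hs g)
      rw [hT, e] at h3
      exact h3
    obtain ⟨ψ, hψ, hext, hψS, hψn⟩ := realize_sup F hr hJS g hgJ hφ hg
    have hmaps := thompson_maps_into
      (le_sup_right : thompsonSubgroupAOf S ≤ P ⊔ thompsonSubgroupAOf S) ψ
      (F.injective_of_mem hψ) (fun x _ => hψS x)
    refine ⟨hφ, hP.trans hSJ, fun x => hSJ (map_mem F hφ x), ψ, hψ, hext, ?_⟩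
    apply map_eq_of_maps_into F hJS hψ
    intro q
    exact hmaps _ q.2

/-- The non-constrained case, by Alperin induction. -/
theorem step_alperin {S : Subgroup Ω} [Finite S] {p : ℕ} [Fact p.Prime]
    (hS : IsPGroup p S) (F : FusionSystem S) (hF : F.IsSaturated p) {Q : Subgroup Ω}
    (hQ : F.IsNormal Q) (E : FusionSystem S) (ih : IH Ω p (2 * Nat.card S - Nat.card Q))
    (hC : ∀ P, F.centralizerHom (powerClosure p 1 (S ⊓ Subgroup.centralizer (S : Set Ω))) P ⊆
      E.Hom P)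
    (hN : ∀ P, F.normalizerHom (thompsonSubgroupAOf S) P ⊆ E.Hom P)
    (hncon : ¬ centralizerIn S Q ≤ Q) : ∀ P, F.Hom P ⊆ E.Hom P := by
  have hQsc : F.StronglyClosed Q := stronglyClosed_of_isNormal F hQ
  have hQn : S ≤ Subgroup.normalizer (Q : Set Ω) := le_normalizer_of_stronglyClosed F hQsc
  have hJS : thompsonSubgroupAOf S ≤ S := thompson_le S
  have hSJ : S ≤ normalizerIn S (thompsonSubgroupAOf S) := fun x hx =>
    normalizerIn_le_thompson S S ⟨hx, Subgroup.le_normalizer hx⟩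
  refine Cfsg.Agent.Lib.Helper87.FSAlperin.alperin_induction hS F hF E ?_
  intro Y hfa hrec IHY α hα hr
  have hYS : Y ≤ S := hrec.1
  have hYfin : Finite Y := finite_of_le hYS
  have hαY : ∀ x : Y, α x ∈ Y := fun x => (SetLike.ext_iff.mp hr (α x)).mp ⟨x, rfl⟩
  by_cases hc : F.IsCentric Y
  swap
  · obtain ⟨R, hYR, hlt, α', hα', hext⟩ :=
      Cfsg.Agent.Lib.Helper88.AlpCentric.extends_of_not_centric F hrec hα hr hc
    have h1 := IHY R hlt hα'
    exact mem_of_eq E (restrict_mem E h1 hYR) (fun x => (hext x).symm)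
  have hCY : centralizerIn S Y ≤ Y :=
    hc.2 Y ⟨Y.subtype, subtype_mem F hYS, Subgroup.range_subtype Y⟩
  by_cases hYeq : Y = S
  · apply hN Y
    have hJY : thompsonSubgroupAOf S ≤ Y := by
      rw [hYeq]
      exact hJS
    refine normalizerHom_of_maps F hα hJY (hYS.trans hSJ) (fun x => hSJ (map_mem F hα x)) ?_
    exact thompson_maps_into hJY α (F.injective_of_mem hα) (fun x _ => map_mem F hα x)
  by_cases hQY : Q ≤ Y
  swap
  · obtain ⟨ψ, hψ, hext, -⟩ := hQ.2 Y α hα
    have hfin : Finite ↥(Y ⊔ Q) := finite_of_le (sup_le hYS hQ.1)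
    have h1 := IHY _ (card_lt_sup_right hQY) hψ
    exact mem_of_eq E (restrict_mem E h1 le_sup_left) (fun x => (hext x).symm)
  by_cases hCQY : centralizerIn S Q ≤ Y
  · have hRY : Q ⊔ centralizerIn S Q ≤ Y := sup_le hQY hCQY
    have hRS : Q ⊔ centralizerIn S Q ≤ S := sup_le hQ.1 inf_le_left
    have hRn : S ≤ Subgroup.normalizer ((Q ⊔ centralizerIn S Q : Subgroup Ω) : Set Ω) := by
      intro s hs
      exact (Cfsg.Agent.Lib.Helper10.FusWC.normalizerIn_le_sup_centralizer S Q ⟨hs, hQn hs⟩).2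
    have hRQ : ¬ Q ⊔ centralizerIn S Q ≤ Q := fun h => hncon (le_sup_right.trans h)
    have hNR := sub_normalizer_le hS F hF hQ E ih hC hN hRS hRn hRQ
    apply hNR Y
    have hSR : S ≤ normalizerIn S (Q ⊔ centralizerIn S Q) := fun s hs => ⟨hs, hRn hs⟩
    refine normalizerHom_of_maps F hα hRY (hYS.trans hSR) (fun x => hSR (map_mem F hα x)) ?_
    have hle : Q ⊔ centralizerIn S Q ≤ ((Q ⊔ centralizerIn S Q).comap α).map Y.subtype := by
      apply sup_le
      · intro q hq
        exact ⟨⟨q, hQY hq⟩,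
          Subgroup.mem_sup_left (stronglyClosed_maps F hQsc hα ⟨q, hQY hq⟩ hq), rfl⟩
      · intro c hc'
        refine ⟨⟨c, hCQY hc'⟩, Subgroup.mem_sup_right
          ⟨map_mem F hα _, Subgroup.mem_centralizer_iff.mpr ?_⟩, rfl⟩
        intro q hq
        obtain ⟨q₀, hq₀, e⟩ := sc_surj F hQsc hQY hα q hq
        rw [← e, ← map_mul, ← map_mul]
        congr 1
        apply Subtype.ext
        exact (Subgroup.mem_centralizer_iff.mp hc'.2) _ hq₀
    intro x hx
    obtain ⟨y, hy, e⟩ := hle hx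
    have e' : y = x := Subtype.ext e
    rw [← e']
    exact hy
  · obtain ⟨x₀, hx₀C, hx₀N, hx₀Y⟩ := exists_centralizer_normalizing hS hQn hYS hCQY
    have hTS : normalizerIn S Y ≤ S := inf_le_left
    have hYT : Y ≤ normalizerIn S Y := le_normalizerIn hYS
    have hQT : Q ≤ normalizerIn S Y := hQY.trans hYT
    have hncT : ¬ centralizerIn (normalizerIn S Y) Q ≤ Q := by
      intro h
      exact hx₀Y (hQY (h ⟨⟨hx₀C.1, hx₀N⟩, hx₀C.2⟩))
    have hltT : Nat.card Y < Nat.card (normalizerIn S Y) :=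
      card_lt_card_normalizerIn hS hYS hYeq
    have hfn : F.IsFullyNormalized Y :=
      Cfsg.Agent.H84.fullyNormalized_of_fa_receptive hS F hfa hrec
    obtain ⟨NY, hNY⟩ := Cfsg.Agent.S5096.result F Y hYS
    have hNYsat : NY.IsSaturated p := Cfsg.Agent.S5098.result p hS F hF Y hfn NY hNY
    have hNYnorm : NY.IsNormal Y := Cfsg.Agent.H84.normalizerSystem_isNormal F hYS NY hNY
    have hCT : centralizerIn (normalizerIn S Y) Y ≤ Y := fun x hx => hCY ⟨hx.1.1, hx.2⟩
    have hTp : IsPGroup p (normalizerIn S Y) := hS.to_le hTS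
    have hTfin : Finite (normalizerIn S Y) := finite_of_le hTS
    obtain ⟨L, _, ι, hM, hYn, -⟩ :=
      Cfsg.Agent.Lib.Helper87.Model.exists_model hTp NY hNYsat hNYnorm hCT
    obtain ⟨C, hCn, hCV, hdich⟩ := dich NY hM
    have hM' := hM
    obtain ⟨hLfin, hr', ⟨Tsyl, hTsyl⟩, hchar⟩ := hM'
    have hsub : ∀ P, NY.Hom P ⊆ F.Hom P := fun P φ hφ => by
      rw [hNY P] at hφ
      exact hφ.1
    have hαNY : α ∈ NY.Hom Y := by
      have h1 := Cfsg.Agent.H84.normalizerSystem_aut_mem F hYS NY hNY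
        (autOfMap α (F.injective_of_mem hα) hr) (autOfMap_mem F hα hr)
      exact mem_of_eq NY h1 (fun x => rfl)
    have hYp : IsPGroup p ((Y.subgroupOf (normalizerIn S Y)).map ι) :=
      (hTp.to_subgroup (Y.subgroupOf (normalizerIn S Y))).map ι
    have hYcore : (Y.subgroupOf (normalizerIn S Y)).map ι ≤ pCore p L :=
      Cfsg.Agent.H84.le_pCore p hYn hYp
    have hYD' : Y ≤ ((pCore p L).comap ι).map (normalizerIn S Y).subtype := by
      intro y hy
      exact ⟨⟨y, hYT hy⟩, hYcore ⟨⟨y, hYT hy⟩, hy, rfl⟩, rfl⟩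
    have hD'T : ((pCore p L).comap ι).map (normalizerIn S Y).subtype ≤ normalizerIn S Y :=
      Subgroup.map_subtype_le _
    obtain ⟨g, hg⟩ := (hr'.2 Y hYT α (map_mem NY hαNY)).mp hαNY
    have hcoreN : (pCore p L).Normal := Cfsg.Agent.H84.pCore_normal p
    by_cases hD'Y : ((pCore p L).comap ι).map (normalizerIn S Y).subtype ≤ Y
    swap
    · have hgD : ∀ x : ↥(((pCore p L).comap ι).map (normalizerIn S Y).subtype),
          g * ι ⟨x, hD'T x.2⟩ * g⁻¹ ∈ ι.range := by
        intro x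
        obtain ⟨s, hs, hsx⟩ := x.2
        have e : s = ⟨x, hD'T x.2⟩ := Subtype.ext hsx
        have h3 : g * ι s * g⁻¹ ∈ (Tsyl : Subgroup L) :=
          pCore_le_sylow Tsyl (hcoreN.conj_mem _ hs g)
        rw [hTsyl, e] at h3
        exact h3
      obtain ⟨ψ, hψ, hext, -, -⟩ := realize_sup NY hr' hD'T g hgD hαNY hg
      have hfin : Finite ↥(Y ⊔ ((pCore p L).comap ι).map (normalizerIn S Y).subtype) :=
        finite_of_le (sup_le hYS (hD'T.trans hTS))
      have h1 := IHY _ (card_lt_sup_right hD'Y) (hsub _ hψ)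
      exact mem_of_eq E (restrict_mem E h1 le_sup_left) (fun x => (hext x).symm)
    have hZT : S ⊓ Subgroup.centralizer (S : Set Ω) ≤ normalizerIn S Y :=
      center_le_normalizerIn hYS
    have hVT : powerClosure p 1 (normalizerIn S Y ⊓
        Subgroup.centralizer ((normalizerIn S Y : Subgroup Ω) : Set Ω)) ≤ normalizerIn S Y :=
      agemo_le p _
    rcases hdich with h1 | h2
    · obtain ⟨α₁, hα₁, α₂, hα₂, hcomp⟩ := model_factor NY hr' Tsyl hTsyl C hVT
        (le_centralizer_agemo p _) (fun c hc' v => hCV c hc' ⟨v, hVT v.2⟩ v.2) hαNY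
      have hDY : ¬ ((ι.range ⊓ C).comap ι).map (normalizerIn S Y).subtype ≤ Y :=
        fun h => h1 (h.trans hYD')
      obtain ⟨-, -, -, ψ, hψ, hext, -⟩ := hα₁
      have hDT : ((ι.range ⊓ C).comap ι).map (normalizerIn S Y).subtype ≤ normalizerIn S Y :=
        Subgroup.map_subtype_le _
      have hfin : Finite ↥(Y ⊔ ((ι.range ⊓ C).comap ι).map (normalizerIn S Y).subtype) :=
        finite_of_le (sup_le hYS (hDT.trans hTS))
      have hψE := IHY _ (card_lt_sup_right hDY) (hsub _ hψ)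
      have hα₁E : α₁ ∈ E.Hom Y :=
        mem_of_eq E (restrict_mem E hψE le_sup_left) (fun x => (hext x).symm)
      have hα₂E : α₂ ∈ E.Hom α₁.range :=
        hC _ (centralizerHom_mono F NY hsub (agemo_mono p hTS hZT) (le_centralizer_agemo p S)
          _ hα₂)
      exact comp_mem_of_eq E hα₁E hα₂E (fun x => ⟨x, rfl⟩) hcomp
    · have hJD' : thompsonSubgroupAOf (normalizerIn S Y) ≤
          ((pCore p L).comap ι).map (normalizerIn S Y).subtype := thompson_le_of_maxAb h2
      have hJY : thompsonSubgroupAOf (normalizerIn S Y) ≤ Y := hJD'.trans hD'Y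
      have hTNJ : normalizerIn S Y ≤
          normalizerIn S (thompsonSubgroupAOf (normalizerIn S Y)) :=
        (le_normalizerIn hTS).trans (normalizerIn_le_thompson S (normalizerIn S Y))
      have hαJ : α ∈ F.normalizerHom (thompsonSubgroupAOf (normalizerIn S Y)) Y := by
        refine normalizerHom_of_maps F hα hJY (hYT.trans hTNJ)
          (fun x => hTNJ (hYT (hαY x))) ?_
        exact thompson_maps_into hJY α (F.injective_of_mem hα) (fun x _ => hYT (hαY x))
      exact climb hS F hF hQ E ih hC hN (Nat.card Y) IHY (Nat.card S) (normalizerIn S Y) hTS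
        hQT hncT hltT (Nat.le_add_left _ _) Y hαJ

/-- The main step of the induction. -/
theorem main_step {S : Subgroup Ω} [Finite S] {p : ℕ} [Fact p.Prime] (hS : IsPGroup p S)
    (F : FusionSystem S) (hF : F.IsSaturated p) {Q : Subgroup Ω} (hQ : F.IsNormal Q)
    (E : FusionSystem S) (ih : IH Ω p (2 * Nat.card S - Nat.card Q)) : Gen p S F E := by
  intro hC hN
  by_cases hcon : centralizerIn S Q ≤ Q
  · exact step_constrained hS F hF hQ E ih hC hN hcon
  · exact step_alperin hS F hF hQ E ih hC hN hcon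

/-- **The generation theorem**, for every normal subgroup `Q` of `F`. -/
theorem main {p : ℕ} [Fact p.Prime] :
    ∀ (n : ℕ) (S : Subgroup Ω) [Finite S], IsPGroup p S → ∀ F : FusionSystem S,
      F.IsSaturated p → ∀ Q : Subgroup Ω, F.IsNormal Q →
        2 * Nat.card S - Nat.card Q = n → ∀ E : FusionSystem S, Gen p S F E := by
  intro n
  induction n using Nat.strong_induction_on with
  | _ n ihn =>
    intro S _ hS F hF Q hQ hn E
    apply main_step hS F hF hQ E
    intro S' _ hS' F' hF' Q' hQ' hlt E'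
    exact ihn _ (by rw [← hn]; exact hlt) S' hS' F' hF' Q' hQ' rfl E'

end main

end Cfsg.Agent.Lib.Helper10.AgemoMain
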