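import Mathlib
import Cfsg.Agent.Lib.Helper64.AutStmt
import Cfsg.Agent.Lib.Helper11.AutSYLA
import Cfsg.Agent.Lib.Helper11.AutSYLB

set_option autoImplicit false

namespace Cfsg.Agent.Lib.Helper10.AutGC

open Cfsg
open Cfsg.Agent.Lib.Helper64
open Cfsg.Agent.Lib.Helper11

universe u

variable {G : Type u} [Group G]

/-- an element mapping a finite subgroup into itself by conjugation normalizes it -/
theorem mem_normalizer_of_conj_le [Finite G] (A : Subgroup G) (w : G)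
    (h : ∀ g ∈ A, w * g * w⁻¹ ∈ A) : w ∈ Subgroup.normalizer (A : Set G) := by
  rw [Subgroup.mem_normalizer_iff]
  intro g
  refine ⟨h g, fun hg => ?_⟩
  let f : A → A := fun a => ⟨w * a * w⁻¹, h a a.2⟩
  have hinj : Function.Injective f := by
    intro a b hab
    have h1 : w * (a : G) * w⁻¹ = w * (b : G) * w⁻¹ := congrArg Subtype.val hab
    apply Subtype.ext
    simpa using h1
  obtain ⟨a, ha⟩ := (Finite.injective_iff_surjective.mp hinj) ⟨w * g * w⁻¹, hg⟩
  have h1 : w * (a : G) * w⁻¹ = w * g * w⁻¹ := congrArg Subtype.val ha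
  have h2 : (a : G) = g := by simpa using h1
  rw [← h2]
  exact a.2

theorem mem_normalizer_sup (A B : Subgroup G) (g : G)
    (hA : g ∈ Subgroup.normalizer (A : Set G)) (hB : g ∈ Subgroup.normalizer (B : Set G)) :
    g ∈ Subgroup.normalizer ((A ⊔ B : Subgroup G) : Set G) := by
  rw [Subgroup.mem_normalizer_iff_map_conj_eq] at hA hB ⊢
  rw [Subgroup.map_sup, hA, hB]

theorem bezout_mem (C : Subgroup G) (w : G) (m n : ℕ) (hmn : Nat.Coprime m n)
    (h1 : w ^ m ∈ C) (h2 : w ^ n ∈ C) : w ∈ C := by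
  have h := Nat.gcd_eq_gcd_ab m n
  rw [hmn] at h
  have h3 : w = (w ^ m) ^ (Nat.gcdA m n) * (w ^ n) ^ (Nat.gcdB m n) := by
    rw [← zpow_natCast, ← zpow_natCast, ← zpow_mul, ← zpow_mul, ← zpow_add, ← h]
    simp
  rw [h3]
  exact C.mul_mem (C.zpow_mem h1 _) (C.zpow_mem h2 _)

theorem main : AutStmt.GC.{u} := by
  intro p q _ _ hpq G _ _ T H₀ hSyl hH₀T hBad hmax x₀ hx₀C hx₀p
  classical
  have hCN : Subgroup.centralizer (H₀ : Set G) ≤ Subgroup.normalizer (H₀ : Set G) :=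
    Subgroup.centralizer_le_normalizer _
  have hTN : T ≤ Subgroup.normalizer (H₀ : Set G) := hSyl.1
  have hTp : IsPGroup p T := AutSYLA.pg p G _ T hSyl
  -- conjugation by n ∈ N preserves C
  have hconjC : ∀ n ∈ Subgroup.normalizer (H₀ : Set G), ∀ c ∈ Subgroup.centralizer (H₀ : Set G),
      n * c * n⁻¹ ∈ Subgroup.centralizer (H₀ : Set G) := by
    intro n hn c hc
    rw [Subgroup.mem_centralizer_iff] at hc ⊢
    intro h hh
    have h1 : n⁻¹ * h * n ∈ H₀ := (Subgroup.mem_normalizer_iff''.mp hn h).mp hh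
    have h2 := hc _ h1
    calc h * (n * c * n⁻¹) = n * ((n⁻¹ * h * n) * c) * n⁻¹ := by group
      _ = n * (c * (n⁻¹ * h * n)) * n⁻¹ := by rw [h2]
      _ = n * c * n⁻¹ * h := by group
  set P₀ : Subgroup G := T ⊓ Subgroup.centralizer (H₀ : Set G) with hP₀
  have hP₀p : IsPGroup p P₀ := hTp.to_le inf_le_left
  have hP₀C : P₀ ≤ Subgroup.centralizer (H₀ : Set G) := inf_le_right
  -- p-subgroups of C are N-conjugate into P₀
  have key : ∀ Q : Subgroup G, Q ≤ Subgroup.centralizer (H₀ : Set G) → IsPGroup p Q →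
      ∃ m ∈ Subgroup.normalizer (H₀ : Set G), ∀ g ∈ Q, m * g * m⁻¹ ∈ P₀ := by
    intro Q hQC hQp
    obtain ⟨m, hm, hmQ⟩ := AutSYLB.conj p G _ T hSyl Q (hQC.trans hCN) hQp
    exact ⟨m, hm, fun g hg => ⟨hmQ g hg, hconjC m hm g (hQC hg)⟩⟩
  have hcard : ∀ Q : Subgroup G, Q ≤ Subgroup.centralizer (H₀ : Set G) → IsPGroup p Q →
      Nat.card Q ≤ Nat.card P₀ := by
    intro Q hQC hQp
    obtain ⟨m, hm, hmQ⟩ := key Q hQC hQp
    refine Nat.card_le_card_of_injective (fun g : Q => (⟨m * g * m⁻¹, hmQ g g.2⟩ : P₀)) ?_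
    intro a b hab
    have h1 : m * (a : G) * m⁻¹ = m * (b : G) * m⁻¹ := congrArg Subtype.val hab
    apply Subtype.ext
    simpa using h1
  -- P₀ is Sylow in C
  have hSylC : AutStmt.IsSyl p (Subgroup.centralizer (H₀ : Set G)) P₀ := by
    apply AutSYLB.ofMax p G _ P₀ hP₀C hP₀p
    intro Q hQC hQp hPQ
    exact (Subgroup.eq_of_le_of_card_ge hPQ (hcard Q hQC hQp)).symm
  -- Frattini by hand
  have frat : ∀ n ∈ Subgroup.normalizer (H₀ : Set G), ∃ c ∈ Subgroup.centralizer (H₀ : Set G),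
      c * n ∈ Subgroup.normalizer (P₀ : Set G) := by
    intro n hn
    have hP₁C : P₀.map (MulAut.conj n).toMonoidHom ≤ Subgroup.centralizer (H₀ : Set G) := by
      rintro _ ⟨g, hg, rfl⟩
      exact hconjC n hn g (hP₀C hg)
    have hP₁p : IsPGroup p (P₀.map (MulAut.conj n).toMonoidHom) := hP₀p.map _
    obtain ⟨c, hc, hcP⟩ := AutSYLB.conj p G _ P₀ hSylC _ hP₁C hP₁p
    refine ⟨c, hc, mem_normalizer_of_conj_le P₀ (c * n) ?_⟩
    intro g hg
    have h1 := hcP (n * g * n⁻¹) ⟨g, hg, rfl⟩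
    have h2 : c * n * g * (c * n)⁻¹ = c * (n * g * n⁻¹) * c⁻¹ := by group
    rw [h2]
    exact h1
  -- the bad element
  obtain ⟨y, -, hyN, ⟨k, hyk⟩, hyC⟩ := hBad
  obtain ⟨c, hc, hw⟩ := frat y hyN
  set w : G := c * y with hwdef
  have hwN : w ∈ Subgroup.normalizer (H₀ : Set G) := Subgroup.mul_mem _ (hCN hc) hyN
  have hwC : w ∉ Subgroup.centralizer (H₀ : Set G) := by
    intro h
    apply hyC
    have : y = c⁻¹ * w := by rw [hwdef]; group
    rw [this]
    exact Subgroup.mul_mem _ (Subgroup.inv_mem _ hc) h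
  -- powers of w modulo C
  have hpowC : ∀ j : ℕ, ∃ d ∈ Subgroup.centralizer (H₀ : Set G), w ^ j = d * y ^ j := by
    intro j
    induction j with
    | zero => exact ⟨1, Subgroup.one_mem _, by simp⟩
    | succ j ih =>
      obtain ⟨d, hd, hdj⟩ := ih
      refine ⟨d * (y ^ j * c * (y ^ j)⁻¹), Subgroup.mul_mem _ hd
        (hconjC _ (Subgroup.pow_mem _ hyN j) c hc), ?_⟩
      rw [pow_succ, hdj, hwdef, pow_succ]
      group
  have hq : q.Prime := Fact.out
  have hcardG : Nat.card G ≠ 0 := Nat.card_pos.ne'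
  set v := (Nat.card G).factorization q with hv
  set m := Nat.card G / q ^ v with hm
  have hqm : q ^ v * m = Nat.card G := Nat.ordProj_mul_ordCompl_eq_self (Nat.card G) q
  have hcop : Nat.Coprime q m := Nat.coprime_ordCompl hq hcardG
  set x : G := w ^ m with hx
  have hxq : AutStmt.QElt q x := by
    refine ⟨v, ?_⟩
    rw [hx, ← pow_mul, mul_comm, hqm]
    exact pow_card_eq_one'
  have hxN : x ∈ Subgroup.normalizer (H₀ : Set G) := Subgroup.pow_mem _ hwN m
  have hxP : x ∈ Subgroup.normalizer (P₀ : Set G) := Subgroup.pow_mem _ hw m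
  have hxC : x ∉ Subgroup.centralizer (H₀ : Set G) := by
    intro h
    apply hwC
    refine bezout_mem _ w m (q ^ k) (Nat.Coprime.pow_right k hcop.symm) h ?_
    obtain ⟨d, hd, hdk⟩ := hpowC (q ^ k)
    rw [hdk, hyk, mul_one]
    exact hd
  -- the subgroup R
  have hR : H₀ ⊔ P₀ = H₀ := by
    apply hmax (H₀ ⊔ P₀) le_sup_left (sup_le hH₀T inf_le_left)
    · intro t ht
      apply mem_normalizer_sup _ _ _ (hTN ht)
      rw [Subgroup.mem_normalizer_iff]
      intro g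
      constructor
      · rintro ⟨hgT, hgC⟩
        exact ⟨T.mul_mem (T.mul_mem ht hgT) (T.inv_mem ht), hconjC t (hTN ht) g hgC⟩
      · rintro ⟨hgT, hgC⟩
        have e : g = t⁻¹ * (t * g * t⁻¹) * t := by group
        refine ⟨?_, ?_⟩
        · rw [e]; exact T.mul_mem (T.mul_mem (T.inv_mem ht) hgT) ht
        · have := hconjC t⁻¹ (Subgroup.inv_mem _ (hTN ht)) _ hgC
          rw [inv_inv] at this
          rw [e]; exact this
    · refine ⟨x, Subgroup.mem_top x, mem_normalizer_sup _ _ _ hxN hxP, hxq, ?_⟩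
      intro h
      apply hxC
      exact Subgroup.centralizer_le (by
        intro a ha
        exact (le_sup_left : H₀ ≤ H₀ ⊔ P₀) ha) h
  have hP₀H : P₀ ≤ H₀ := by
    rw [← hR]; exact le_sup_right
  -- the final step
  obtain ⟨k₀, hk₀⟩ := hx₀p
  have hZC : Subgroup.zpowers x₀ ≤ Subgroup.centralizer (H₀ : Set G) := by
    rw [Subgroup.zpowers_le]; exact hx₀C
  have hZp : IsPGroup p (Subgroup.zpowers x₀) := by
    rintro ⟨g, hg⟩
    obtain ⟨j, rfl⟩ := Subgroup.mem_zpowers_iff.mp hg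
    refine ⟨k₀, Subtype.ext ?_⟩
    show (x₀ ^ j) ^ (p ^ k₀) = 1
    rw [← zpow_natCast, ← zpow_mul, mul_comm, zpow_mul, zpow_natCast, hk₀, one_zpow]
  obtain ⟨m₀, hm₀, hm₀Z⟩ := key _ hZC hZp
  have h1 : m₀ * x₀ * m₀⁻¹ ∈ H₀ := hP₀H (hm₀Z x₀ (Subgroup.mem_zpowers x₀))
  exact (Subgroup.mem_normalizer_iff.mp hm₀ x₀).mpr h1

end Cfsg.Agent.Lib.Helper10.AutGC
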