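import Mathlib
import Cfsg.Agent.Lib.Lead.BrHalfDStmt

/-!
# S4504, piece DSemi: the semi-affine group of a finite field is solvable
-/

set_option autoImplicit false

universe v

namespace Cfsg.Agent.Lib.Helper10.BrDDSemi

open Equiv Cfsg.Agent.Lib.Lead.BrHalf

open scoped commutatorElement

section

variable {F : Type v} [Field F]

/-- a ring automorphism of a finite field is a power map on the units -/
theorem aut_pow [Finite F] (φ : F ≃+* F) :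
    ∃ k : ℤ, ∀ u : Fˣ, Units.map (φ : F →* F) u = u ^ k := by
  obtain ⟨g, hg⟩ := IsCyclic.exists_generator (α := Fˣ)
  obtain ⟨k, hk⟩ := Subgroup.mem_zpowers_iff.mp (hg (Units.map (φ : F →* F) g))
  refine ⟨k, fun u => ?_⟩
  obtain ⟨m, rfl⟩ := Subgroup.mem_zpowers_iff.mp (hg u)
  rw [map_zpow, ← hk, ← zpow_mul, ← zpow_mul, mul_comm]

/-- ring automorphisms of a finite field commute -/
theorem aut_comm [Finite F] (φ ψ : F ≃+* F) (x : F) : φ (ψ x) = ψ (φ x) := by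
  by_cases hx : x = 0
  · simp [hx]
  · obtain ⟨k, hk⟩ := aut_pow φ
    obtain ⟨l, hl⟩ := aut_pow ψ
    have h1 : Units.map (φ : F →* F) (Units.map (ψ : F →* F) (Units.mk0 x hx)) =
        Units.map (ψ : F →* F) (Units.map (φ : F →* F) (Units.mk0 x hx)) := by
      rw [hl, hk, hk, hl, ← zpow_mul, ← zpow_mul, mul_comm]
    have h2 := congrArg Units.val h1
    simpa using h2

/-- the translations -/
def transl (F : Type v) [Field F] : Subgroup (Perm F) where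
  carrier := {σ | ∃ b : F, ∀ x, σ x = x + b}
  one_mem' := ⟨0, fun x => by simp⟩
  mul_mem' := by
    rintro σ τ ⟨b, hσ⟩ ⟨d, hτ⟩
    exact ⟨d + b, fun x => by rw [Perm.mul_apply, hτ, hσ, add_assoc]⟩
  inv_mem' := by
    rintro σ ⟨b, hσ⟩
    refine ⟨-b, fun x => ?_⟩
    apply σ.injective
    show σ (σ.symm x) = _
    rw [Equiv.apply_symm_apply, hσ]
    simp

omit [Field F] in
theorem comm_apply (σ τ : Perm F) (x : F) : ⁅σ, τ⁆ x = σ (τ (σ⁻¹ (τ⁻¹ x))) := by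
  rw [commutatorElement_def]
  rfl

theorem comm_semi [Finite F] {σ τ : Perm F} (hσ : σ ∈ Cfsg.semiaffineGroup F)
    (hτ : τ ∈ Cfsg.semiaffineGroup F) : ⁅σ, τ⁆ ∈ Cfsg.affineGroup F := by
  obtain ⟨a, b, φ, hσ⟩ := hσ
  obtain ⟨c, d, ψ, hτ⟩ := hτ
  have ha : (a : F) ≠ 0 := a.ne_zero
  have hc : (c : F) ≠ 0 := c.ne_zero
  have hψa : ψ (a : F) ≠ 0 := by simp
  have hφc : φ (c : F) ≠ 0 := by simp
  obtain ⟨e, he⟩ : ∃ e : F, e = (a : F) * φ c / (c * ψ a) := ⟨_, rfl⟩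
  have hkey : e * (c * ψ a) = a * φ c := by
    rw [he, div_mul_cancel₀ _ (mul_ne_zero hc hψa)]
  have he0 : e ≠ 0 := by
    rw [he]
    exact div_ne_zero (mul_ne_zero ha hφc) (mul_ne_zero hc hψa)
  refine ⟨Units.mk0 e he0, a * φ d + b - e * (c * ψ b + d), fun x => ?_⟩
  obtain ⟨y, hy⟩ : ∃ y, y = σ⁻¹ (τ⁻¹ x) := ⟨_, rfl⟩
  have hx : x = τ (σ y) := by rw [hy]; simp
  have hρ : ⁅σ, τ⁆ x = σ (τ y) := by rw [hy, comm_apply]
  rw [hρ, Units.val_mk0]
  conv_rhs => rw [hx]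
  simp only [hσ, hτ, map_add, map_mul]
  rw [aut_comm φ ψ y]
  linear_combination (-(ψ (φ y))) * hkey

theorem comm_aff {σ τ : Perm F} (hσ : σ ∈ Cfsg.affineGroup F)
    (hτ : τ ∈ Cfsg.affineGroup F) : ⁅σ, τ⁆ ∈ transl F := by
  obtain ⟨a, b, hσ⟩ := hσ
  obtain ⟨c, d, hτ⟩ := hτ
  refine ⟨a * d + b - c * b - d, fun x => ?_⟩
  obtain ⟨y, hy⟩ : ∃ y, y = σ⁻¹ (τ⁻¹ x) := ⟨_, rfl⟩
  have hx : x = τ (σ y) := by rw [hy]; simp
  have hρ : ⁅σ, τ⁆ x = σ (τ y) := by rw [hy, comm_apply]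
  rw [hρ]
  conv_rhs => rw [hx]
  simp only [hσ, hτ]
  ring

theorem comm_transl {σ τ : Perm F} (hσ : σ ∈ transl F) (hτ : τ ∈ transl F) : ⁅σ, τ⁆ = 1 := by
  obtain ⟨b, hσ⟩ := hσ
  obtain ⟨d, hτ⟩ := hτ
  ext x
  obtain ⟨y, hy⟩ : ∃ y, y = σ⁻¹ (τ⁻¹ x) := ⟨_, rfl⟩
  have hx : x = τ (σ y) := by rw [hy]; simp
  have hρ : ⁅σ, τ⁆ x = σ (τ y) := by rw [hy, comm_apply]
  rw [hρ, Perm.one_apply]
  conv_rhs => rw [hx]
  simp only [hσ, hτ]
  ring

end

theorem main : DSemi.{v} := by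
  intro F _ _
  have h1 : (derivedSeries ↥(Cfsg.semiaffineGroup F) 1).map (Cfsg.semiaffineGroup F).subtype ≤
      Cfsg.affineGroup F := by
    rw [derivedSeries_succ, derivedSeries_zero, Subgroup.map_commutator, Subgroup.commutator_le]
    rintro _ ⟨g₁, -, rfl⟩ _ ⟨g₂, -, rfl⟩
    exact comm_semi g₁.2 g₂.2
  have h2 : (derivedSeries ↥(Cfsg.semiaffineGroup F) 2).map (Cfsg.semiaffineGroup F).subtype ≤
      transl F := by
    rw [derivedSeries_succ, Subgroup.map_commutator]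
    exact (Subgroup.commutator_mono h1 h1).trans
      (Subgroup.commutator_le.mpr (fun g₁ hg₁ g₂ hg₂ => comm_aff hg₁ hg₂))
  have h3 : (derivedSeries ↥(Cfsg.semiaffineGroup F) 3).map (Cfsg.semiaffineGroup F).subtype ≤
      ⊥ := by
    rw [derivedSeries_succ, Subgroup.map_commutator]
    exact (Subgroup.commutator_mono h2 h2).trans
      (Subgroup.commutator_le.mpr (fun g₁ hg₁ g₂ hg₂ => by
        rw [Subgroup.mem_bot]
        exact comm_transl hg₁ hg₂))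
  refine ⟨⟨3, ?_⟩⟩
  rw [← Subgroup.map_eq_bot_iff_of_injective _ (Subgroup.subtype_injective _)]
  exact le_bot_iff.mp h3

end Cfsg.Agent.Lib.Helper10.BrDDSemi
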