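import Mathlib
import Cfsg.Agent.Lib.Helper76.BrRBStmt

/-!
# S4504, piece HC: `C_L(x) = ⟨x⟩ Z(L)`
-/

set_option autoImplicit false

universe u

namespace Cfsg.Agent.Lib.Helper10.BrRBHC

open Cfsg.Agent.Lib.Helper76.BrRB

theorem main : HC.{u} := by
  intro L _ _ p _ c hreg x hx hx1 g hgx
  have hp : p.Prime := Fact.out
  have hox : orderOf x = p := by
    have h1 : orderOf x ∣ p := by
      have := orderOf_dvd_natCard (⟨x, hx⟩ : ↥(c.P : Subgroup L))
      rw [c.hP] at this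
      rwa [← Subgroup.orderOf_coe] at this
    rcases (Nat.dvd_prime hp).mp h1 with h | h
    · exact absurd (orderOf_eq_one_iff.mp h) hx1
    · exact h
  have hPx : (c.P : Subgroup L) = Subgroup.zpowers x := by
    symm
    apply Subgroup.eq_of_le_of_card_ge
    · rw [Subgroup.zpowers_le]; exact hx
    · rw [c.hP, Nat.card_zpowers, hox]
  have hgC : ∀ i : ℤ, g ^ i ∈ Subgroup.centralizer ((c.P : Subgroup L) : Set L) := by
    intro i
    rw [Subgroup.mem_centralizer_iff]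
    intro y hy
    have hy' : y ∈ Subgroup.zpowers x := hPx ▸ hy
    obtain ⟨j, rfl⟩ := Subgroup.mem_zpowers_iff.mp hy'
    have hc : Commute g x := hgx
    exact ((hc.zpow_left i).zpow_right j).symm.eq
  obtain ⟨s, m, hm, hN⟩ := Nat.exists_eq_pow_mul_and_not_dvd (orderOf_pos g).ne' p hp.ne_one
  have hcop : Nat.gcd (p ^ s) m = 1 :=
    Nat.Coprime.pow_left s ((Nat.Prime.coprime_iff_not_dvd hp).mpr hm)
  have hbez : (1 : ℤ) = ((p ^ s : ℕ) : ℤ) * Nat.gcdA (p ^ s) m + ((m : ℕ) : ℤ) * Nat.gcdB (p ^ s) m := by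
    have := Nat.gcd_eq_gcd_ab (p ^ s) m
    rw [hcop] at this
    exact_mod_cast this
  obtain ⟨A, hA⟩ : ∃ A, A = Nat.gcdA (p ^ s) m := ⟨_, rfl⟩
  obtain ⟨B, hB⟩ : ∃ B, B = Nat.gcdB (p ^ s) m := ⟨_, rfl⟩
  rw [← hA, ← hB] at hbez
  obtain ⟨z, hz⟩ : ∃ z, z = g ^ (((p ^ s : ℕ) : ℤ) * A) := ⟨_, rfl⟩
  obtain ⟨w, hw⟩ : ∃ w, w = g ^ (((m : ℕ) : ℤ) * B) := ⟨_, rfl⟩
  have hg : g = w * z := by
    rw [hw, hz, ← zpow_add, add_comm, ← hbez, zpow_one]
  have hz_ord : z ^ m = 1 := by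
    have h1 : z ^ m = g ^ (((orderOf g : ℕ) : ℤ) * A) := by
      rw [hz, ← zpow_natCast, ← zpow_mul, hN]
      congr 1
      push_cast
      ring
    rw [h1, zpow_mul, zpow_natCast, pow_orderOf_eq_one, one_zpow]
  have hw_ord : w ^ (p ^ s) = 1 := by
    have h1 : w ^ (p ^ s) = g ^ (((orderOf g : ℕ) : ℤ) * B) := by
      rw [hw, ← zpow_natCast, ← zpow_mul, hN]
      congr 1
      push_cast
      ring
    rw [h1, zpow_mul, zpow_natCast, pow_orderOf_eq_one, one_zpow]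
  have hzreg : ¬ p ∣ orderOf z := fun h => hm (h.trans (orderOf_dvd_of_pow_eq_one hz_ord))
  have hzcen : z ∈ Subgroup.center L := hreg z (hz ▸ hgC _) hzreg
  obtain ⟨t, -, ht⟩ := (Nat.dvd_prime_pow hp).mp (orderOf_dvd_of_pow_eq_one hw_ord)
  have hwp : IsPGroup p (Subgroup.zpowers w) :=
    IsPGroup.of_card (n := t) (by rw [Nat.card_zpowers, ht])
  have hwC : w ∈ Subgroup.centralizer ((c.P : Subgroup L) : Set L) := hw ▸ hgC _
  have hle : Subgroup.zpowers w ≤ Subgroup.normalizer ((c.P : Subgroup L) : Set L) := by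
    rw [Subgroup.zpowers_le]
    exact Subgroup.centralizer_le_normalizer _ hwC
  have hsup : IsPGroup p ((c.P : Subgroup L) ⊔ Subgroup.zpowers w : Subgroup L) :=
    c.P.isPGroup'.to_sup_of_normal_left' hwp hle
  have hmax : (c.P : Subgroup L) ⊔ Subgroup.zpowers w = (c.P : Subgroup L) :=
    c.P.3 hsup le_sup_left
  have hwP : w ∈ (c.P : Subgroup L) := by
    rw [← hmax]
    exact (le_sup_right : Subgroup.zpowers w ≤ _) (Subgroup.mem_zpowers w)
  have hwx : w ∈ Subgroup.zpowers x := hPx ▸ hwP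
  obtain ⟨a, ha⟩ := (Submonoid.mem_powers_iff _ _).mp (mem_powers_iff_mem_zpowers.mpr hwx)
  exact ⟨a, z, hzcen, by rw [ha, ← hg]⟩

end Cfsg.Agent.Lib.Helper10.BrRBHC
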