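import Mathlib
import Cfsg.Prelude.Def_Classical
import Cfsg.Prelude.Def_GeometricClasses
import Cfsg.Agent.Lib.Helper41.EMStmt

/-!
# S5990 / C2FIX (sub-call by helper10): statement pieces, MINUS form

Minus twin of helper59's `Cfsg.Agent.Lib.Helper59.C2Stmt` (S5974 / C2FIX): `J d`,
`Cfsg.quadFormPlus d F`, `NDeg`, `Plus`, `Stab` are replaced by `M d`,
`Cfsg.quadFormMinus (d - 1) F a₀ b₀`, `NDegM`, `PlusM`, `StabM`, with the two new arguments
`(a₀ b₀ : F) (_ : Aniso a₀ b₀)` right after `[Fintype F]`.  The proofs are the ones of the plus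
pieces word for word (they never use the shape of the form, only that it is a quadratic form).

Assembly (`Helper10.EMC2FIX`, helper10): induction on `a`: an `x`-invariant nondegenerate
NON-plus `Y` of finrank `2 a` contains an invariant elliptic `n`-space for every even `n`,
`2 ≤ n ≤ 2 a`, with `a` even or `n ≡ 2 (mod 4)`.  Step: split off an invariant hyperbolic plane
`⟨w, x w⟩` (`w` singular, `β(w, x w) ≠ 0`: QUADVANM + PLANE0M) or, if `β(u, x u) = 0` on `Y` and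
`x ≠ 1` on `Y`, an invariant hyperbolic 4-space (BLOCK4M); the perp in `Y` (landed
`TMStmt.SubPerp`, `OrthSum`) is not plus (PLUSSUMM); glue with `EMStmt.CancelM`; `x = 1` on `Y`:
`EMStmt.SubTypeE`.
-/

set_option autoImplicit false

universe u

open scoped Matrix

namespace Cfsg.Agent.Lib.Helper10.C2MStmt

open Cfsg.Agent.Lib.Helper45.OMiStmt (M Aniso NDegM StabM)
open Cfsg.Agent.Lib.Helper41.TMTwoStmt (PlusM)

/-- PLANE0M (any characteristic, no `x`; SMALL; = `Helper59.C2Stmt.Plane0` for the minus form):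
singular `e`, `f` with `β(e, f) ≠ 0` span a nondegenerate plus-type plane. -/
def Plane0M : Prop :=
  ∀ (F : Type u) [Field F] [Fintype F] (a₀ b₀ : F) (_ : Aniso a₀ b₀) (d : ℕ) (e f : M d → F),
    Cfsg.quadFormMinus (d - 1) F a₀ b₀ e = 0 → Cfsg.quadFormMinus (d - 1) F a₀ b₀ f = 0 →
    QuadraticMap.polar (Cfsg.quadFormMinus (d - 1) F a₀ b₀) e f ≠ 0 →
    NDegM d F a₀ b₀ (Submodule.span F {e, f}) ∧ PlusM d F a₀ b₀ (Submodule.span F {e, f}) ∧
      Module.finrank F ↥(Submodule.span F {e, f}) = 2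

/-- PLUSSUMM (any characteristic; MEDIUM; = `Helper59.C2Stmt.PlusSum` for the minus form): the
orthogonal sum of two plus-type subspaces is of plus type. -/
def PlusSumM : Prop :=
  ∀ (F : Type u) [Field F] [Fintype F] (a₀ b₀ : F) (_ : Aniso a₀ b₀) (d : ℕ)
    (A B : Submodule F (M d → F)),
    (∀ u ∈ A, ∀ v ∈ B, QuadraticMap.polar (Cfsg.quadFormMinus (d - 1) F a₀ b₀) u v = 0) →
    A ⊓ B = ⊥ → PlusM d F a₀ b₀ A → PlusM d F a₀ b₀ B → PlusM d F a₀ b₀ (A ⊔ B)

/-- QUADVANM (char 2; MEDIUM; = `Helper59.C2Stmt.QuadVan` for the minus form, with the plus-type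
hypothesis replaced by what its proof uses: a nonzero singular `e ∈ A`): if
`g(w) := β(w, x w)` vanishes on the singular vectors of the nondegenerate `A`, it vanishes on `A`.
(`g` is additive: `g(u + v) = g u + g v + β(u, x v) + β(v, x u)` and
`β(v, x u) = β(x v, x x u) = β(x v, u)`, so the cross terms cancel in char 2; `g(c u) = c² g u`.
If `f ∈ A` has `β(e, f) ≠ 0`: `f + c e` is singular for `c = Q f / β(e, f)`, so
`g f = g (f + c e) + c² g e = 0`.  Otherwise take `f₁ ∈ A` with `β(e, f₁) ≠ 0` (nondegenerate,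
`e ≠ 0`): `β(e, f + f₁) ≠ 0`, `g f = g (f + f₁) + g f₁ = 0`.) -/
def QuadVanM : Prop :=
  ∀ (F : Type u) [Field F] [Fintype F] (a₀ b₀ : F) (_ : Aniso a₀ b₀) [CharP F 2] (d : ℕ)
    (x : Matrix.GeneralLinearGroup (M d) F),
    x ∈ Cfsg.isometryGroup F (Cfsg.quadFormMinus (d - 1) F a₀ b₀) →
    (x : Matrix (M d) (M d) F) * (x : Matrix (M d) (M d) F) = 1 →
    ∀ A : Submodule F (M d → F), NDegM d F a₀ b₀ A →
    ∀ e ∈ A, e ≠ 0 → Cfsg.quadFormMinus (d - 1) F a₀ b₀ e = 0 →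
    (∀ w ∈ A, Cfsg.quadFormMinus (d - 1) F a₀ b₀ w = 0 →
      QuadraticMap.polar (Cfsg.quadFormMinus (d - 1) F a₀ b₀) w
        ((x : Matrix (M d) (M d) F) *ᵥ w) = 0) →
    ∀ u ∈ A, QuadraticMap.polar (Cfsg.quadFormMinus (d - 1) F a₀ b₀) u
      ((x : Matrix (M d) (M d) F) *ᵥ u) = 0

/-- BLOCK4M (char 2; LONG; = `Helper59.C2Stmt.Block4` for the minus form, same proof):
`β(a, x a) = 0` on the invariant nondegenerate `A`, `x u ≠ u`: an invariant nondegenerate
plus-type 4-space in `A`.  `N a := x a + a`, `N (N a) = 0`, `β(a, N b) = β(N a, b)`,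
`β(a, N a) = 0` on `A`, `β(N a, N b) = 0`, `Q (N a) = 2 Q a + β(x a, a) = 0` on `A`.
`N u ≠ 0`, `N u ∈ A`: `v ∈ A` with `β(N u, v) = 1`.  `B = span {u, v, N u, N v}`: for
`w = α u + β' v + γ N u + δ N v`: `β(w, N v) = α`, `β(w, N u) = β'`,
`β(w, u) = β' β(v, u) + δ`, `β(w, v) = α β(u, v) + γ`: nondegenerate and the four vectors are
independent.  `U = span {N u, N v}` is totally singular of finrank 2.  Invariant: `x a = a + N a`,
`x (N a) = N a`. -/
def Block4M : Prop :=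
  ∀ (F : Type u) [Field F] [Fintype F] (a₀ b₀ : F) (_ : Aniso a₀ b₀) [CharP F 2] (d : ℕ)
    (x : Matrix.GeneralLinearGroup (M d) F),
    x ∈ Cfsg.isometryGroup F (Cfsg.quadFormMinus (d - 1) F a₀ b₀) →
    (x : Matrix (M d) (M d) F) * (x : Matrix (M d) (M d) F) = 1 →
    ∀ A : Submodule F (M d → F), StabM (x : Matrix (M d) (M d) F) A → NDegM d F a₀ b₀ A →
    (∀ a ∈ A, QuadraticMap.polar (Cfsg.quadFormMinus (d - 1) F a₀ b₀) a
      ((x : Matrix (M d) (M d) F) *ᵥ a) = 0) →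
    ∀ u ∈ A, (x : Matrix (M d) (M d) F) *ᵥ u ≠ u →
    ∃ B : Submodule F (M d → F), B ≤ A ∧ StabM (x : Matrix (M d) (M d) F) B ∧
      NDegM d F a₀ b₀ B ∧ PlusM d F a₀ b₀ B ∧ Module.finrank F ↥B = 4

end Cfsg.Agent.Lib.Helper10.C2MStmt
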