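import Mathlib
import Cfsg.Agent.Lib.Helper10.C2MStmt
import Cfsg.Agent.Lib.Helper41.TMStmt

/-!
# S5990, piece C2FIX (assembly of the sub-call `Helper10.C2MStmt`)

Char 2, minus form: every isometry with `x * x = 1` fixes an elliptic `m`-space if `d` is even or
`m ≡ 2 (mod 4)`.  Strong induction on `a`: an invariant nondegenerate non-plus `Y` of finrank
`2 a` contains an invariant elliptic `n`-space for every even `n`, `2 ≤ n ≤ 2 a`, with `a` even or
`n ≡ 2 (mod 4)`.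
-/

set_option autoImplicit false

universe u

open scoped Matrix

namespace Cfsg.Agent.Lib.Helper10.EMC2FIX

open Cfsg.Agent.Lib.Helper45.OMiStmt (M Aniso NDegM StabM)
open Cfsg.Agent.Lib.Helper41.TMTwoStmt (PlusM TSubM)
open Cfsg.Agent.Lib.Helper41.EMStmt
open Cfsg.Agent.Lib.Helper10.C2MStmt

section

variable {F : Type u} [Field F] [Fintype F] {d : ℕ}

theorem stab_sup {x : Matrix (M d) (M d) F} {A B : Submodule F (M d → F)}
    (hA : StabM x A) (hB : StabM x B) : StabM x (A ⊔ B) := by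
  unfold StabM at *
  rw [Submodule.map_sup]
  exact sup_le_sup hA hB

theorem stab_mem {x : Matrix (M d) (M d) F} {A : Submodule F (M d → F)}
    (hA : StabM x A) {v : M d → F} (hv : v ∈ A) : x *ᵥ v ∈ A := by
  apply hA
  exact ⟨v, hv, by rw [Matrix.toLin'_apply]⟩

/-- glue a plus-type block with an elliptic space in its perp -/
theorem glue (hOrth : Cfsg.Agent.Lib.Helper41.TMStmt.OrthSum.{u}) (hCancel : CancelM.{u})
    (a₀ b₀ : F) (ha : Aniso a₀ b₀)
    {x : Matrix (M d) (M d) F} {B W' Y : Submodule F (M d → F)} {k n' : ℕ}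
    (hBY : B ≤ Y) (hBst : StabM x B) (hBnd : NDegM d F a₀ b₀ B) (hBpl : PlusM d F a₀ b₀ B)
    (hBk : Module.finrank F ↥B = k)
    (hW'Y : W' ≤ Y) (hW' : MemEM d F a₀ b₀ n' W') (hW'st : StabM x W')
    (horth : ∀ u ∈ B, ∀ v ∈ W',
      QuadraticMap.polar (Cfsg.quadFormMinus (d - 1) F a₀ b₀) u v = 0) :
    ∃ W : Submodule F (M d → F), W ≤ Y ∧ MemEM d F a₀ b₀ (k + n') W ∧ StabM x W := by
  obtain ⟨hfin, hnd, hnp⟩ := hW'
  obtain ⟨hsum_nd, hdisj, hsum_fin⟩ := hOrth F a₀ b₀ ha d B W' hBnd hnd horth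
  refine ⟨B ⊔ W', sup_le hBY hW'Y, ⟨?_, hsum_nd, ?_⟩, stab_sup hBst hW'st⟩
  · rw [hsum_fin, hBk, hfin]
  · intro hpl
    exact hnp (hCancel F a₀ b₀ ha d B W' hBnd hnd horth hpl hBpl)

/-- the perp of an invariant plus-type block inside an invariant non-plus space -/
theorem perp_in (hSub : Cfsg.Agent.Lib.Helper41.TMStmt.SubPerp.{u})
    (hOrth : Cfsg.Agent.Lib.Helper41.TMStmt.OrthSum.{u}) (hPS : PlusSumM.{u})
    (a₀ b₀ : F) (ha : Aniso a₀ b₀)
    {x : Matrix.GeneralLinearGroup (M d) F}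
    (hx : x ∈ Cfsg.isometryGroup F (Cfsg.quadFormMinus (d - 1) F a₀ b₀))
    {B Y : Submodule F (M d → F)}
    (hYst : StabM (x : Matrix (M d) (M d) F) Y) (hYnd : NDegM d F a₀ b₀ Y)
    (hYnp : ¬ PlusM d F a₀ b₀ Y)
    (hBY : B ≤ Y) (hBst : StabM (x : Matrix (M d) (M d) F) B) (hBnd : NDegM d F a₀ b₀ B)
    (hBpl : PlusM d F a₀ b₀ B) :
    ∃ Y' : Submodule F (M d → F), Y' ≤ Y ∧ StabM (x : Matrix (M d) (M d) F) Y' ∧
      NDegM d F a₀ b₀ Y' ∧ ¬ PlusM d F a₀ b₀ Y' ∧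
      (∀ b ∈ B, ∀ y ∈ Y',
        QuadraticMap.polar (Cfsg.quadFormMinus (d - 1) F a₀ b₀) b y = 0) ∧
      Module.finrank F ↥B + Module.finrank F ↥Y' = Module.finrank F ↥Y := by
  obtain ⟨Y', hY'Y, hY'nd, hdisj, horth, hfin, hst⟩ := hSub F a₀ b₀ ha d Y B hYnd hBnd hBY
  refine ⟨Y', hY'Y, hst x hx hYst hBst, hY'nd, ?_, horth, hfin⟩
  intro hpl
  apply hYnp
  have hsum := hPS F a₀ b₀ ha d B Y' horth hdisj hBpl hpl
  obtain ⟨_, _, hsum_fin⟩ := hOrth F a₀ b₀ ha d B Y' hBnd hY'nd horth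
  have heq : B ⊔ Y' = Y := by
    apply Submodule.eq_of_le_of_finrank_eq (sup_le hBY hY'Y)
    rw [hsum_fin, hfin]
  rw [← heq]; exact hsum

theorem claim (hSub : Cfsg.Agent.Lib.Helper41.TMStmt.SubPerp.{u})
    (hOrth : Cfsg.Agent.Lib.Helper41.TMStmt.OrthSum.{u})
    (hTsIn : Cfsg.Agent.Lib.Helper41.TMStmt.TsIn.{u})
    (hCancel : CancelM.{u}) (hST : SubTypeE.{u}) (hPl : Plane0M.{u}) (hPS : PlusSumM.{u})
    (hQV : QuadVanM.{u}) (hB4 : Block4M.{u})
    (a₀ b₀ : F) (ha : Aniso a₀ b₀) [CharP F 2]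
    (x : Matrix.GeneralLinearGroup (M d) F)
    (hx : x ∈ Cfsg.isometryGroup F (Cfsg.quadFormMinus (d - 1) F a₀ b₀))
    (hxx : (x : Matrix (M d) (M d) F) * (x : Matrix (M d) (M d) F) = 1) :
    ∀ (a : ℕ) (Y : Submodule F (M d → F)), StabM (x : Matrix (M d) (M d) F) Y →
      NDegM d F a₀ b₀ Y → ¬ PlusM d F a₀ b₀ Y →
      Module.finrank F ↥Y = 2 * a → ∀ n : ℕ, Even n → 2 ≤ n → n ≤ 2 * a →
      (Even a ∨ n % 4 = 2) →
      ∃ W : Submodule F (M d → F), W ≤ Y ∧ MemEM d F a₀ b₀ n W ∧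
        StabM (x : Matrix (M d) (M d) F) W := by
  intro a
  induction a using Nat.strong_induction_on with
  | _ a ih =>
  intro Y hYst hYnd hYnp hYfin n hne hn2 hna hcond
  have hQ : ∀ v : M d → F, Cfsg.quadFormMinus (d - 1) F a₀ b₀
      ((x : Matrix (M d) (M d) F) *ᵥ v) = Cfsg.quadFormMinus (d - 1) F a₀ b₀ v :=
    fun v => hx v v
  have hxxv : ∀ v : M d → F,
      (x : Matrix (M d) (M d) F) *ᵥ ((x : Matrix (M d) (M d) F) *ᵥ v) = v := by
    intro v; rw [Matrix.mulVec_mulVec, hxx, Matrix.one_mulVec]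
  by_cases hfull : n = 2 * a
  · exact ⟨Y, le_refl Y, ⟨by rw [hYfin, hfull], hYnd, hYnp⟩, hYst⟩
  have hlt : n < 2 * a := lt_of_le_of_ne hna hfull
  obtain ⟨n2, hn2e⟩ := hne
  by_cases hg : ∀ u ∈ Y, QuadraticMap.polar (Cfsg.quadFormMinus (d - 1) F a₀ b₀) u
      ((x : Matrix (M d) (M d) F) *ᵥ u) = 0
  · by_cases hfix : ∀ u ∈ Y, (x : Matrix (M d) (M d) F) *ᵥ u = u
    · obtain ⟨-, hE⟩ := hST F a₀ b₀ ha d n Y hYnd ⟨n2, hn2e⟩ (by rw [hYfin]; exact hlt)
      obtain ⟨W, hWY, hW⟩ := hE hn2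
      refine ⟨W, hWY, hW, ?_⟩
      rintro _ ⟨w, hw, rfl⟩
      rw [Matrix.toLin'_apply, hfix w (hWY hw)]
      exact hw
    · push_neg at hfix
      obtain ⟨u, huY, hu⟩ := hfix
      obtain ⟨B, hBY, hBst, hBnd, hBpl, hBfin⟩ :=
        hB4 F a₀ b₀ ha d x hx hxx Y hYst hYnd hg u huY hu
      obtain ⟨Y', hY'Y, hY'st, hY'nd, hY'np, horth, hfin⟩ :=
        perp_in hSub hOrth hPS a₀ b₀ ha hx hYst hYnd hYnp hBY hBst hBnd hBpl
      have hY'pos : Module.finrank F ↥Y' ≠ 0 := by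
        intro h0
        apply hY'np
        refine ⟨⊥, bot_le, ?_, ?_⟩
        · intro w hw
          rw [Submodule.mem_bot] at hw
          rw [hw]
          simp [Cfsg.quadFormMinus]
        · rw [h0]; simp
      have hY'fin : Module.finrank F ↥Y' = 2 * (a - 2) := by omega
      have ha3 : 3 ≤ a := by omega
      by_cases hn4 : n ≤ 2 * (a - 2)
      · obtain ⟨W, hWY', hW, hWst⟩ := ih (a - 2) (by omega) Y' hY'st hY'nd hY'np hY'fin n
          ⟨n2, hn2e⟩ hn2 hn4 (by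
            rcases hcond with h | h
            · left
              obtain ⟨c, hc⟩ := h
              exact ⟨c - 1, by omega⟩
            · right; exact h)
        exact ⟨W, hWY'.trans hY'Y, hW, hWst⟩
      · have hn' : n = 2 * a - 2 := by omega
        have ha4 : 4 ≤ a := by
          rcases hcond with h | h
          · obtain ⟨c, hc⟩ := h
            omega
          · omega
        obtain ⟨W', hW'Y', hW', hW'st⟩ := ih (a - 2) (by omega) Y' hY'st hY'nd hY'np hY'fin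
          (n - 4) ⟨n2 - 2, by omega⟩ (by omega) (by omega) (by
            rcases hcond with h | h
            · left
              obtain ⟨c, hc⟩ := h
              exact ⟨c - 1, by omega⟩
            · right; omega)
        obtain ⟨W, hWY, hW, hWst⟩ := glue hOrth hCancel a₀ b₀ ha hBY hBst hBnd hBpl hBfin
          (hW'Y'.trans hY'Y) hW' hW'st (fun u hu v hv => horth u hu v (hW'Y' hv))
        refine ⟨W, hWY, ?_, hWst⟩
        have h4 : 4 + (n - 4) = n := by omega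
        rw [h4] at hW
        exact hW
  · obtain ⟨U, hUY, hUts, hUfin⟩ := hTsIn F a₀ b₀ ha d Y 1 hYnd (by rw [hYfin]; omega)
    obtain ⟨e, heU, he0⟩ : ∃ e ∈ U, e ≠ 0 := by
      have hUne : U ≠ ⊥ := by
        intro h
        rw [h] at hUfin
        simp at hUfin
      exact Submodule.exists_mem_ne_zero_of_ne_bot hUne
    have hsing : ∃ w ∈ Y, Cfsg.quadFormMinus (d - 1) F a₀ b₀ w = 0 ∧
        QuadraticMap.polar (Cfsg.quadFormMinus (d - 1) F a₀ b₀) w
          ((x : Matrix (M d) (M d) F) *ᵥ w) ≠ 0 := by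
      by_contra hcon
      push_neg at hcon
      exact hg (hQV F a₀ b₀ ha d x hx hxx Y hYnd e (hUY heU) he0 (hUts e heU)
        (fun w hw hw0 => hcon w hw hw0))
    obtain ⟨w, hwY, hw0, hwg⟩ := hsing
    have hxwY : (x : Matrix (M d) (M d) F) *ᵥ w ∈ Y := stab_mem hYst hwY
    obtain ⟨hHnd, hHpl, hHfin⟩ := hPl F a₀ b₀ ha d w ((x : Matrix (M d) (M d) F) *ᵥ w) hw0
      (by rw [hQ]; exact hw0) hwg
    have hHY : Submodule.span F {w, (x : Matrix (M d) (M d) F) *ᵥ w} ≤ Y := by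
      rw [Submodule.span_le]
      rintro v (rfl | rfl)
      · exact hwY
      · exact hxwY
    have hHst : StabM (x : Matrix (M d) (M d) F)
        (Submodule.span F {w, (x : Matrix (M d) (M d) F) *ᵥ w}) := by
      unfold StabM
      rw [Submodule.map_span, Submodule.span_le]
      rintro _ ⟨v, (rfl | rfl), rfl⟩
      · rw [Matrix.toLin'_apply]
        exact Submodule.subset_span (by simp)
      · rw [Matrix.toLin'_apply, hxxv]
        exact Submodule.subset_span (by simp)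
    obtain ⟨Y', hY'Y, hY'st, hY'nd, hY'np, horth, hfin⟩ :=
      perp_in hSub hOrth hPS a₀ b₀ ha hx hYst hYnd hYnp hHY hHst hHnd hHpl
    have hY'fin : Module.finrank F ↥Y' = 2 * (a - 1) := by omega
    by_cases hc' : Even (a - 1) ∨ n % 4 = 2
    · obtain ⟨W, hWY', hW, hWst⟩ := ih (a - 1) (by omega) Y' hY'st hY'nd hY'np hY'fin n
        ⟨n2, hn2e⟩ hn2 (by omega) hc'
      exact ⟨W, hWY'.trans hY'Y, hW, hWst⟩
    · push_neg at hc'
      obtain ⟨hodd, hn4⟩ := hc'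
      obtain ⟨W', hW'Y', hW', hW'st⟩ := ih (a - 1) (by omega) Y' hY'st hY'nd hY'np hY'fin
        (n - 2) ⟨n2 - 1, by omega⟩ (by omega) (by omega) (Or.inr (by omega))
      obtain ⟨W, hWY, hW, hWst⟩ := glue hOrth hCancel a₀ b₀ ha hHY hHst hHnd hHpl hHfin
        (hW'Y'.trans hY'Y) hW' hW'st (fun u hu v hv => horth u hu v (hW'Y' hv))
      refine ⟨W, hWY, ?_, hWst⟩
      have h2 : 2 + (n - 2) = n := by omega
      rw [h2] at hW
      exact hW

end

theorem main (hTop : Cfsg.Agent.Lib.Helper41.TMStmt.Top.{u})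
    (hSub : Cfsg.Agent.Lib.Helper41.TMStmt.SubPerp.{u})
    (hOrth : Cfsg.Agent.Lib.Helper41.TMStmt.OrthSum.{u})
    (hTsIn : Cfsg.Agent.Lib.Helper41.TMStmt.TsIn.{u})
    (hCancel : CancelM.{u}) (hST : SubTypeE.{u}) (hPl : Plane0M.{u})
    (hPS : PlusSumM.{u}) (hQV : QuadVanM.{u}) (hB4 : Block4M.{u}) : C2Fix.{u} := by
  intro F _ _ a₀ b₀ ha _ d m hd hm2 hme hmd hcond x hx hxx
  obtain ⟨hTnd, hTnp⟩ := hTop F a₀ b₀ ha d
  have hfin : Module.finrank F ↥(⊤ : Submodule F (M d → F)) = 2 * d := by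
    rw [finrank_top, Module.finrank_fintype_fun_eq_card]
    simp only [M, Fintype.card_sum, Fintype.card_fin]
    omega
  have hst : StabM (x : Matrix (M d) (M d) F) ⊤ := le_top
  obtain ⟨W, -, hW, hWst⟩ := claim hSub hOrth hTsIn
    hCancel hST hPl hPS hQV hB4 a₀ b₀ ha x hx hxx d ⊤ hst hTnd hTnp hfin m hme hm2
    (by omega) hcond
  exact ⟨W, hW, hWst⟩

end Cfsg.Agent.Lib.Helper10.EMC2FIX
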