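import Mathlib
import Cfsg.Agent.Lib.Helper57.FTStmt

/-!
# S3999, piece NO15 (second seat)

Index `≤ 2` over `S × M`, `S ≃* SL(2,5)`, `|M|` coprime to `30`, no element of order `15` in
`SL(2,5)`: no element of order `15`.
-/

set_option autoImplicit false

universe u

namespace Cfsg.Agent.Lib.Helper10.FTNO15

theorem main : Cfsg.Agent.Lib.Helper57.FTStmt.No15.{u} := by
  intro Y _ _ G₀ S M hG₀n hidx hSM hdisj hcomm ⟨e⟩ hcop hSL y hy
  have hy15 : y ^ 15 = 1 := by rw [← hy]; exact pow_orderOf_eq_one y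
  have hyG : y ∈ G₀ := by
    rcases hidx with h1 | h2
    · rw [Subgroup.index_eq_one] at h1
      rw [h1]; exact Subgroup.mem_top y
    · have h := Subgroup.mul_self_mem_of_index_two h2 y
      have e8 : y = (y * y) ^ 8 := by
        have h16 : (y * y) ^ 8 = y ^ 15 * y := by
          rw [← pow_two, ← pow_mul, ← pow_succ]
        rw [h16, hy15, one_mul]
      rw [e8]
      exact G₀.pow_mem h 8
  have hcomm' : ∀ (m : S) (n : M), Commute (S.subtype m) (M.subtype n) :=
    fun m n => hcomm m.1 m.2 n.1 n.2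
  have hrange : (MonoidHom.noncommCoprod S.subtype M.subtype hcomm').range = S ⊔ M := by
    rw [MonoidHom.noncommCoprod_range, Subgroup.range_subtype, Subgroup.range_subtype]
  rw [← hSM, ← hrange] at hyG
  obtain ⟨⟨s, t⟩, hst⟩ := hyG
  rw [MonoidHom.noncommCoprod_apply] at hst
  simp only [Subgroup.coe_subtype] at hst
  have hc : Commute (s : Y) (t : Y) := hcomm s.1 s.2 t.1 t.2
  have h15 : (s : Y) ^ 15 * (t : Y) ^ 15 = 1 := by
    rw [← hc.mul_pow, hst, hy15]
  have ht15S : (t : Y) ^ 15 ∈ S := by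
    have h : (t : Y) ^ 15 = ((s : Y) ^ 15)⁻¹ := by
      rw [eq_inv_iff_mul_eq_one, ← h15]
      exact ((hc.pow_pow 15 15).eq).symm
    rw [h]; exact S.inv_mem (S.pow_mem s.2 15)
  have ht15 : (t : Y) ^ 15 = 1 := by
    have h : (t : Y) ^ 15 ∈ S ⊓ M := ⟨ht15S, M.pow_mem t.2 15⟩
    rw [hdisj, Subgroup.mem_bot] at h
    exact h
  have ht1 : (t : Y) = 1 := by
    have hd1 : orderOf (t : Y) ∣ 15 := orderOf_dvd_of_pow_eq_one ht15
    have hd2 : orderOf (t : Y) ∣ Nat.card M := Subgroup.orderOf_dvd_natCard M t.2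
    have hc15 : (Nat.card M).Coprime 15 :=
      Nat.Coprime.coprime_dvd_right (by norm_num : 15 ∣ 30) hcop
    have h1 : orderOf (t : Y) ∣ 1 := by
      have h := Nat.dvd_gcd hd2 hd1
      rwa [Nat.Coprime.gcd_eq_one hc15] at h
    exact orderOf_eq_one_iff.mp (Nat.dvd_one.mp h1)
  rw [ht1, mul_one] at hst
  have hos : orderOf s = 15 := by
    rw [← Subgroup.orderOf_coe, hst, hy]
  apply hSL (e s)
  rw [MulEquiv.orderOf_eq]; exact hos

end Cfsg.Agent.Lib.Helper10.FTNO15
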