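import Cfsg.Agent.Lib.Helper10.FusWC
import Cfsg.Agent.Lib.Helper87.BisetTransfer
import Cfsg.Agent.S5144
import Cfsg.Agent.S5294

/-!
# The weak-closure engine for an isomorphism-invariant functor `W` on `p`-groups

`U T = (W ↥T).map T.subtype`.  The centre of the normalizer system of `W(S)` contains the centre of
`F`, and an element of the former lies in the latter as soon as the local condition `LocCond` of
`FusWC` holds at all fully automized, receptive, centric subgroups.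
-/

set_option autoImplicit false
open Cfsg Cfsg.FusionSystem

namespace Cfsg.Agent.Lib.Helper10.FusFunctor

open Cfsg.Agent.Lib.Helper87.FSBasic Cfsg.Agent.Lib.Helper87.FSSat Cfsg.Agent.Lib.Helper10.FusWC

universe u

theorem mem_map_subtype {G : Type*} [Group G] {T : Subgroup G} (K : Subgroup T) (x : T) :
    (x : G) ∈ K.map T.subtype ↔ x ∈ K := by
  constructor
  · rintro ⟨y, hy, hyx⟩
    have e : y = x := Subtype.ext hyx
    rwa [← e]
  · intro hx
    exact ⟨x, hx, rfl⟩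

theorem W_iso {p : ℕ} (W : ∀ (Q : Type u) [Group Q], Subgroup Q)
    (hW2 : ∀ (Q R : Type u) [Group Q] [Group R] [Finite Q], IsPGroup p Q →
      ∀ φ : Q ≃* R, (W Q).map φ.toMonoidHom = W R)
    {Q R : Type u} [Group Q] [Group R] [Finite Q] (hQ : IsPGroup p Q) (e : Q ≃* R) (x : Q) :
    e x ∈ W R ↔ x ∈ W Q := by
  rw [← hW2 Q R hQ e]
  exact Subgroup.mem_map_iff_mem e.injective

theorem W_conj_mem {p : ℕ} (W : ∀ (Q : Type u) [Group Q], Subgroup Q)
    (hW2 : ∀ (Q R : Type u) [Group Q] [Group R] [Finite Q], IsPGroup p Q →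
      ∀ φ : Q ≃* R, (W Q).map φ.toMonoidHom = W R)
    {G : Type u} [Group G] {P : Subgroup G} [Finite P] (hP : IsPGroup p P) {h : G} (hh : h ∈ P)
    {t : G} (ht : t ∈ (W ↥P).map P.subtype) : h * t * h⁻¹ ∈ (W ↥P).map P.subtype := by
  obtain ⟨w, hw, rfl⟩ := ht
  have h2 : (MulAut.conj (⟨h, hh⟩ : P)) w ∈ W ↥P :=
    (W_iso W hW2 hP (MulAut.conj (⟨h, hh⟩ : P)) w).mpr hw
  exact ⟨_, h2, rfl⟩

theorem le_normalizer_W {p : ℕ} (W : ∀ (Q : Type u) [Group Q], Subgroup Q)
    (hW2 : ∀ (Q R : Type u) [Group Q] [Group R] [Finite Q], IsPGroup p Q →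
      ∀ φ : Q ≃* R, (W Q).map φ.toMonoidHom = W R)
    {G : Type u} [Group G] {P : Subgroup G} [Finite P] (hP : IsPGroup p P) :
    P ≤ Subgroup.normalizer (((W ↥P).map P.subtype : Subgroup G) : Set G) := by
  intro h hh
  refine Cfsg.Agent.H85.mem_normalizer_of_forall (fun t ht => W_conj_mem W hW2 hP hh ht) ?_
  intro t ht
  have h1 := W_conj_mem W hW2 hP (P.inv_mem hh) ht
  rwa [inv_inv] at h1

section fusion

variable {p : ℕ} [Fact p.Prime] (W : ∀ (Q : Type u) [Group Q], Subgroup Q)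

theorem U_Z
    (hWZ : ∀ (Q : Type u) [Group Q] [Finite Q], IsPGroup p Q → Subgroup.center Q ≤ W Q)
    {Ω : Type u} [Group Ω] {S : Subgroup Ω} [Finite S] (hS : IsPGroup p S)
    (T : Subgroup Ω) (hTS : T ≤ S) :
    T ⊓ Subgroup.centralizer (T : Set Ω) ≤ (W ↥T).map T.subtype := by
  haveI : Finite T := finite_of_le hTS
  rintro x ⟨hxT, hxC⟩
  refine ⟨⟨x, hxT⟩, hWZ ↥T (hS.to_le hTS) ?_, rfl⟩
  refine Subgroup.mem_center_iff.mpr ?_
  intro g
  apply Subtype.ext
  exact (Subgroup.mem_centralizer_iff.mp hxC) g g.2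

theorem U_eq
    (hW2 : ∀ (Q R : Type u) [Group Q] [Group R] [Finite Q], IsPGroup p Q →
      ∀ φ : Q ≃* R, (W Q).map φ.toMonoidHom = W R)
    {Ω : Type u} [Group Ω] {S : Subgroup Ω} [Finite S] (hS : IsPGroup p S) (F : FusionSystem S)
    (T : Subgroup Ω) (θ : T →* Ω) (hθ : θ ∈ F.Hom T) (x : T) :
    (x : Ω) ∈ (W ↥T).map T.subtype ↔ θ x ∈ (W ↥θ.range).map θ.range.subtype := by
  have hTS : T ≤ S := dom_le F hθ
  haveI : Finite T := finite_of_le hTS
  have hT : IsPGroup p T := hS.to_le hTS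
  rw [mem_map_subtype]
  have h := W_iso W hW2 hT (MonoidHom.ofInjective (F.injective_of_mem hθ)) x
  rw [← h]
  exact (mem_map_subtype (W ↥θ.range) (MonoidHom.ofInjective (F.injective_of_mem hθ) x)).symm

theorem le_normalizerIn_W
    (hW2 : ∀ (Q R : Type u) [Group Q] [Group R] [Finite Q], IsPGroup p Q →
      ∀ φ : Q ≃* R, (W Q).map φ.toMonoidHom = W R)
    {Ω : Type u} [Group Ω] {S : Subgroup Ω} [Finite S] (hS : IsPGroup p S) :
    S ≤ normalizerIn S ((W ↥S).map S.subtype) :=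
  fun _ hx => ⟨hx, le_normalizer_W W hW2 hS hx⟩

theorem center_le_normalizer_center
    (hW2 : ∀ (Q R : Type u) [Group Q] [Group R] [Finite Q], IsPGroup p Q →
      ∀ φ : Q ≃* R, (W Q).map φ.toMonoidHom = W R)
    (hWZ : ∀ (Q : Type u) [Group Q] [Finite Q], IsPGroup p Q → Subgroup.center Q ≤ W Q)
    {Ω : Type u} [Group Ω] {S : Subgroup Ω} [Finite S] (hS : IsPGroup p S) (F : FusionSystem S)
    (N : FusionSystem (normalizerIn S ((W ↥S).map S.subtype)))
    (hN : F.IsNormalizerSystem ((W ↥S).map S.subtype) N) : F.center ≤ N.center := by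
  have hNS := le_normalizerIn_W W hW2 hS
  have hc : F.IsCentral F.center := Cfsg.Agent.S5144.result F
  have hZS : F.center ≤ S ⊓ Subgroup.centralizer (S : Set Ω) :=
    Cfsg.Agent.S5294.le_center_of_isCentral F hc
  have hZW : F.center ≤ (W ↥S).map S.subtype := hZS.trans (U_Z W hWZ hS S le_rfl)
  have hcen : N.IsCentral F.center := by
    refine ⟨hc.1.trans hNS, fun P φ hφ => ?_⟩
    rw [hN P] at hφ
    obtain ⟨hφF, hPN, hφN, ψ, hψ, hψφ, hψW⟩ := hφ
    have hle1 : P ⊔ F.center ≤ P ⊔ (W ↥S).map S.subtype := sup_le_sup le_rfl hZW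
    have hle2 : (P ⊔ F.center) ⊔ (W ↥S).map S.subtype ≤ P ⊔ (W ↥S).map S.subtype :=
      sup_le hle1 le_sup_right
    refine ⟨ψ.comp (Subgroup.inclusion hle1), ?_, fun x => hψφ x, fun x => ?_⟩
    · rw [hN (P ⊔ F.center)]
      refine ⟨restrict_mem F hψ hle1, sup_le hPN (hc.1.trans hNS),
        fun x => hNS (map_mem F hψ _), ψ.comp (Subgroup.inclusion hle2),
        restrict_mem F hψ hle2, fun x => rfl, ?_⟩
      have h := Cfsg.Agent.H84.img_restrict hle2 ψ
        (le_sup_right : (W ↥S).map S.subtype ≤ (P ⊔ F.center) ⊔ (W ↥S).map S.subtype)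
      exact h.trans hψW
    · exact (Cfsg.Agent.Lib.Helper87.BisetTransfer.center_fixed F x.2).2 _ ψ hψ _
  exact le_sSup hcen

theorem autFix_of_mem_normalizer_center
    (hW2 : ∀ (Q R : Type u) [Group Q] [Group R] [Finite Q], IsPGroup p Q →
      ∀ φ : Q ≃* R, (W Q).map φ.toMonoidHom = W R)
    {Ω : Type u} [Group Ω] {S : Subgroup Ω} [Finite S] (hS : IsPGroup p S) (F : FusionSystem S)
    (N : FusionSystem (normalizerIn S ((W ↥S).map S.subtype)))
    (hN : F.IsNormalizerSystem ((W ↥S).map S.subtype) N) {z : Ω} (hz : z ∈ N.center) :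
    z ∈ S ∧ (∀ g ∈ S, g * z * g⁻¹ = z) ∧ AutFix F z ((W ↥S).map S.subtype) := by
  haveI : Finite ↥(normalizerIn S ((W ↥S).map S.subtype)) := finite_of_le inf_le_left
  have hcN : N.IsCentral N.center := Cfsg.Agent.S5144.result N
  have h1 := Cfsg.Agent.S5294.le_center_of_isCentral N hcN hz
  have hNS := le_normalizerIn_W W hW2 hS
  refine ⟨h1.1.1, fun g hg => ?_, ?_⟩
  · have h2 := (Subgroup.mem_centralizer_iff.mp h1.2) g (hNS hg)
    rw [h2, mul_inv_cancel_right]
  · intro α hα hr hzW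
    have hWS : (W ↥S).map S.subtype ≤ S := Subgroup.map_subtype_le _
    have hαN : α ∈ N.Hom ((W ↥S).map S.subtype) := by
      have h2 := Cfsg.Agent.H84.normalizerSystem_aut_mem F hWS N hN
        (autOfMap α (F.injective_of_mem hα) hr) (autOfMap_mem F hα hr)
      exact mem_of_eq N h2 (fun x => rfl)
    exact (Cfsg.Agent.Lib.Helper87.BisetTransfer.center_fixed N hz).2 _ α hαN hzW

/-- The engine for the functor `W`. -/
theorem functor_engine
    (hW2 : ∀ (Q R : Type u) [Group Q] [Group R] [Finite Q], IsPGroup p Q →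
      ∀ φ : Q ≃* R, (W Q).map φ.toMonoidHom = W R)
    (hWZ : ∀ (Q : Type u) [Group Q] [Finite Q], IsPGroup p Q → Subgroup.center Q ≤ W Q)
    {Ω : Type u} [Group Ω] {S : Subgroup Ω} [Finite S] (hS : IsPGroup p S) (F : FusionSystem S)
    (hF : F.IsSaturated p)
    (N : FusionSystem (normalizerIn S ((W ↥S).map S.subtype)))
    (hN : F.IsNormalizerSystem ((W ↥S).map S.subtype) N) {z : Ω} (hz : z ∈ N.center)
    (hloc : ∀ Y, F.IsFullyAutomized p Y → F.IsReceptive Y → F.IsCentric Y →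
      LocCond p F (fun T => (W ↥T).map T.subtype) z Y) : z ∈ F.center := by
  obtain ⟨hzS, hzC, hfix⟩ := autFix_of_mem_normalizer_center W hW2 hS F N hN hz
  exact engine hS F hF (fun T => (W ↥T).map T.subtype) (fun T => Subgroup.map_subtype_le _)
    (U_Z W hWZ hS) (U_eq W hW2 hS F) hzS hzC hfix hloc

theorem model_mem_iff
    (hW2 : ∀ (Q R : Type u) [Group Q] [Group R] [Finite Q], IsPGroup p Q →
      ∀ φ : Q ≃* R, (W Q).map φ.toMonoidHom = W R)
    {Ω : Type u} [Group Ω] {T : Subgroup Ω} [Finite T] (hT : IsPGroup p T)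
    {L : Type u} [Group L] {ι : T →* L} (hinj : Function.Injective ι) {P0 : Subgroup L}
    (hP0 : P0 = ι.range) (x : T) :
    ι x ∈ (W ↥P0).map P0.subtype ↔ (x : Ω) ∈ (W ↥T).map T.subtype := by
  subst hP0
  rw [mem_map_subtype]
  have h := W_iso W hW2 hT (MonoidHom.ofInjective hinj) x
  rw [← h]
  exact mem_map_subtype (W ↥ι.range) (MonoidHom.ofInjective hinj x)

theorem loc_hyp_of_mem_normalizer
    (hW2 : ∀ (Q R : Type u) [Group Q] [Group R] [Finite Q], IsPGroup p Q →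
      ∀ φ : Q ≃* R, (W Q).map φ.toMonoidHom = W R)
    {Ω : Type u} [Group Ω] {T : Subgroup Ω} [Finite T] (hT : IsPGroup p T)
    {L : Type u} [Group L] {ι : T →* L} (hinj : Function.Injective ι) {P0 : Subgroup L}
    (hP0 : P0 = ι.range) {g : L}
    (hg : g ∈ Subgroup.normalizer (((W ↥P0).map P0.subtype : Subgroup L) : Set L)) (x : T)
    (hx : (x : Ω) ∈ (W ↥T).map T.subtype) :
    ∃ y : T, (y : Ω) ∈ (W ↥T).map T.subtype ∧ g * ι x * g⁻¹ = ι y := by
  have h1 : ι x ∈ (W ↥P0).map P0.subtype := (model_mem_iff W hW2 hT hinj hP0 x).mpr hx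
  have h2 : g * ι x * g⁻¹ ∈ (W ↥P0).map P0.subtype :=
    (Subgroup.mem_normalizer_iff.mp hg _).mp h1
  have h3 : g * ι x * g⁻¹ ∈ ι.range := by
    rw [← hP0]
    exact Subgroup.map_subtype_le _ h2
  obtain ⟨y, hy⟩ := h3
  refine ⟨y, (model_mem_iff W hW2 hT hinj hP0 y).mp ?_, hy.symm⟩
  rw [hy]
  exact h2

end fusion

end Cfsg.Agent.Lib.Helper10.FusFunctor
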