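import Mathlib
import Cfsg.Agent.Lib.Helper96.HallAltStmt

/-!
# S2538, piece PD3: a transitive abelian permutation group is regular
-/

set_option autoImplicit false

namespace Cfsg.Agent.Lib.Helper10.HAPD3

open Equiv Cfsg.Agent.Lib.Helper96.HallSymStmt Cfsg.Agent.Lib.Helper96.HallAltStmt

theorem main : Cfsg.Agent.Lib.Helper96.HallAltStmt.PD3 := by
  intro Ω _ _ N htr hpos hab
  obtain ⟨x₀⟩ : Nonempty Ω := Fintype.card_pos_iff.mp hpos
  rw [← Nat.card_eq_fintype_card]
  apply Nat.card_eq_of_bijective (fun n : ↥N => (n : Perm Ω) x₀)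
  constructor
  · intro n n' hnn
    apply Subtype.ext
    ext y
    obtain ⟨m, hm, rfl⟩ := htr x₀ y
    have h1 : (n : Perm Ω) (m x₀) = m ((n : Perm Ω) x₀) := by
      have := hab n n.2 m hm
      exact congrArg (fun σ : Perm Ω => σ x₀) this
    have h2 : (n' : Perm Ω) (m x₀) = m ((n' : Perm Ω) x₀) := by
      have := hab n' n'.2 m hm
      exact congrArg (fun σ : Perm Ω => σ x₀) this
    rw [h1, h2]
    exact congrArg m hnn
  · intro y
    obtain ⟨m, hm, hmy⟩ := htr x₀ y
    exact ⟨⟨m, hm⟩, hmy⟩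

end Cfsg.Agent.Lib.Helper10.HAPD3
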