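import Mathlib
import Cfsg.Agent.Lib.Helper96.HallAltStmt
import Cfsg.Agent.Lib.Helper10.HSBLK1

/-!
# S2538, piece QCNT: the action on the fibres
-/

set_option autoImplicit false

namespace Cfsg.Agent.Lib.Helper10.HAQCNT

open Equiv Cfsg.Agent.Lib.Helper96.HallSymStmt Cfsg.Agent.Lib.Helper96.HallAltStmt

theorem main : Cfsg.Agent.Lib.Helper96.HallAltStmt.QCNT := by
  intro Ω _ _ ι _ f M hf hpres
  classical
  have h1 := Cfsg.Agent.Lib.Helper10.HSBLK1.card_H_eq (H := M) hf hpres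
  have h2 : Nat.card (MonoidHom.toHomPerm (Cfsg.Agent.Lib.Helper10.HSBLK1.phi0 hf hpres)).range ∣
      (Fintype.card ι).factorial := by
    have := Subgroup.card_subgroup_dvd_card
      (MonoidHom.toHomPerm (Cfsg.Agent.Lib.Helper10.HSBLK1.phi0 hf hpres)).range
    rwa [Nat.card_perm, Nat.card_eq_fintype_card (α := ι)] at this
  have h3 : Cfsg.Agent.Lib.Helper10.HSBLK1.Hf M f = M ⊓ FP f := by
    ext h
    rfl
  rw [h1, h3]
  exact Nat.mul_dvd_mul_left _ h2

end Cfsg.Agent.Lib.Helper10.HAQCNT
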