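import Mathlib
import Cfsg.Agent.Lib.Helper2.Nilp
import Cfsg.Agent.Lib.Helper71.Fitting
import Cfsg.Agent.Lib.Helper21.Layer
import Cfsg.Agent.S0552
import Cfsg.Agent.S0065

set_option autoImplicit false

/-! General lemmas for the Kegel–Wielandt package (helper10). -/

namespace Cfsg.Agent.Lib.Helper10.KW0

open scoped Pointwise

variable {G : Type*} [Group G]

theorem mem_conj (A : Subgroup G) (g x : G) :
    x ∈ MulAut.conj g • A ↔ g⁻¹ * x * g ∈ A := by
  rw [Subgroup.mem_pointwise_smul_iff_inv_smul_mem, MulAut.smul_def, MulAut.conj_inv_apply]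

theorem conj_mem_conj (A : Subgroup G) (g : G) {x : G} (hx : x ∈ A) :
    g * x * g⁻¹ ∈ MulAut.conj g • A := by
  rw [mem_conj]
  have e : g⁻¹ * (g * x * g⁻¹) * g = x := by group
  rw [e]; exact hx

theorem card_conj (A : Subgroup G) (g : G) :
    Nat.card (MulAut.conj g • A : Subgroup G) = Nat.card A :=
  Nat.card_congr (Subgroup.equivSMul (MulAut.conj g) A).toEquiv.symm

theorem orderOf_conj (g x : G) : orderOf (g * x * g⁻¹) = orderOf x := by
  have := MulEquiv.orderOf_eq (MulAut.conj g) x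
  rwa [MulAut.conj_apply] at this

theorem conj_conj (A : Subgroup G) (g h : G) :
    MulAut.conj g • MulAut.conj h • A = MulAut.conj (g * h) • A := by
  rw [smul_smul, ← map_mul]

theorem conj_one (A : Subgroup G) : MulAut.conj (1 : G) • A = A := by
  rw [map_one, one_smul]

/-- `X` is a subgroup of `A` normalized by `A`. -/
def NormIn (A X : Subgroup G) : Prop := X ≤ A ∧ ∀ a ∈ A, ∀ x ∈ X, a * x * a⁻¹ ∈ X

theorem conj_eq_of_normIn {A X : Subgroup G} (h : NormIn A X) {a : G} (ha : a ∈ A) :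
    MulAut.conj a • X = X := by
  ext x
  rw [mem_conj]
  constructor
  · intro hx
    have h1 := h.2 a ha _ hx
    have e : a * (a⁻¹ * x * a) * a⁻¹ = x := by group
    rwa [e] at h1
  · intro hx
    have h1 := h.2 a⁻¹ (A.inv_mem ha) _ hx
    rwa [inv_inv] at h1

theorem normIn_sup {A X Y : Subgroup G} (h1 : NormIn A X) (h2 : NormIn A Y) :
    NormIn A (X ⊔ Y) := by
  refine ⟨sup_le h1.1 h2.1, fun a ha x hx => ?_⟩
  have e : MulAut.conj a • (X ⊔ Y) = X ⊔ Y := by
    rw [Subgroup.smul_sup, conj_eq_of_normIn h1 ha, conj_eq_of_normIn h2 ha]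
  rw [← e]
  exact conj_mem_conj _ a hx

theorem normIn_self (A : Subgroup G) : NormIn A A :=
  ⟨le_rfl, fun a ha x hx => A.mul_mem (A.mul_mem ha hx) (A.inv_mem ha)⟩

/-- The centre of `A`, as a subgroup of `G`. -/
def Zc (A : Subgroup G) : Subgroup G := A ⊓ Subgroup.centralizer (A : Set G)

theorem mem_Zc (A : Subgroup G) (x : G) : x ∈ Zc A ↔ x ∈ A ∧ ∀ a ∈ A, a * x = x * a := by
  unfold Zc
  rw [Subgroup.mem_inf, Subgroup.mem_centralizer_iff]
  rfl

theorem Zc_le (A : Subgroup G) : Zc A ≤ A := inf_le_left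

theorem normIn_Zc (A : Subgroup G) : NormIn A (Zc A) := by
  refine ⟨inf_le_left, fun a ha x hx => ?_⟩
  have h := ((mem_Zc A x).mp hx).2 a ha
  rw [h, mul_assoc, mul_inv_cancel, mul_one]
  exact hx

theorem normIn_zpowers {A : Subgroup G} {z : G} (hz : z ∈ Zc A) :
    NormIn A (Subgroup.zpowers z) := by
  refine ⟨(Subgroup.zpowers_le.mpr hz).trans (Zc_le A), fun a ha x hx => ?_⟩
  have hx' : x ∈ Zc A := (Subgroup.zpowers_le.mpr hz) hx
  have h := ((mem_Zc A x).mp hx').2 a ha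
  rw [h, mul_assoc, mul_inv_cancel, mul_one]
  exact hx

theorem mem_Zc_conj (A : Subgroup G) (g : G) {z : G} (hz : z ∈ Zc A) :
    g * z * g⁻¹ ∈ Zc (MulAut.conj g • A) := by
  rw [mem_Zc] at hz ⊢
  refine ⟨conj_mem_conj A g hz.1, fun a ha => ?_⟩
  rw [mem_conj] at ha
  have h := hz.2 _ ha
  have e1 : a * (g * z * g⁻¹) = g * ((g⁻¹ * a * g) * z) * g⁻¹ := by group
  have e2 : g * z * g⁻¹ * a = g * (z * (g⁻¹ * a * g)) * g⁻¹ := by group
  rw [e1, e2, h]

/-- Commuting decomposition of an element into its `r`-part and `r'`-part. -/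
theorem exists_decomp [Finite G] (r : ℕ) [hr : Fact r.Prime] (x : G) :
    ∃ u v : G, u ∈ Subgroup.zpowers x ∧ v ∈ Subgroup.zpowers x ∧ x = u * v ∧
      (∃ k, orderOf u = r ^ k) ∧ (orderOf v).Coprime r := by
  have hn : orderOf x ≠ 0 := (orderOf_pos x).ne'
  obtain ⟨e, m, hm, hnm⟩ := Nat.exists_eq_pow_mul_and_not_dvd hn r hr.out.ne_one
  have hcop : Nat.Coprime (r ^ e) m :=
    Nat.Coprime.pow_left e ((Nat.Prime.coprime_iff_not_dvd hr.out).mpr hm)
  have hb := Nat.gcd_eq_gcd_ab (r ^ e) m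
  rw [hcop] at hb
  set a := Nat.gcdA (r ^ e) m
  set b := Nat.gcdB (r ^ e) m
  have hxm : (x ^ m) ^ (r ^ e) = 1 := by
    rw [← pow_mul, mul_comm, ← hnm, pow_orderOf_eq_one]
  have hxr : (x ^ (r ^ e)) ^ m = 1 := by
    rw [← pow_mul, ← hnm, pow_orderOf_eq_one]
  refine ⟨(x ^ m) ^ b, (x ^ (r ^ e)) ^ a, ?_, ?_, ?_, ?_, ?_⟩
  · exact Subgroup.zpow_mem _ (Subgroup.pow_mem _ (Subgroup.mem_zpowers x) _) _
  · exact Subgroup.zpow_mem _ (Subgroup.pow_mem _ (Subgroup.mem_zpowers x) _) _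
  · rw [← zpow_natCast x m, ← zpow_natCast x (r ^ e), ← zpow_mul, ← zpow_mul, ← zpow_add]
    have : (m : ℤ) * b + ((r ^ e : ℕ) : ℤ) * a = 1 := by
      rw [add_comm]; exact hb.symm
    rw [this, zpow_one]
  · have h1 : orderOf ((x ^ m) ^ b) ∣ orderOf (x ^ m) :=
      orderOf_dvd_of_mem_zpowers (Subgroup.zpow_mem _ (Subgroup.mem_zpowers _) _)
    have h2 : orderOf (x ^ m) ∣ r ^ e := orderOf_dvd_of_pow_eq_one hxm
    obtain ⟨k, -, hk⟩ := (Nat.dvd_prime_pow hr.out).mp (h1.trans h2)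
    exact ⟨k, hk⟩
  · have h1 : orderOf ((x ^ (r ^ e)) ^ a) ∣ orderOf (x ^ (r ^ e)) :=
      orderOf_dvd_of_mem_zpowers (Subgroup.zpow_mem _ (Subgroup.mem_zpowers _) _)
    have h2 : orderOf (x ^ (r ^ e)) ∣ m := orderOf_dvd_of_pow_eq_one hxr
    exact Nat.Coprime.coprime_dvd_left (h1.trans h2)
      ((Nat.Prime.coprime_iff_not_dvd hr.out).mpr hm).symm

/-- A subgroup containing all elements of prime power order of `X` contains `X`. -/
theorem le_of_prime_pow_mem [Finite G] (X S : Subgroup G)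
    (h : ∀ x ∈ X, (∃ r k : ℕ, r.Prime ∧ orderOf x = r ^ k) → x ∈ S) : X ≤ S := by
  have key : ∀ n : ℕ, ∀ x ∈ X, orderOf x = n → x ∈ S := by
    intro n
    induction n using Nat.strong_induction_on with
    | _ n ih =>
      intro x hx hn
      by_cases h1 : n = 1
      · rw [h1] at hn
        rw [orderOf_eq_one_iff.mp hn]; exact S.one_mem
      have hr : (Nat.minFac n).Prime := Nat.minFac_prime h1
      haveI : Fact (Nat.minFac n).Prime := ⟨hr⟩
      obtain ⟨u, v, hu, hv, hxuv, ⟨k, hk⟩, hcop⟩ := exists_decomp (Nat.minFac n) x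
      have huX : u ∈ X := (Subgroup.zpowers_le.mpr hx) hu
      have hvX : v ∈ X := (Subgroup.zpowers_le.mpr hx) hv
      have huS : u ∈ S := h u huX ⟨_, k, hr, hk⟩
      have hvn : orderOf v ∣ n := hn ▸ orderOf_dvd_of_mem_zpowers hv
      have hn0 : 0 < n := hn ▸ orderOf_pos x
      have hlt : orderOf v < n := by
        rcases (Nat.le_of_dvd hn0 hvn).lt_or_eq with h2 | h2
        · exact h2
        · exfalso
          rw [h2] at hcop
          have := Nat.Coprime.eq_one_of_dvd hcop.symm (Nat.minFac_dvd n)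
          exact hr.ne_one this
      have hvS : v ∈ S := ih _ hlt v hvX rfl
      rw [hxuv]; exact S.mul_mem huS hvS
  intro x hx
  exact key _ x hx rfl

theorem exists_pow_prime_order [Finite G] {x : G} (hx : x ≠ 1) :
    ∃ (p : ℕ) (k : ℕ), p.Prime ∧ orderOf (x ^ k) = p := by
  have h1 : orderOf x ≠ 1 := fun h => hx (orderOf_eq_one_iff.mp h)
  refine ⟨Nat.minFac (orderOf x), orderOf x / Nat.minFac (orderOf x), Nat.minFac_prime h1, ?_⟩
  exact orderOf_pow_orderOf_div (orderOf_pos x).ne' (Nat.minFac_dvd _)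

theorem commute_of_coprime [Finite G] (A : Subgroup G) (hA : Group.IsNilpotent A) {x y : G}
    (hx : x ∈ A) (hy : y ∈ A) (h : (orderOf x).Coprime (orderOf y)) : x * y = y * x := by
  have h1 := Cfsg.Agent.Lib.Helper2.Nilp.commute_of_coprime A inferInstance ⟨x, hx⟩ ⟨y, hy⟩
    (by rw [Subgroup.orderOf_mk, Subgroup.orderOf_mk]; exact h)
  exact congrArg Subtype.val h1

/-- The subgroup generated by the `r'`-elements of `X`. -/
def Ec (X : Subgroup G) (r : ℕ) : Subgroup G :=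
  Subgroup.closure {x | x ∈ X ∧ (orderOf x).Coprime r}

theorem Ec_le (X : Subgroup G) (r : ℕ) : Ec X r ≤ X :=
  (Subgroup.closure_le X).mpr (fun _ hx => hx.1)

theorem mem_Ec {X : Subgroup G} {r : ℕ} {x : G} (hx : x ∈ X) (h : (orderOf x).Coprime r) :
    x ∈ Ec X r := Subgroup.subset_closure ⟨hx, h⟩

theorem Ec_mono {X Y : Subgroup G} (h : X ≤ Y) (r : ℕ) : Ec X r ≤ Ec Y r :=
  Subgroup.closure_mono (fun _ hx => ⟨h hx.1, hx.2⟩)

theorem Ec_conj_mem {X : Subgroup G} {r : ℕ} (g : G) (hg : ∀ x ∈ X, g * x * g⁻¹ ∈ X) :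
    ∀ x ∈ Ec X r, g * x * g⁻¹ ∈ Ec X r := by
  have h1 : Ec X r ≤ (Ec X r).comap (MulAut.conj g).toMonoidHom := by
    apply (Subgroup.closure_le _).mpr
    intro x hx
    show (MulAut.conj g) x ∈ Ec X r
    rw [MulAut.conj_apply]
    exact mem_Ec (hg x hx.1) (by rw [orderOf_conj]; exact hx.2)
  intro x hx
  have := h1 hx
  rw [Subgroup.mem_comap] at this
  simpa [MulAut.conj_apply] using this

theorem normIn_Ec (A : Subgroup G) (r : ℕ) : NormIn A (Ec A r) :=
  ⟨Ec_le A r, fun a ha x hx =>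
    Ec_conj_mem a (fun y hy => A.mul_mem (A.mul_mem ha hy) (A.inv_mem ha)) x hx⟩

theorem Ec_commute [Finite G] (A : Subgroup G) (hA : Group.IsNilpotent A) (r : ℕ) {y : G}
    (hy : y ∈ A) (hyr : ∃ k, orderOf y = r ^ k) : ∀ x ∈ Ec A r, x * y = y * x := by
  have h1 : Ec A r ≤ Subgroup.centralizer {y} := by
    apply (Subgroup.closure_le _).mpr
    intro x hx
    rw [SetLike.mem_coe, Subgroup.mem_centralizer_iff]
    intro h hh
    rw [Set.mem_singleton_iff] at hh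
    subst hh
    obtain ⟨k, hk⟩ := hyr
    exact (commute_of_coprime A hA hx.1 hy (by rw [hk]; exact Nat.Coprime.pow_right k hx.2)).symm
  intro x hx
  have := h1 hx
  rw [Subgroup.mem_centralizer_iff] at this
  exact (this y rfl).symm

theorem mem_sup_Ec [Finite G] (A : Subgroup G) {r₁ r₂ : ℕ} [h1 : Fact r₁.Prime]
    [h2 : Fact r₂.Prime] (hne : r₁ ≠ r₂) {x : G} (hx : x ∈ A) : x ∈ Ec A r₁ ⊔ Ec A r₂ := by
  obtain ⟨u, v, hu, hv, hxuv, ⟨k, hk⟩, hcop⟩ := exists_decomp r₁ x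
  have huA : u ∈ A := (Subgroup.zpowers_le.mpr hx) hu
  have hvA : v ∈ A := (Subgroup.zpowers_le.mpr hx) hv
  rw [hxuv]
  refine Subgroup.mul_mem _ (Subgroup.mem_sup_right (mem_Ec huA ?_))
    (Subgroup.mem_sup_left (mem_Ec hvA hcop))
  rw [hk]
  exact Nat.Coprime.pow_left k ((Nat.coprime_primes h1.out h2.out).mpr hne)

theorem isPGroup_of_Ec_eq_bot [Finite G] (A : Subgroup G) (r : ℕ) [Fact r.Prime]
    (h : Ec A r = ⊥) : IsPGroup r A := by
  intro a
  obtain ⟨u, v, hu, hv, hxuv, ⟨k, hk⟩, hcop⟩ := exists_decomp r (a : G)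
  have hvA : v ∈ A := (Subgroup.zpowers_le.mpr a.2) hv
  have hv1 : v = 1 := by
    have : v ∈ Ec A r := mem_Ec hvA hcop
    rw [h] at this
    exact Subgroup.mem_bot.mp this
  refine ⟨k, Subtype.ext ?_⟩
  rw [Subgroup.coe_pow, Subgroup.coe_one, hxuv, hv1, mul_one, ← hk, pow_orderOf_eq_one]

end Cfsg.Agent.Lib.Helper10.KW0
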