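import Mathlib
import Cfsg.Agent.Lib.Helper10.KW0

set_option autoImplicit false

/-! Nilpotent subgroups, Fitting subgroups and fixed points (Kegel–Wielandt package, helper10). -/

namespace Cfsg.Agent.Lib.Helper10.KW1

open scoped Pointwise
open Cfsg.Agent.Lib.Helper10.KW0

variable {G : Type*} [Group G]

theorem sylow_normal_of_nilpotent {N : Type*} [Group N] [Finite N] [hN : Group.IsNilpotent N]
    (p : ℕ) [Fact p.Prime] (P : Sylow p N) : (P : Subgroup N).Normal :=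
  Sylow.normal_of_normalizerCondition Group.normalizerCondition_of_isNilpotent P

/-- The `r`-elements of `F` (for nilpotent `F`: its Sylow `r`-subgroup), as a subgroup of `G`. -/
noncomputable def rPart (F : Subgroup G) (r : ℕ) [Fact r.Prime] : Subgroup G :=
  ((Classical.arbitrary (Sylow r F) : Sylow r F) : Subgroup F).map F.subtype

theorem rPart_le (F : Subgroup G) (r : ℕ) [Fact r.Prime] : rPart F r ≤ F :=
  Subgroup.map_subtype_le _

theorem isPGroup_rPart (F : Subgroup G) (r : ℕ) [Fact r.Prime] : IsPGroup r (rPart F r) :=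
  (Classical.arbitrary (Sylow r F)).isPGroup'.map _

theorem mem_rPart [Finite G] (F : Subgroup G) (hF : Group.IsNilpotent F) (r : ℕ)
    [hr : Fact r.Prime] (x : G) : x ∈ rPart F r ↔ x ∈ F ∧ ∃ k, orderOf x = r ^ k := by
  constructor
  · intro hx
    refine ⟨rPart_le F r hx, ?_⟩
    obtain ⟨k, hk⟩ := (isPGroup_rPart F r) ⟨x, hx⟩
    have h1 : x ^ r ^ k = 1 := by
      have := congrArg Subtype.val hk
      simpa using this
    obtain ⟨j, -, hj⟩ := (Nat.dvd_prime_pow hr.out).mp (orderOf_dvd_of_pow_eq_one h1)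
    exact ⟨j, hj⟩
  · rintro ⟨hxF, k, hk⟩
    set P : Sylow r F := Classical.arbitrary (Sylow r F) with hP
    have hPn : (P : Subgroup F).Normal := sylow_normal_of_nilpotent r P
    have hz : IsPGroup r (Subgroup.zpowers (⟨x, hxF⟩ : F)) := by
      apply IsPGroup.of_card (n := k)
      rw [Nat.card_zpowers, Subgroup.orderOf_mk, hk]
    obtain ⟨Q, hQ⟩ := hz.exists_le_sylow
    have hu := Sylow.unique_of_normal P hPn
    have hQP : Q = P := Subsingleton.elim _ _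
    rw [hQP] at hQ
    exact ⟨⟨x, hxF⟩, hQ (Subgroup.mem_zpowers _), rfl⟩

theorem card_rPart [Finite G] (F : Subgroup G) (r : ℕ) [Fact r.Prime] :
    Nat.card (rPart F r) = r ^ (Nat.card F).factorization r := by
  unfold rPart
  rw [Nat.card_congr (Subgroup.equivMapOfInjective _ F.subtype F.subtype_injective).toEquiv.symm]
  exact Sylow.card_eq_multiplicity _

theorem rPart_conj_mem [Finite G] (F : Subgroup G) (hF : Group.IsNilpotent F) (r : ℕ)
    [Fact r.Prime] (g : G) (hg : ∀ x ∈ F, g * x * g⁻¹ ∈ F) :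
    ∀ x ∈ rPart F r, g * x * g⁻¹ ∈ rPart F r := by
  intro x hx
  rw [mem_rPart F hF] at hx ⊢
  exact ⟨hg x hx.1, by rw [orderOf_conj]; exact hx.2⟩

theorem rPart_ne_bot [Finite G] (F : Subgroup G) (hF : Group.IsNilpotent F) (r : ℕ)
    [hr : Fact r.Prime] (h : r ∣ Nat.card F) : rPart F r ≠ ⊥ := by
  obtain ⟨x, hx⟩ := exists_prime_orderOf_dvd_card' r h
  intro hbot
  have h1 : (x : G) ∈ rPart F r := by
    rw [mem_rPart F hF]
    exact ⟨x.2, 1, by rw [Subgroup.orderOf_coe, hx, pow_one]⟩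
  rw [hbot, Subgroup.mem_bot] at h1
  have h2 : orderOf (x : G) = 1 := by rw [h1, orderOf_one]
  rw [Subgroup.orderOf_coe, hx] at h2
  exact hr.out.ne_one h2

/-- A nilpotent subgroup has a central element of each prime order dividing its order. -/
theorem exists_center_order [Finite G] (A : Subgroup G) (hA : Group.IsNilpotent A) (p : ℕ)
    [hp : Fact p.Prime] (h : p ∣ Nat.card A) : ∃ z ∈ Zc A, orderOf z = p := by
  set P : Sylow p A := Classical.arbitrary (Sylow p A) with hP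
  have hPn : (P : Subgroup A).Normal := sylow_normal_of_nilpotent p P
  have hPne : (P : Subgroup A) ≠ ⊥ := Sylow.ne_bot_of_dvd_card P h
  have h1 := Cfsg.Agent.S0065.result (P : Subgroup A) hPne
  obtain ⟨x, hx, hx1⟩ := (Subgroup.ne_bot_iff_exists_ne_one).mp h1 |> fun ⟨⟨x, hx⟩, hne⟩ =>
    (⟨x, hx, fun h => hne (Subtype.ext h)⟩ : ∃ x : A, x ∈ (P : Subgroup A) ⊓ Subgroup.center A ∧ x ≠ 1)
  obtain ⟨k, hk⟩ := P.isPGroup' ⟨x, hx.1⟩
  have hk' : x ^ p ^ k = 1 := by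
    have := congrArg Subtype.val hk
    simpa using this
  obtain ⟨j, -, hj⟩ := (Nat.dvd_prime_pow hp.out).mp (orderOf_dvd_of_pow_eq_one hk')
  have hj0 : j ≠ 0 := by
    rintro rfl
    rw [pow_zero] at hj
    exact hx1 (orderOf_eq_one_iff.mp hj)
  have hdvd : p ∣ orderOf x := by rw [hj]; exact dvd_pow_self p hj0
  have ho : orderOf (x ^ (orderOf x / p)) = p :=
    orderOf_pow_orderOf_div (orderOf_pos x).ne' hdvd
  refine ⟨((x ^ (orderOf x / p) : A) : G), ?_, ?_⟩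
  · rw [mem_Zc]
    refine ⟨(x ^ (orderOf x / p) : A).2, fun a ha => ?_⟩
    have hc : x ^ (orderOf x / p) ∈ Subgroup.center A := Subgroup.pow_mem _ hx.2 _
    have := Subgroup.mem_center_iff.mp hc ⟨a, ha⟩
    exact congrArg Subtype.val this
  · rw [Subgroup.orderOf_coe]; exact ho

/-- A nontrivial normal subgroup of a nilpotent subgroup meets its centre. -/
theorem exists_mem_inf_Zc [Finite G] (A N : Subgroup G) (hA : Group.IsNilpotent A)
    (hN : NormIn A N) (hne : N ≠ ⊥) : ∃ z ∈ N, z ∈ Zc A ∧ z ≠ 1 := by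
  have hn : (N.subgroupOf A).Normal := by
    refine ⟨fun n hn g => ?_⟩
    rw [Subgroup.mem_subgroupOf] at hn ⊢
    exact hN.2 g g.2 n hn
  have hne' : N.subgroupOf A ≠ ⊥ := by
    intro h
    apply hne
    rw [Subgroup.subgroupOf_eq_bot] at h
    exact disjoint_iff.mp h ▸ (inf_eq_left.mpr hN.1).symm
  have h1 := Cfsg.Agent.S0065.result (N.subgroupOf A) hne'
  obtain ⟨⟨x, hx⟩, hx1⟩ := (Subgroup.ne_bot_iff_exists_ne_one).mp h1
  refine ⟨(x : G), Subgroup.mem_subgroupOf.mp hx.1, ?_, fun h => hx1 (Subtype.ext (Subtype.ext h))⟩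
  rw [mem_Zc]
  refine ⟨x.2, fun a ha => ?_⟩
  have := Subgroup.mem_center_iff.mp hx.2 ⟨a, ha⟩
  exact congrArg Subtype.val this

/-- The Fitting subgroup of a solvable subgroup `K`, as a subgroup of `G`. -/
theorem exists_fitting [Finite G] (K : Subgroup G) (hK : Group.IsSolvable K) :
    ∃ F : Subgroup G, F ≤ K ∧ Group.IsNilpotent F ∧
      (∀ g ∈ Subgroup.normalizer (K : Set G), ∀ x ∈ F, g * x * g⁻¹ ∈ F) ∧
      (∀ x ∈ K, (∀ f ∈ F, x * f = f * x) → x ∈ F) := by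
  refine ⟨(Cfsg.fittingSubgroup K).map K.subtype, Subgroup.map_subtype_le _, ?_, ?_, ?_⟩
  · have := Cfsg.Agent.Lib.Helper71.Fitting.fitting_isNilpotent K
    exact Group.nilpotent_of_mulEquiv
      ((Cfsg.fittingSubgroup K).equivMapOfInjective K.subtype K.subtype_injective)
  · rintro g hg _ ⟨y, hy, rfl⟩
    have hg1 : ∀ k : G, k ∈ K → g * k * g⁻¹ ∈ K := fun k hk =>
      (Subgroup.mem_normalizer_iff.mp hg k).mp hk
    have hg2 : ∀ k : G, k ∈ K → g⁻¹ * k * g ∈ K := fun k hk => by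
      have := (Subgroup.mem_normalizer_iff.mp hg (g⁻¹ * k * g)).mpr
        (by have e : g * (g⁻¹ * k * g) * g⁻¹ = k := by group
            rw [e]; exact hk)
      exact this
    let φ : K ≃* K :=
      { toFun := fun k => ⟨g * k * g⁻¹, hg1 k k.2⟩
        invFun := fun k => ⟨g⁻¹ * k * g, hg2 k k.2⟩
        left_inv := fun k => Subtype.ext (by simp [mul_assoc])
        right_inv := fun k => Subtype.ext (by simp [mul_assoc])
        map_mul' := fun k l => Subtype.ext (by simp [mul_assoc]) }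
    have hchar := Cfsg.Agent.Lib.Helper21.Layer.fitting_characteristic K
    have h1 : φ y ∈ Cfsg.fittingSubgroup K := by
      have := hchar.fixed φ
      rw [← this] at hy
      exact hy
    exact ⟨φ y, h1, rfl⟩
  · intro x hx hcomm
    have h1 : (⟨x, hx⟩ : K) ∈ Subgroup.centralizer (Cfsg.fittingSubgroup K : Set K) := by
      rw [Subgroup.mem_centralizer_iff]
      intro f hf
      apply Subtype.ext
      exact (hcomm f ⟨f, hf, rfl⟩).symm
    exact ⟨⟨x, hx⟩, Cfsg.Agent.S0552.centralizer_fitting_le h1, rfl⟩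

theorem conj_pow_mem (X : Set G) (w : G) (h : ∀ x ∈ X, w * x * w⁻¹ ∈ X) (k : ℕ) :
    ∀ x ∈ X, w ^ k * x * (w ^ k)⁻¹ ∈ X := by
  induction k with
  | zero => intro x hx; simpa using hx
  | succ k ih =>
    intro x hx
    have h1 := ih _ (h x hx)
    have e : w ^ (k + 1) * x * (w ^ (k + 1))⁻¹ = w ^ k * (w * x * w⁻¹) * (w ^ k)⁻¹ := by
      rw [pow_succ]; group
    rw [e]; exact h1

/-- A `p`-group acting by conjugation on a set of size prime to `p` has a fixed point. -/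
theorem exists_fixed_conj [Finite G] (p : ℕ) [Fact p.Prime] (P : Subgroup G)
    (hP : IsPGroup p P) (X : Set G) (hX : ∀ g ∈ P, ∀ x ∈ X, g * x * g⁻¹ ∈ X)
    (hcard : ¬ p ∣ Nat.card X) : ∃ x ∈ X, ∀ g ∈ P, g * x * g⁻¹ = x := by
  let _ : MulAction P X :=
    { smul := fun g x => ⟨(g : G) * x * (g : G)⁻¹, hX g g.2 x x.2⟩
      one_smul := fun x => Subtype.ext (by
        show ((1 : P) : G) * x * ((1 : P) : G)⁻¹ = x
        simp)
      mul_smul := fun g h x => Subtype.ext (by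
        show ((g * h : P) : G) * x * ((g * h : P) : G)⁻¹ = (g : G) * ((h : G) * x * (h : G)⁻¹) * (g : G)⁻¹
        simp [mul_assoc]) }
  obtain ⟨x, hx⟩ := hP.nonempty_fixed_point_of_prime_not_dvd_card X hcard
  refine ⟨x, x.2, fun g hg => ?_⟩
  have := hx ⟨g, hg⟩
  exact congrArg Subtype.val this

theorem orderOf_dvd_card_of_mem [Finite G] (H : Subgroup G) {x : G} (hx : x ∈ H) :
    orderOf x ∣ Nat.card H := by
  have := orderOf_dvd_natCard (⟨x, hx⟩ : H)
  rwa [Subgroup.orderOf_mk] at this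

/-- Coprime fixed points: if `z` is a `p`-element normalizing `Z₀`, `Q` is a `q`-group normalizing
`Z₀` with `[z, Q] ≤ Z₀`, and `|Z₀|` is prime to `p` and `q`, then a `Z₀`-conjugate of `Q`
centralizes `z`. -/
theorem exists_conj_centralizing [Finite G] (p q : ℕ) [hp : Fact p.Prime] [hq : Fact q.Prime]
    (z : G) (n : ℕ) (hz : z ^ p ^ n = 1) (Z₀ Q : Subgroup G)
    (hzZ : z ∈ Subgroup.normalizer (Z₀ : Set G))
    (hQZ : Q ≤ Subgroup.normalizer (Z₀ : Set G))
    (hcomm : ∀ b ∈ Q, z⁻¹ * (b * z * b⁻¹) ∈ Z₀)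
    (hpZ : ¬ p ∣ Nat.card Z₀) (hqZ : ¬ q ∣ Nat.card Z₀) (hQ : IsPGroup q Q) :
    ∃ c ∈ Z₀, ∀ b ∈ Q, (c * b * c⁻¹) * z = z * (c * b * c⁻¹) := by
  classical
  set X : Set G := {x | ∃ c ∈ Z₀, x = c * z * c⁻¹} with hXdef
  have hXcard : Nat.card X ∣ Nat.card Z₀ := by
    set S : Subgroup (ConjAct G) := Z₀.map (ConjAct.toConjAct : G ≃* ConjAct G).toMonoidHom
    have h1 : X = MulAction.orbit S z := by
      ext x
      constructor
      · rintro ⟨c, hc, rfl⟩
        refine ⟨⟨ConjAct.toConjAct c, ⟨c, hc, rfl⟩⟩, ?_⟩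
        show ConjAct.toConjAct c • z = c * z * c⁻¹
        exact ConjAct.toConjAct_smul c z
      · rintro ⟨⟨_, ⟨c, hc, rfl⟩⟩, rfl⟩
        refine ⟨c, hc, ?_⟩
        show ConjAct.toConjAct c • z = c * z * c⁻¹
        exact ConjAct.toConjAct_smul c z
    rw [h1, Nat.card_coe_set_eq, ← MulAction.index_stabilizer]
    exact (Subgroup.index_dvd_card _).trans (Subgroup.card_map_dvd _ _)
  have hXp : ¬ p ∣ Nat.card X := fun h => hpZ (h.trans hXcard)
  have hXq : ¬ q ∣ Nat.card X := fun h => hqZ (h.trans hXcard)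
  have hnz : ∀ c ∈ Z₀, z * c * z⁻¹ ∈ Z₀ := fun c hc =>
    (Subgroup.mem_normalizer_iff.mp hzZ c).mp hc
  have hnz' : ∀ c ∈ Z₀, z⁻¹ * c * z ∈ Z₀ := fun c hc => by
    have := (Subgroup.mem_normalizer_iff.mp (Subgroup.inv_mem _ hzZ) c).mp hc
    simpa using this
  have hCJ : ∀ e ∈ Z₀, (z * e) ^ p ^ n = 1 → z * e ∈ X := by
    intro e he hpow
    have hP2 : IsPGroup p (Subgroup.zpowers (z * e)) := by
      obtain ⟨j, -, hj⟩ := (Nat.dvd_prime_pow hp.out).mp (orderOf_dvd_of_pow_eq_one hpow)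
      apply IsPGroup.of_card (n := j)
      rw [Nat.card_zpowers, hj]
    have hstab1 : ∀ x ∈ X, (z * e) * x * (z * e)⁻¹ ∈ X := by
      rintro _ ⟨c, hc, rfl⟩
      refine ⟨z * (e * c) * z⁻¹, hnz _ (Z₀.mul_mem he hc), ?_⟩
      group
    have hstab : ∀ g ∈ Subgroup.zpowers (z * e), ∀ x ∈ X, g * x * g⁻¹ ∈ X := by
      intro g hg x hx
      obtain ⟨k, rfl⟩ : ∃ k : ℕ, (z * e) ^ k = g := mem_powers_iff_mem_zpowers.mpr hg
      exact conj_pow_mem X (z * e) hstab1 k x hx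
    obtain ⟨y, hyX, hy⟩ := exists_fixed_conj p _ hP2 X hstab hXp
    have hy1 := hy (z * e) (Subgroup.mem_zpowers _)
    have hcommy : (z * e) * y = y * (z * e) := by
      calc (z * e) * y = ((z * e) * y * (z * e)⁻¹) * (z * e) := by group
        _ = y * (z * e) := by rw [hy1]
    obtain ⟨c, hc, rfl⟩ := hyX
    set d := (c * z * c⁻¹)⁻¹ * (z * e) with hd
    have hdZ : d ∈ Z₀ := by
      have e1 : d = c * (z⁻¹ * c⁻¹ * z) * e := by rw [hd]; group
      rw [e1]
      exact Z₀.mul_mem (Z₀.mul_mem hc (hnz' _ (Z₀.inv_mem hc))) he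
    have hcm : Commute (c * z * c⁻¹)⁻¹ (z * e) := (Commute.inv_left (show Commute (c * z * c⁻¹) (z * e) from hcommy.symm))
    have hdpow : d ^ p ^ n = 1 := by
      rw [hd, hcm.mul_pow, hpow, mul_one, inv_pow, conj_pow, hz]
      simp
    have hd1 : d = 1 := by
      have h1 : orderOf d ∣ p ^ n := orderOf_dvd_of_pow_eq_one hdpow
      have h2 : orderOf d ∣ Nat.card Z₀ := orderOf_dvd_card_of_mem Z₀ hdZ
      have h3 : Nat.Coprime (p ^ n) (Nat.card Z₀) :=
        Nat.Coprime.pow_left n ((Nat.Prime.coprime_iff_not_dvd hp.out).mpr hpZ)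
      exact orderOf_eq_one_iff.mp (Nat.eq_one_of_dvd_coprimes h3 h1 h2)
    refine ⟨c, hc, ?_⟩
    have e2 : z * e = (c * z * c⁻¹) * d := by rw [hd]; group
    rw [e2, hd1, mul_one]
  have hQstab : ∀ b ∈ Q, ∀ x ∈ X, b * x * b⁻¹ ∈ X := by
    rintro b hb _ ⟨c, hc, rfl⟩
    have he := hcomm b hb
    have e1 : z * (z⁻¹ * (b * z * b⁻¹)) = b * z * b⁻¹ := by group
    have hpow : (z * (z⁻¹ * (b * z * b⁻¹))) ^ p ^ n = 1 := by
      rw [e1, conj_pow, hz]; simp
    obtain ⟨c', hc', hc'e⟩ := hCJ _ he hpow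
    rw [e1] at hc'e
    have hbc : b * c * b⁻¹ ∈ Z₀ := (Subgroup.mem_normalizer_iff.mp (hQZ hb) c).mp hc
    refine ⟨b * c * b⁻¹ * c', Z₀.mul_mem hbc hc', ?_⟩
    have e2 : b * (c * z * c⁻¹) * b⁻¹ = (b * c * b⁻¹) * (b * z * b⁻¹) * (b * c * b⁻¹)⁻¹ := by
      group
    rw [e2, hc'e]; group
  obtain ⟨y, ⟨c, hc, rfl⟩, hy⟩ := exists_fixed_conj q Q hQ X hQstab hXq
  refine ⟨c⁻¹, Z₀.inv_mem hc, fun b hb => ?_⟩
  have h1 := hy b hb
  rw [inv_inv]
  have h2 : c⁻¹ * (b * (c * z * c⁻¹) * b⁻¹) * c = c⁻¹ * (c * z * c⁻¹) * c := by rw [h1]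
  have e3 : c⁻¹ * (b * (c * z * c⁻¹) * b⁻¹) * c = (c⁻¹ * b * c) * z * (c⁻¹ * b * c)⁻¹ := by
    group
  have e4 : c⁻¹ * (c * z * c⁻¹) * c = z := by group
  rw [e3, e4] at h2
  calc (c⁻¹ * b * c) * z = ((c⁻¹ * b * c) * z * (c⁻¹ * b * c)⁻¹) * (c⁻¹ * b * c) := by group
    _ = z * (c⁻¹ * b * c) := by rw [h2]

end Cfsg.Agent.Lib.Helper10.KW1
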