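import Mathlib
import Cfsg.Agent.Lib.Helper94.OMiPStmt
import Cfsg.Agent.Lib.Helper14.OrthIndex
import Cfsg.Agent.Lib.Helper44.NegPairs

/-!
# S5991 (r = p sub-call by helper94) / MPELTC  (helper10)

`d = 2 + 2 j` even, `β ≠ 0`: an element `x = 1 + N` of order `p` of `Omega^-_(2d)(q)`, `q` odd,
with `dim (x - 1) ^ 2 V ≤ 1`, `dim (x - 1) V ≥ d` and `Q (Fix x) ⊆ β F²`.

Coordinates `Fin (d - 1) ≃ Unit ⊕ (Fin j ⊕ Fin j)`.  Pick `z = (z1, z2)` in the anisotropic plane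
with `q₀ z = β` and put `z' = (a z1 + 2 b z2, -(2 z1 + a z2))` (`z' ⊥ z`, `q₀ z' = Δ β`,
`B₀(w, z') = Δ (w₁ z2 - w₂ z1)`, `Δ = 4 b - a²`).  `N` is the Eichler map
`v ↦ y₀ z' - (B₀(v, z') + q₀(z') y₀) e₀` on the pair `(e₀, f₀)` and the plane, plus a Siegel map
(skew pairing) on the other `2 j` hyperbolic pairs.
-/

set_option autoImplicit false

namespace Cfsg.Agent.Lib.Helper10.MPELTC

open Matrix

universe u

open Cfsg.Agent.Lib.Helper94.OMiPStmt

section nil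

variable {F : Type u} [Field F] {d j : ℕ}

/-- the paired indices -/
abbrev K (j : ℕ) : Type := Fin j ⊕ Fin j

/-- signs of the skew pairing -/
def eps (F : Type u) [Field F] {j : ℕ} : K j → F := Sum.elim (fun _ => 1) (fun _ => -1)

theorem eps_sq (k : K j) : eps F k * eps F k = 1 := by
  rcases k with k | k <;> simp [eps]

/-- the nilpotent map `N = x - 1` -/
def Nf (eq : Fin (d - 1) ≃ Unit ⊕ K j) (a b z1 z2 : F) (v : Mi d → F) : Mi d → F :=
  Sum.elim
    (Sum.elim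
      (fun i => Sum.elim
        (fun _ => -((4 * b - a ^ 2) * (v (Sum.inr 0) * z2 - v (Sum.inr 1) * z1))
            - (4 * b - a ^ 2) * (z1 ^ 2 + a * z1 * z2 + b * z2 ^ 2)
              * v (Sum.inl (Sum.inr (eq.symm (Sum.inl ())))))
        (fun k => eps F (Sum.swap k) * v (Sum.inl (Sum.inr (eq.symm (Sum.inr (Sum.swap k))))))
        (eq i))
      (fun _ => 0))
    ![v (Sum.inl (Sum.inr (eq.symm (Sum.inl ())))) * (a * z1 + 2 * b * z2),
      -(v (Sum.inl (Sum.inr (eq.symm (Sum.inl ())))) * (2 * z1 + a * z2))]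

theorem Nf_x0 (eq : Fin (d - 1) ≃ Unit ⊕ K j) (a b z1 z2 : F) (v : Mi d → F) :
    Nf eq a b z1 z2 v (Sum.inl (Sum.inl (eq.symm (Sum.inl ()))))
      = -((4 * b - a ^ 2) * (v (Sum.inr 0) * z2 - v (Sum.inr 1) * z1))
            - (4 * b - a ^ 2) * (z1 ^ 2 + a * z1 * z2 + b * z2 ^ 2)
              * v (Sum.inl (Sum.inr (eq.symm (Sum.inl ())))) := by
  simp only [Nf, Sum.elim_inl, Equiv.apply_symm_apply]

theorem Nf_xk (eq : Fin (d - 1) ≃ Unit ⊕ K j) (a b z1 z2 : F) (v : Mi d → F) (k : K j) :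
    Nf eq a b z1 z2 v (Sum.inl (Sum.inl (eq.symm (Sum.inr k))))
      = eps F (Sum.swap k) * v (Sum.inl (Sum.inr (eq.symm (Sum.inr (Sum.swap k))))) := by
  simp only [Nf, Sum.elim_inl, Sum.elim_inr, Equiv.apply_symm_apply]

theorem Nf_y (eq : Fin (d - 1) ≃ Unit ⊕ K j) (a b z1 z2 : F) (v : Mi d → F) (i : Fin (d - 1)) :
    Nf eq a b z1 z2 v (Sum.inl (Sum.inr i)) = 0 := rfl

theorem Nf_z1 (eq : Fin (d - 1) ≃ Unit ⊕ K j) (a b z1 z2 : F) (v : Mi d → F) :
    Nf eq a b z1 z2 v (Sum.inr 0)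
      = v (Sum.inl (Sum.inr (eq.symm (Sum.inl ())))) * (a * z1 + 2 * b * z2) := rfl

theorem Nf_z2 (eq : Fin (d - 1) ≃ Unit ⊕ K j) (a b z1 z2 : F) (v : Mi d → F) :
    Nf eq a b z1 z2 v (Sum.inr 1)
      = -(v (Sum.inl (Sum.inr (eq.symm (Sum.inl ())))) * (2 * z1 + a * z2)) := rfl

omit [Field F] in
/-- extensionality in the five blocks of coordinates -/
theorem ext5 (eq : Fin (d - 1) ≃ Unit ⊕ K j) (u v : Mi d → F)
    (h1 : u (Sum.inl (Sum.inl (eq.symm (Sum.inl ())))) = v (Sum.inl (Sum.inl (eq.symm (Sum.inl ())))))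
    (h2 : ∀ k, u (Sum.inl (Sum.inl (eq.symm (Sum.inr k)))) = v (Sum.inl (Sum.inl (eq.symm (Sum.inr k)))))
    (h3 : ∀ i, u (Sum.inl (Sum.inr i)) = v (Sum.inl (Sum.inr i)))
    (h4 : u (Sum.inr 0) = v (Sum.inr 0)) (h5 : u (Sum.inr 1) = v (Sum.inr 1)) : u = v := by
  funext c
  rcases c with (i | i) | t
  · obtain ⟨c', rfl⟩ := eq.symm.surjective i
    rcases c' with ⟨⟩ | k
    · exact h1
    · exact h2 k
  · exact h3 i
  · fin_cases t
    · exact h4
    · exact h5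

/-- the nilpotent map, as a linear map -/
def Nl (eq : Fin (d - 1) ≃ Unit ⊕ K j) (a b z1 z2 : F) : (Mi d → F) →ₗ[F] (Mi d → F) where
  toFun := Nf eq a b z1 z2
  map_add' u v := by
    apply ext5 eq
    · simp only [Pi.add_apply, Nf_x0]; ring
    · intro k; simp only [Pi.add_apply, Nf_xk]; ring
    · intro i; simp only [Pi.add_apply, Nf_y, add_zero]
    · simp only [Pi.add_apply, Nf_z1]; ring
    · simp only [Pi.add_apply, Nf_z2]; ring
  map_smul' c v := by
    apply ext5 eq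
    · simp only [Pi.smul_apply, smul_eq_mul, RingHom.id_apply, Nf_x0]; ring
    · intro k; simp only [Pi.smul_apply, smul_eq_mul, RingHom.id_apply, Nf_xk]; ring
    · intro i; simp only [Pi.smul_apply, smul_eq_mul, RingHom.id_apply, Nf_y, mul_zero]
    · simp only [Pi.smul_apply, smul_eq_mul, RingHom.id_apply, Nf_z1]; ring
    · simp only [Pi.smul_apply, smul_eq_mul, RingHom.id_apply, Nf_z2]; ring

theorem Nl_apply (eq : Fin (d - 1) ≃ Unit ⊕ K j) (a b z1 z2 : F) (v : Mi d → F) :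
    Nl eq a b z1 z2 v = Nf eq a b z1 z2 v := rfl

theorem Q_split (eq : Fin (d - 1) ≃ Unit ⊕ K j) (a b : F) (v : Mi d → F) :
    Cfsg.quadFormMinus (d - 1) F a b v
      = v (Sum.inl (Sum.inl (eq.symm (Sum.inl ())))) * v (Sum.inl (Sum.inr (eq.symm (Sum.inl ()))))
        + ∑ k : K j, v (Sum.inl (Sum.inl (eq.symm (Sum.inr k))))
            * v (Sum.inl (Sum.inr (eq.symm (Sum.inr k))))
        + (v (Sum.inr 0) ^ 2 + a * v (Sum.inr 0) * v (Sum.inr 1) + b * v (Sum.inr 1) ^ 2) := by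
  unfold Cfsg.quadFormMinus
  rw [← Equiv.sum_comp eq.symm (fun i => v (Sum.inl (Sum.inl i)) * v (Sum.inl (Sum.inr i))),
    Fintype.sum_sum_type]
  simp only [Finset.univ_unique, Finset.sum_singleton]

/-- `1 + N` is an isometry -/
theorem Nf_iso (eq : Fin (d - 1) ≃ Unit ⊕ K j) (a b z1 z2 : F) (v : Mi d → F) :
    Cfsg.quadFormMinus (d - 1) F a b (v + Nf eq a b z1 z2 v)
      = Cfsg.quadFormMinus (d - 1) F a b v := by
  rw [Q_split eq, Q_split eq]
  simp only [Pi.add_apply, Nf_x0, Nf_xk, Nf_y, Nf_z1, Nf_z2, add_zero]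
  have hS : ∑ k : K j, eps F (Sum.swap k) * v (Sum.inl (Sum.inr (eq.symm (Sum.inr (Sum.swap k)))))
      * v (Sum.inl (Sum.inr (eq.symm (Sum.inr k)))) = 0 := by
    rw [Fintype.sum_sum_type]
    simp only [eps, Sum.swap_inl, Sum.swap_inr, Sum.elim_inl, Sum.elim_inr]
    rw [← Finset.sum_add_distrib]
    apply Finset.sum_eq_zero
    intro t _
    ring
  have hK : ∑ k : K j, (v (Sum.inl (Sum.inl (eq.symm (Sum.inr k))))
        + eps F (Sum.swap k) * v (Sum.inl (Sum.inr (eq.symm (Sum.inr (Sum.swap k))))))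
        * v (Sum.inl (Sum.inr (eq.symm (Sum.inr k))))
      = ∑ k : K j, v (Sum.inl (Sum.inl (eq.symm (Sum.inr k))))
          * v (Sum.inl (Sum.inr (eq.symm (Sum.inr k)))) := by
    have : ∀ k : K j, (v (Sum.inl (Sum.inl (eq.symm (Sum.inr k))))
        + eps F (Sum.swap k) * v (Sum.inl (Sum.inr (eq.symm (Sum.inr (Sum.swap k))))))
        * v (Sum.inl (Sum.inr (eq.symm (Sum.inr k))))
        = v (Sum.inl (Sum.inl (eq.symm (Sum.inr k)))) * v (Sum.inl (Sum.inr (eq.symm (Sum.inr k))))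
          + eps F (Sum.swap k) * v (Sum.inl (Sum.inr (eq.symm (Sum.inr (Sum.swap k)))))
            * v (Sum.inl (Sum.inr (eq.symm (Sum.inr k)))) := fun k => by ring
    rw [Finset.sum_congr rfl (fun k _ => this k), Finset.sum_add_distrib, hS, add_zero]
  rw [hK]
  ring

/-- the vector spanning `range (N ^ 2)` -/
def E0 (eq : Fin (d - 1) ≃ Unit ⊕ K j) : Mi d → F :=
  Sum.elim (Sum.elim (fun i => Sum.elim (fun _ => 1) (fun _ => 0) (eq i)) (fun _ => 0))
    (fun _ => 0)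

/-- `N ^ 2` has rank at most one -/
theorem Nf2 (eq : Fin (d - 1) ≃ Unit ⊕ K j) (a b z1 z2 : F) (v : Mi d → F) :
    Nf eq a b z1 z2 (Nf eq a b z1 z2 v)
      = (-(2 * ((4 * b - a ^ 2) * (z1 ^ 2 + a * z1 * z2 + b * z2 ^ 2)))
          * v (Sum.inl (Sum.inr (eq.symm (Sum.inl ()))))) • E0 eq := by
  apply ext5 eq
  · simp only [Nf_x0, Nf_y, Nf_z1, Nf_z2, Pi.smul_apply, smul_eq_mul, E0, Sum.elim_inl,
      Equiv.apply_symm_apply]
    ring
  · intro k
    simp only [Nf_xk, Nf_y, Pi.smul_apply, smul_eq_mul, E0, Sum.elim_inl, Sum.elim_inr,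
      Equiv.apply_symm_apply, mul_zero]
  · intro i
    simp only [Nf_y, Pi.smul_apply, smul_eq_mul, E0, Sum.elim_inl, Sum.elim_inr, mul_zero]
  · simp only [Nf_z1, Nf_y, Pi.smul_apply, smul_eq_mul, E0, Sum.elim_inr, zero_mul, mul_zero]
  · simp only [Nf_z2, Nf_y, Pi.smul_apply, smul_eq_mul, E0, Sum.elim_inr, zero_mul, mul_zero,
      neg_zero]

/-- `N ^ 3 = 0` -/
theorem Nf3 (eq : Fin (d - 1) ≃ Unit ⊕ K j) (a b z1 z2 : F) (v : Mi d → F) :
    Nf eq a b z1 z2 (Nf eq a b z1 z2 (Nf eq a b z1 z2 v)) = 0 := by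
  rw [Nf2, Nf_y, mul_zero, zero_smul]

/-- the kernel of `N` -/
theorem ker_facts (eq : Fin (d - 1) ≃ Unit ⊕ K j) (h2 : (2 : F) ≠ 0) (a b z1 z2 : F)
    (hD : 4 * b - a ^ 2 ≠ 0) (hβ : z1 ^ 2 + a * z1 * z2 + b * z2 ^ 2 ≠ 0)
    (v : Mi d → F) (hv : Nf eq a b z1 z2 v = 0) :
    (∀ i : Fin (d - 1), v (Sum.inl (Sum.inr i)) = 0) ∧
      v (Sum.inr 0) * z2 - v (Sum.inr 1) * z1 = 0 := by
  have hy0 : v (Sum.inl (Sum.inr (eq.symm (Sum.inl ())))) = 0 := by
    by_contra hne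
    have e1 : v (Sum.inl (Sum.inr (eq.symm (Sum.inl ())))) * (a * z1 + 2 * b * z2) = 0 := by
      rw [← Nf_z1 eq a b z1 z2 v, hv]; rfl
    have e2 : -(v (Sum.inl (Sum.inr (eq.symm (Sum.inl ())))) * (2 * z1 + a * z2)) = 0 := by
      rw [← Nf_z2 eq a b z1 z2 v, hv]; rfl
    have s0 : a * z1 + 2 * b * z2 = 0 := (mul_eq_zero.mp e1).resolve_left hne
    have r0 : 2 * z1 + a * z2 = 0 := (mul_eq_zero.mp (neg_eq_zero.mp e2)).resolve_left hne
    apply hβ
    have h3 : 2 * (z1 ^ 2 + a * z1 * z2 + b * z2 ^ 2) = 0 := by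
      linear_combination z2 * s0 + z1 * r0
    exact (mul_eq_zero.mp h3).resolve_left h2
  have hyk : ∀ k : K j, v (Sum.inl (Sum.inr (eq.symm (Sum.inr k)))) = 0 := by
    intro k
    have h : eps F (Sum.swap (Sum.swap k))
        * v (Sum.inl (Sum.inr (eq.symm (Sum.inr (Sum.swap (Sum.swap k)))))) = 0 := by
      rw [← Nf_xk eq a b z1 z2 v, hv]; rfl
    rw [Sum.swap_swap] at h
    have hne : eps F k ≠ 0 := by
      intro h0
      have := eps_sq (F := F) k
      rw [h0, mul_zero] at this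
      exact zero_ne_one this
    exact (mul_eq_zero.mp h).resolve_left hne
  refine ⟨?_, ?_⟩
  · intro i
    obtain ⟨c', rfl⟩ := eq.symm.surjective i
    rcases c' with ⟨⟩ | k
    · exact hy0
    · exact hyk k
  · have h : -((4 * b - a ^ 2) * (v (Sum.inr 0) * z2 - v (Sum.inr 1) * z1))
            - (4 * b - a ^ 2) * (z1 ^ 2 + a * z1 * z2 + b * z2 ^ 2)
              * v (Sum.inl (Sum.inr (eq.symm (Sum.inl ())))) = 0 := by
      rw [← Nf_x0 eq a b z1 z2 v, hv]; rfl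
    rw [hy0, mul_zero, sub_zero] at h
    exact (mul_eq_zero.mp (neg_eq_zero.mp h)).resolve_left hD

/-- the values of the form on the kernel of `N` -/
theorem fix_val (eq : Fin (d - 1) ≃ Unit ⊕ K j) (h2 : (2 : F) ≠ 0) (a b z1 z2 : F)
    (hD : 4 * b - a ^ 2 ≠ 0) (hβ : z1 ^ 2 + a * z1 * z2 + b * z2 ^ 2 ≠ 0)
    (v : Mi d → F) (hv : Nf eq a b z1 z2 v = 0) :
    ∃ c : F, Cfsg.quadFormMinus (d - 1) F a b v
      = c * c * (z1 ^ 2 + a * z1 * z2 + b * z2 ^ 2) := by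
  obtain ⟨hy, hdet⟩ := ker_facts eq h2 a b z1 z2 hD hβ v hv
  have hQ : Cfsg.quadFormMinus (d - 1) F a b v
      = v (Sum.inr 0) ^ 2 + a * v (Sum.inr 0) * v (Sum.inr 1) + b * v (Sum.inr 1) ^ 2 := by
    unfold Cfsg.quadFormMinus
    have h0 : ∑ i : Fin (d - 1), v (Sum.inl (Sum.inl i)) * v (Sum.inl (Sum.inr i)) = 0 := by
      apply Finset.sum_eq_zero
      intro i _
      rw [hy i, mul_zero]
    rw [h0, zero_add]
  rw [hQ]
  by_cases hz1 : z1 = 0
  · have hz2 : z2 ≠ 0 := by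
      rintro rfl
      apply hβ
      rw [hz1]
      ring
    have hw1 : v (Sum.inr 0) = 0 := by
      rw [hz1, mul_zero, sub_zero] at hdet
      exact (mul_eq_zero.mp hdet).resolve_right hz2
    refine ⟨v (Sum.inr 1) / z2, ?_⟩
    rw [hw1, hz1]
    field_simp
    try ring
  · refine ⟨v (Sum.inr 0) / z1, ?_⟩
    have hw2 : v (Sum.inr 1) = v (Sum.inr 0) * z2 / z1 := by
      rw [eq_div_iff hz1]
      linear_combination -hdet
    rw [hw2]
    field_simp
    try ring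

/-- a linear map whose kernel contains the kernel of `N` -/
def Lm (d : ℕ) (z1 z2 : F) : (Mi d → F) →ₗ[F] ((Fin (d - 1) → F) × F) where
  toFun v := (fun i => v (Sum.inl (Sum.inr i)), v (Sum.inr 0) * z2 - v (Sum.inr 1) * z1)
  map_add' u v := by
    refine Prod.ext rfl ?_
    show (u + v) (Sum.inr 0) * z2 - (u + v) (Sum.inr 1) * z1
      = (u (Sum.inr 0) * z2 - u (Sum.inr 1) * z1) + (v (Sum.inr 0) * z2 - v (Sum.inr 1) * z1)
    simp only [Pi.add_apply]
    ring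
  map_smul' c v := by
    refine Prod.ext rfl ?_
    show (c • v) (Sum.inr 0) * z2 - (c • v) (Sum.inr 1) * z1
      = c * (v (Sum.inr 0) * z2 - v (Sum.inr 1) * z1)
    simp only [Pi.smul_apply, smul_eq_mul]
    ring

theorem Lm_surj (z1 z2 : F) (hz : z1 ≠ 0 ∨ z2 ≠ 0) :
    Function.Surjective (Lm (F := F) d z1 z2) := by
  rintro ⟨c, t⟩
  obtain ⟨u1, u2, hu⟩ : ∃ u1 u2 : F, u1 * z2 - u2 * z1 = 1 := by
    rcases hz with h | h
    · exact ⟨0, -z1⁻¹, by field_simp; ring⟩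
    · exact ⟨z2⁻¹, 0, by field_simp; ring⟩
  refine ⟨Sum.elim (Sum.elim (fun _ => 0) c) ![t * u1, t * u2], ?_⟩
  refine Prod.ext rfl ?_
  show (t * u1) * z2 - (t * u2) * z1 = t
  linear_combination t * hu

/-- `rank N ≥ d` -/
theorem rank_ge (eq : Fin (d - 1) ≃ Unit ⊕ K j) (h2 : (2 : F) ≠ 0) (a b z1 z2 : F)
    (hD : 4 * b - a ^ 2 ≠ 0) (hβ : z1 ^ 2 + a * z1 * z2 + b * z2 ^ 2 ≠ 0) (hd : 1 ≤ d) :
    d ≤ Module.finrank F ↥(LinearMap.range (Nl eq a b z1 z2)) := by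
  have hz : z1 ≠ 0 ∨ z2 ≠ 0 := by
    by_contra h
    rw [not_or, not_not, not_not] at h
    apply hβ
    rw [h.1, h.2]
    ring
  have hle : LinearMap.ker (Nl eq a b z1 z2) ≤ LinearMap.ker (Lm (F := F) d z1 z2) := by
    intro v hv
    rw [LinearMap.mem_ker] at hv ⊢
    rw [Nl_apply] at hv
    obtain ⟨hy, hdet⟩ := ker_facts eq h2 a b z1 z2 hD hβ v hv
    exact Prod.ext (funext hy) hdet
  have h1 := LinearMap.finrank_range_add_finrank_ker (Lm (F := F) d z1 z2)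
  have h3 := LinearMap.finrank_range_add_finrank_ker (Nl eq a b z1 z2)
  have hr : Module.finrank F ↥(LinearMap.range (Lm (F := F) d z1 z2)) = (d - 1) + 1 := by
    rw [LinearMap.range_eq_top.mpr (Lm_surj z1 z2 hz), finrank_top, Module.finrank_prod,
      Module.finrank_fin_fun, Module.finrank_self]
  have hV : Module.finrank F (Mi d → F) = 2 * d := by
    rw [Module.finrank_fintype_fun_eq_card]
    simp only [Fintype.card_sum, Fintype.card_fin]
    omega
  have hk := Submodule.finrank_mono hle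
  omega

theorem mem_FxM (x : Matrix (Mi d) (Mi d) F) (v : Mi d → F) :
    v ∈ FxM x ↔ x *ᵥ v = v := by
  unfold FxM
  rw [LinearMap.mem_ker, LinearMap.sub_apply, Matrix.toLin'_apply, LinearMap.id_apply, sub_eq_zero]

end nil

theorem main : MPEltC.{u} := by
  intro F _ _ p hpF _ hodd d hd hdeven a b hab β hβ
  classical
  have hp : p.Prime := hpF.out
  have h2 : (2 : F) ≠ 0 := by
    intro h
    have hch : ringChar F = 2 :=
      CharP.ringChar_of_prime_eq_zero Nat.prime_two (by exact_mod_cast h)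
    have := FiniteField.even_card_of_char_two hch
    rcases hodd with ⟨m, hm⟩
    omega
  have h4 : (4 : F) ≠ 0 := by
    have h : (4 : F) = 2 * 2 := by norm_num
    rw [h]
    exact mul_ne_zero h2 h2
  have hp2 : p ≠ 2 := by
    intro h
    apply h2
    have := CharP.cast_eq_zero F p
    rw [h] at this
    exact_mod_cast this
  have hp3 : 3 ≤ p := by
    have := hp.two_le
    omega
  have hpodd : p % 2 = 1 := hp.eq_two_or_odd.resolve_left hp2
  -- the discriminant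
  have hD : 4 * b - a ^ 2 ≠ 0 := by
    intro h0
    have h1 := hab (-a / 2) 1 (by
      field_simp
      linear_combination h0)
    exact one_ne_zero h1.2
  -- a vector of the plane with value `β`
  obtain ⟨z1, z2, hz⟩ : ∃ z1 z2 : F, z1 ^ 2 + a * z1 * z2 + b * z2 ^ 2 = β := by
    obtain ⟨T, u, htu⟩ := FiniteField.exists_root_sum_quadratic (R := F)
      (f := Polynomial.X ^ 2 - Polynomial.C (4 * β))
      (g := Polynomial.C (4 * b - a ^ 2) * Polynomial.X ^ 2)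
      (Polynomial.degree_X_pow_sub_C (by norm_num) (4 * β))
      (Polynomial.degree_C_mul_X_pow 2 hD) (Nat.odd_iff.mp hodd)
    simp only [Polynomial.eval_sub, Polynomial.eval_pow, Polynomial.eval_X, Polynomial.eval_C,
      Polynomial.eval_mul] at htu
    refine ⟨(T - a * u) / 2, u, ?_⟩
    have e : 2 * ((T - a * u) / 2) = T - a * u := mul_div_cancel₀ _ h2
    have h5 : 4 * (((T - a * u) / 2) ^ 2 + a * ((T - a * u) / 2) * u + b * u ^ 2) = 4 * β := by
      linear_combination (2 * ((T - a * u) / 2) + a * u + T) * e + htu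
    exact mul_left_cancel₀ h4 h5
  have hβ' : z1 ^ 2 + a * z1 * z2 + b * z2 ^ 2 ≠ 0 := by rw [hz]; exact hβ
  obtain ⟨j, hj⟩ : ∃ j, d - 1 = 1 + (j + j) := ⟨(d - 2) / 2, by
    obtain ⟨t, ht⟩ := hdeven
    omega⟩
  have hcard : Fintype.card (Fin (d - 1)) = Fintype.card (Unit ⊕ K j) := by
    simp only [Fintype.card_fin, Fintype.card_sum, Fintype.card_unit]
    exact hj
  have eq : Fin (d - 1) ≃ Unit ⊕ K j := Fintype.equivOfCardEq hcard
  obtain ⟨N, hN⟩ : ∃ N : (Mi d → F) →ₗ[F] (Mi d → F), N = Nl eq a b z1 z2 := ⟨_, rfl⟩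
  have hNapp : ∀ v, N v = Nf eq a b z1 z2 v := by
    intro v
    rw [hN]
    rfl
  obtain ⟨Nm, hNm⟩ : ∃ Nm : Matrix (Mi d) (Mi d) F, Nm = LinearMap.toMatrix' N := ⟨_, rfl⟩
  obtain ⟨X, hX⟩ : ∃ X : Matrix (Mi d) (Mi d) F, X = 1 + Nm := ⟨_, rfl⟩
  have hXlin : Matrix.toLin' X = LinearMap.id + N := by
    rw [hX, hNm, map_add, Matrix.toLin'_one, Matrix.toLin'_toMatrix']
  have hXv : ∀ v, X *ᵥ v = v + Nf eq a b z1 z2 v := by
    intro v
    rw [← Matrix.toLin'_apply, hXlin, LinearMap.add_apply, LinearMap.id_apply, hNapp]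
  have hN3 : Nm * Nm * Nm = 0 := by
    rw [hNm, ← LinearMap.toMatrix'_comp, ← LinearMap.toMatrix'_comp]
    have : (N ∘ₗ N) ∘ₗ N = 0 := by
      apply LinearMap.ext
      intro v
      rw [LinearMap.comp_apply, LinearMap.comp_apply, hNapp, hNapp, hNapp, Nf3]
      rfl
    rw [this, map_zero]
  have hNp : Nm ^ p = 0 := by
    rw [show p = 3 + (p - 3) by omega, pow_add, pow_three', hN3, zero_mul]
  have : Nonempty (Mi d) := ⟨Sum.inr 0⟩
  have hXp : X ^ p = 1 := by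
    rw [hX, add_pow_char_of_commute p (Commute.one_left Nm), one_pow, hNp, add_zero]
  obtain ⟨x, hx⟩ : ∃ x : Matrix.GeneralLinearGroup (Mi d) F,
      (x : Matrix (Mi d) (Mi d) F) = X := by
    refine ⟨⟨X, X ^ (p - 1), ?_, ?_⟩, rfl⟩
    · rw [← pow_succ', show p - 1 + 1 = p by omega, hXp]
    · rw [← pow_succ, show p - 1 + 1 = p by omega, hXp]
  have hxp : x ^ p = 1 := by
    apply Units.ext
    rw [Units.val_pow_eq_pow_val, hx, hXp]
    rfl
  have hiso : x ∈ Cfsg.isometryGroup F (Cfsg.quadFormMinus (d - 1) F a b) := by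
    intro u v
    show Cfsg.quadFormMinus (d - 1) F a b ((x : Matrix (Mi d) (Mi d) F) *ᵥ u)
      = Cfsg.quadFormMinus (d - 1) F a b u
    rw [hx, hXv, Nf_iso eq]
  have hNP : NM X = N := by
    unfold NM
    rw [hXlin, add_sub_cancel_left]
  have hrank : d ≤ Module.finrank F ↥(LinearMap.range N) := by
    rw [hN]
    exact rank_ge eq h2 a b z1 z2 hD hβ' (by omega)
  have hx1 : x ≠ 1 := by
    intro h
    have hX1 : X = 1 := by rw [← hx, h]; rfl
    have h0 : N = 0 := by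
      rw [← hNP, hX1]
      unfold NM
      rw [Matrix.toLin'_one, sub_self]
    rw [h0, LinearMap.range_zero, finrank_bot] at hrank
    omega
  have hord : orderOf x = p := orderOf_eq_prime hxp hx1
  refine ⟨x, ?_, hord, ?_, ?_, ?_⟩
  · -- Omega
    have hS := Cfsg.Agent.Lib.Helper44.NegPairs.sep_minusQ (F := F) h2 (d - 1) a b hab
    have hcardI : 2 ≤ Fintype.card (Mi d) := by
      simp only [Fintype.card_sum, Fintype.card_fin]
      omega
    obtain ⟨g, hg⟩ : ∃ g : ↥(Cfsg.isometryGroup F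
        ⇑(Cfsg.Agent.Lib.Helper44.NegPairs.minusQ (d - 1) F a b)),
        (g : Matrix.GeneralLinearGroup (Mi d) F) = x := ⟨⟨x, hiso⟩, rfl⟩
    have hgp : g ^ p = 1 := by
      apply Subtype.ext
      rw [Subgroup.coe_pow, hg, hxp]
      rfl
    have hyy : g ^ ((p + 1) / 2) * g ^ ((p + 1) / 2) = g := by
      rw [← pow_add, show (p + 1) / 2 + (p + 1) / 2 = p + 1 by omega, pow_succ, hgp, one_mul]
    have hmem := Cfsg.Agent.Lib.Helper14.OrthIndex.sq_mem_omega h2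
      (Cfsg.Agent.Lib.Helper44.NegPairs.minusQ (d - 1) F a b) hS hcardI (g ^ ((p + 1) / 2))
    rw [hyy] at hmem
    exact ⟨g, hmem, hg⟩
  · -- rank of N ^ 2
    rw [hx, hNP]
    have hle : LinearMap.range (N ∘ₗ N)
        ≤ Submodule.span F (Set.range (![E0 eq] : Fin 1 → (Mi d → F))) := by
      rintro _ ⟨v, rfl⟩
      rw [LinearMap.comp_apply, hNapp, hNapp, Nf2]
      exact Submodule.smul_mem _ _ (Submodule.subset_span ⟨0, rfl⟩)
    have h1 := Submodule.finrank_mono hle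
    have h3 := finrank_range_le_card (R := F) (![E0 eq] : Fin 1 → (Mi d → F))
    rw [Fintype.card_fin] at h3
    exact le_trans h1 h3
  · -- rank of N
    rw [hx, hNP]
    exact hrank
  · -- fixed vectors
    intro w hw
    rw [hx, mem_FxM, hXv] at hw
    have hv0 : Nf eq a b z1 z2 w = 0 := by
      have := sub_eq_zero.mpr hw
      rw [add_sub_cancel_left] at this
      exact this
    obtain ⟨c, hc⟩ := fix_val eq h2 a b z1 z2 hD hβ' w hv0
    exact ⟨c, by rw [hc, hz]⟩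

end Cfsg.Agent.Lib.Helper10.MPELTC
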