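import Mathlib
import Cfsg.Prelude.Def_PLocal
import Cfsg.Agent.Lib.Helper10.AgemoA
import Cfsg.Agent.Lib.Helper10.AgemoFus1
import Cfsg.Agent.Lib.Helper10.AgemoFus2
import Cfsg.Agent.Lib.Helper11.ZJ

/-!
# Groups in which a Sylow `p`-subgroup lies in a unique maximal subgroup

The dichotomy for normal subgroups, and the consequence of the lemma on `℧¹` of the normal closure
of `Z(S)`: either `℧¹(Z(S))` is normal or `C_S(Z(J(S)))` is normal.
-/

set_option autoImplicit false

namespace Cfsg.Agent.Lib.Helper10.PMin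

open Cfsg
open Cfsg.Agent.Lib.Helper10.AgemoFus1 Cfsg.Agent.Lib.Helper10.AgemoFus2

variable {G : Type*} [Group G]

/-- If the Sylow subgroup `S` lies in a unique maximal subgroup, then for every normal subgroup
`N` either `G = S N` or `S ∩ N` is normal in `G`. -/
theorem pmin_dichotomy [Finite G] {p : ℕ} [Fact p.Prime] (S : Sylow p G)
    (hE₂ : ∃! M : Subgroup G, IsCoatom M ∧ (S : Subgroup G) ≤ M) (N : Subgroup G)
    [hN : N.Normal] :
    (S : Subgroup G) ⊔ N = ⊤ ∨ ((S : Subgroup G) ⊓ N).Normal := by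
  by_cases h : (S : Subgroup G) ⊔ N = ⊤
  · exact Or.inl h
  right
  obtain ⟨M, ⟨hMco, hSM⟩, hMuniq⟩ := hE₂
  have hfr := Cfsg.Agent.Lib.Helper11.ZJ.frattini_core S N N le_rfl
    (fun x hx => ⟨0, by simpa using hx⟩)
  have hSN : (S : Subgroup G) ≤
      Subgroup.normalizer ((((S : Subgroup G) ⊓ N : Subgroup G)) : Set G) := by
    intro t ht
    rw [Subgroup.mem_normalizer_iff]
    intro x
    constructor
    · rintro ⟨h1, h2⟩
      exact ⟨Subgroup.mul_mem _ (Subgroup.mul_mem _ ht h1) (Subgroup.inv_mem _ ht),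
        hN.conj_mem x h2 t⟩
    · rintro ⟨h1, h2⟩
      have e : x = t⁻¹ * (t * x * t⁻¹) * t := by group
      rw [e]
      refine ⟨Subgroup.mul_mem _ (Subgroup.mul_mem _ (Subgroup.inv_mem _ ht) h1) ht, ?_⟩
      have := hN.conj_mem _ h2 t⁻¹
      rwa [inv_inv] at this
  by_cases hnorm : Subgroup.normalizer ((((S : Subgroup G) ⊓ N : Subgroup G)) : Set G) = ⊤
  · exact Subgroup.normalizer_eq_top_iff.mp hnorm
  exfalso
  obtain ⟨M₁, hM₁co, hM₁⟩ := (eq_top_or_exists_le_coatom ((S : Subgroup G) ⊔ N)).resolve_left h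
  obtain ⟨M₂, hM₂co, hM₂⟩ := (eq_top_or_exists_le_coatom
    (Subgroup.normalizer ((((S : Subgroup G) ⊓ N : Subgroup G)) : Set G))).resolve_left hnorm
  have e1 : M₁ = M := hMuniq M₁ ⟨hM₁co, le_sup_left.trans hM₁⟩
  have e2 : M₂ = M := hMuniq M₂ ⟨hM₂co, hSN.trans hM₂⟩
  have hle : (⊤ : Subgroup G) ≤ M := by
    rw [← hfr]
    exact sup_le (hM₂.trans e2.le) ((le_sup_right.trans hM₁).trans e1.le)
  exact hMco.1 (top_le_iff.mp hle)

theorem normal_of_sup_centralizer {X S N : Subgroup G} (hsup : S ⊔ N = ⊤)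
    (hS : S ≤ Subgroup.centralizer (X : Set G)) (hN : N ≤ Subgroup.centralizer (X : Set G)) :
    X.Normal := by
  have htop : (⊤ : Subgroup G) ≤ Subgroup.centralizer (X : Set G) := by
    rw [← hsup]
    exact sup_le hS hN
  constructor
  intro x hx g
  have h1 : x * g = g * x := Subgroup.mem_centralizer_iff.mp (htop (Subgroup.mem_top g)) x hx
  have e : g * x * g⁻¹ = x := by
    rw [← h1]
    group
  rw [e]
  exact hx

/-- In a group of characteristic `p` whose Sylow `p`-subgroup `S` lies in a unique maximal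
subgroup, either `℧¹(Z(S))` is normal or `C_S(Z(J(S)))` is normal. -/
theorem agemo_or_baumann [Finite G] {p : ℕ} [Fact p.Prime] (S : Sylow p G)
    (hE₁ : Subgroup.centralizer (pCore p G : Set G) ≤ pCore p G)
    (hE₂ : ∃! M : Subgroup G, IsCoatom M ∧ (S : Subgroup G) ≤ M) :
    (powerClosure p 1
        ((S : Subgroup G) ⊓ Subgroup.centralizer ((S : Subgroup G) : Set G))).Normal ∨
      ((S : Subgroup G) ⊓
        Subgroup.centralizer (centerThompsonAOf (S : Subgroup G) : Set G)).Normal := by
  have hSZ : (S : Subgroup G) ≤ Subgroup.centralizer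
      ((((S : Subgroup G) ⊓ Subgroup.centralizer ((S : Subgroup G) : Set G) : Subgroup G)) :
        Set G) := by
    rw [Subgroup.le_centralizer_iff]
    exact inf_le_right
  have hZV : Subgroup.centralizer
      ((((S : Subgroup G) ⊓ Subgroup.centralizer ((S : Subgroup G) : Set G) : Subgroup G)) :
        Set G) ≤ Subgroup.centralizer ((powerClosure p 1
          ((S : Subgroup G) ⊓ Subgroup.centralizer ((S : Subgroup G) : Set G)) : Subgroup G) :
            Set G) :=
    Subgroup.centralizer_le (fun x hx => Cfsg.Agent.Lib.Helper10.AgemoA.powerClosure_le _ hx)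
  have hWn : (Subgroup.normalClosure ((((S : Subgroup G) ⊓
      Subgroup.centralizer ((S : Subgroup G) : Set G) : Subgroup G)) : Set G)).Normal :=
    inferInstance
  have hV1n : (powerClosure p 1 (Subgroup.normalClosure ((((S : Subgroup G) ⊓
      Subgroup.centralizer ((S : Subgroup G) : Set G) : Subgroup G)) : Set G))).Normal :=
    Cfsg.Agent.Lib.Helper10.AgemoA.powerClosure_normal _
  have hCn : (Subgroup.centralizer ((powerClosure p 1 (Subgroup.normalClosure
      ((((S : Subgroup G) ⊓ Subgroup.centralizer ((S : Subgroup G) : Set G) : Subgroup G)) :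
        Set G)) : Subgroup G) : Set G)).Normal := Subgroup.normal_centralizer
  rcases pmin_dichotomy S hE₂ (Subgroup.centralizer ((powerClosure p 1 (Subgroup.normalClosure
      ((((S : Subgroup G) ⊓ Subgroup.centralizer ((S : Subgroup G) : Set G) : Subgroup G)) :
        Set G)) : Subgroup G) : Set G)) with h1 | h1
  · left
    refine normal_of_sup_centralizer h1 (hSZ.trans hZV) ?_
    apply Subgroup.centralizer_le
    intro x hx
    exact Cfsg.Agent.Lib.Helper10.AgemoA.powerClosure_mono Subgroup.subset_normalClosure hx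
  have hle : (S : Subgroup G) ⊓ Subgroup.centralizer ((powerClosure p 1 (Subgroup.normalClosure
      ((((S : Subgroup G) ⊓ Subgroup.centralizer ((S : Subgroup G) : Set G) : Subgroup G)) :
        Set G)) : Subgroup G) : Set G) ≤ pCore p G :=
    Cfsg.Agent.H84.le_pCore p h1 (S.isPGroup'.to_le inf_le_left)
  have hJQ : thompsonSubgroupAOf (S : Subgroup G) ≤ pCore p G := by
    apply thompson_le_of_maxAb
    intro A hA
    exact Cfsg.Agent.Lib.Helper10.AgemoA.thmA S hE₁ _ rfl hle A hA.1 hA.2.1 hA.2.2
  have hJS : thompsonSubgroupAOf (S : Subgroup G) ≤ S := Subgroup.map_subtype_le _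
  have hQn : (pCore p G).Normal := Cfsg.Agent.H84.pCore_normal p
  have hQS : pCore p G ≤ S := pCore_le_sylow S
  have hJn : (thompsonSubgroupAOf (S : Subgroup G)).Normal := by
    constructor
    intro x hx g
    have hinj : Function.Injective (conjHom (pCore p G) g) := by
      intro a b hab
      have h2 : g * (a : G) * g⁻¹ = g * (b : G) * g⁻¹ := hab
      exact Subtype.ext (mul_left_cancel (mul_right_cancel h2))
    exact thompson_maps_into (T := (S : Subgroup G)) hJQ (conjHom (pCore p G) g) hinj
      (fun y _ => hQS (hQn.conj_mem _ y.2 g)) ⟨x, hJQ hx⟩ hx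
  have hcJn : (Subgroup.centralizer (thompsonSubgroupAOf (S : Subgroup G) : Set G)).Normal :=
    Subgroup.normal_centralizer
  have hZJn : (centerThompsonAOf (S : Subgroup G)).Normal := by
    unfold centerThompsonAOf
    infer_instance
  have hC'n : (Subgroup.centralizer (centerThompsonAOf (S : Subgroup G) : Set G)).Normal :=
    Subgroup.normal_centralizer
  rcases pmin_dichotomy S hE₂ (Subgroup.centralizer (centerThompsonAOf (S : Subgroup G) : Set G))
    with h2 | h2
  · left
    refine normal_of_sup_centralizer h2 (hSZ.trans hZV) (le_trans ?_ hZV)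
    apply Subgroup.centralizer_le
    intro z hz
    have hzJ : z ∈ thompsonSubgroupAOf (S : Subgroup G) :=
      mem_of_thompson_le (T := (S : Subgroup G)) le_rfl hz.1
        (fun q hq => ((Subgroup.mem_centralizer_iff.mp hz.2) q (hJS hq)).symm)
    exact ⟨hzJ, Subgroup.centralizer_le (fun x hx => hJS hx) hz.2⟩
  · exact Or.inr h2

end Cfsg.Agent.Lib.Helper10.PMin
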