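import Mathlib
import Cfsg.Agent.Lib.Helper6.Pg2

/-!
# Two small field lemmas for the maximal subgroups of `PGL(2, q)` (helper10, pieces A1/A2 of S5891)

* `exists_prime_degree`: a maximal proper subfield `κ` of `k` has `|k| = |κ| ^ r`, `r` prime;
* `Pk_le_Sk_of_card_sq`: if `|k| = |κ| ^ 2` then `Pk κ ≤ Sk k`.
-/

set_option autoImplicit false
set_option linter.unusedSimpArgs false
set_option linter.unusedVariables false
set_option linter.unusedSectionVars false
set_option linter.style.haveILetI false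
set_option linter.unnecessarySeqFocus false
set_option linter.unreachableTactic false
set_option linter.unusedTactic false

namespace Cfsg.Agent.Lib.Helper10.Pg3

open Matrix MatrixGroups
open Cfsg.Agent.Lib.Helper98.SL2Sub Cfsg.Agent.Lib.Helper98.SL2Core
open Cfsg.Agent.Lib.Helper98.DicksonB
open Cfsg.Agent.Lib.Helper98.SL2Field
open Cfsg.Agent.S5941 (Pk Sk_le_Pk Pk_ne_top d_mem_Pk)
open Cfsg.Agent.Lib.Helper6.Mx3

theorem exists_prime_degree {F : Type*} [Field F] [Finite F] (κ k : Subfield F) (hle : κ ≤ k)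
    (hne : κ ≠ k) (hmax : ∀ κ' : Subfield F, κ ≤ κ' → κ' ≤ k → κ' = κ ∨ κ' = k) :
    ∃ r : ℕ, r.Prime ∧ Nat.card k = Nat.card κ ^ r := by
  classical
  haveI : Fintype F := Fintype.ofFinite F
  obtain ⟨p, hchar⟩ := CharP.exists F
  haveI := hchar
  have hpp : p.Prime := CharP.char_is_prime F p
  haveI : Fact p.Prime := ⟨hpp⟩
  obtain ⟨Q, hQ⟩ : ∃ Q, Q = Nat.card κ := ⟨_, rfl⟩
  have hQ2 : 2 ≤ Q := hQ ▸ card_subfield_two_le κ
  -- `|k| = Q ^ d`
  let κ₀ : Subfield k := κ.comap k.subtype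
  have hκ₀ : Nat.card κ₀ = Q := by
    rw [hQ]
    exact Nat.card_congr ⟨fun x => ⟨x.1.1, x.2⟩, fun y => ⟨⟨y.1, hle y.2⟩, y.2⟩,
      fun x => rfl, fun y => rfl⟩
  obtain ⟨d, hd⟩ := exists_pow (F := k) κ₀
  rw [hκ₀] at hd
  -- `Q` is a power of `p`
  obtain ⟨N, -, hN⟩ := FiniteField.card F p
  obtain ⟨m, hm⟩ := exists_pow κ
  have hm0 : m ≠ 0 := by
    rintro rfl
    have := Finite.one_lt_card (α := F)
    rw [hm, pow_zero] at this
    omega
  have hdvd : Q ∣ p ^ (N : ℕ) := by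
    rw [← hN, ← Nat.card_eq_fintype_card, hm, ← hQ]; exact dvd_pow_self _ hm0
  obtain ⟨a, -, ha⟩ := (Nat.dvd_prime_pow hpp).1 hdvd
  have hk2 := card_subfield_two_le k
  have hd0 : d ≠ 0 := by
    rintro rfl
    rw [hd, pow_zero] at hk2
    omega
  have hd1 : d ≠ 1 := by
    rintro rfl
    rw [pow_one] at hd
    apply hne
    apply le_antisymm hle
    intro x hx
    apply mem_of_pow_card κ x
    rw [← hQ, ← hd]; exact pow_card_sub k x hx
  obtain ⟨r, hr, hrd⟩ := Nat.exists_prime_and_dvd hd1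
  obtain ⟨e, rfl⟩ := hrd
  let κ' : Subfield F := (iterateFrobenius F p (a * r)).eqLocusField (RingHom.id F)
  have hmem' : ∀ x : F, x ∈ κ' ↔ x ^ Q ^ r = x := by
    intro x
    show iterateFrobenius F p (a * r) x = RingHom.id F x ↔ _
    rw [iterateFrobenius_def, RingHom.id_apply, pow_mul, ← ha]
  have h1 : κ ≤ κ' := by
    intro x hx
    rw [hmem']
    exact pow_pow_fix x Q (by rw [hQ]; exact pow_card_sub κ x hx) r
  have h2 : κ' ≤ k := by
    intro x hx
    rw [hmem'] at hx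
    apply mem_of_pow_card k x
    rw [hd, pow_mul]
    exact pow_pow_fix x (Q ^ r) hx e
  have hQr1 : 1 ≤ Q ^ r := Nat.one_le_pow _ _ (by omega)
  refine ⟨r, hr, ?_⟩
  rcases hmax κ' h1 h2 with h | h
  · exfalso
    have hdv : Q ^ r - 1 ∣ Nat.card k - 1 := by
      rw [hd]
      exact Nat.pow_sub_one_dvd_pow_sub_one Q (dvd_mul_right r e)
    obtain ⟨c, hc0, hc⟩ := exists_elt (F := k) (Q ^ r - 1) hdv
    have hc0' : (c : F) ≠ 0 := fun h => hc0 (Subtype.ext h)
    have hcκ' : (c : F) ∈ κ' := by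
      rw [hmem']
      have h1 : c ^ (Q ^ r - 1) = 1 := (hc _).2 dvd_rfl
      have h1' : (c : F) ^ (Q ^ r - 1) = 1 := by
        have := congrArg Subtype.val h1
        simpa using this
      calc (c : F) ^ Q ^ r = (c : F) ^ (Q ^ r - 1) * c := by
            rw [← pow_succ, Nat.sub_add_cancel hQr1]
        _ = c := by rw [h1', one_mul]
    rw [h] at hcκ'
    have h3 : (c : F) ^ Q = c := by rw [hQ]; exact pow_card_sub κ _ hcκ'
    have h4 : c ^ (Q - 1) = 1 := by
      have h5 : (c : F) ^ (Q - 1) * c = 1 * c := by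
        rw [← pow_succ, one_mul, Nat.sub_add_cancel (by omega)]; exact h3
      have h6 := mul_right_cancel₀ hc0' h5
      apply Subtype.ext
      simpa using h6
    have h5 := (hc _).1 h4
    have h6 := Nat.le_of_dvd (by omega) h5
    have h7 : Q ^ 2 ≤ Q ^ r := Nat.pow_le_pow_right (by omega) hr.two_le
    have h8 : 2 * Q ≤ Q ^ 2 := by nlinarith
    omega
  · have hfix : ∀ x : k, x ^ Q ^ r = x := by
      intro x
      have hx : (x : F) ∈ κ' := by rw [h]; exact x.2
      rw [hmem'] at hx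
      apply Subtype.ext
      simpa using hx
    have hle' := card_le_of_fix (F := k) (Q ^ r) (Nat.one_lt_pow hr.ne_zero (by omega)) hfix
    rw [hd] at hle' ⊢
    have h8 := (Nat.pow_le_pow_iff_right (by omega)).1 hle'
    have he0 : e ≠ 0 := by rintro rfl; simp at hd0
    have he : e = 1 := by
      have hrpos := hr.pos
      have he1 : 1 ≤ e := Nat.one_le_iff_ne_zero.2 he0
      nlinarith
    rw [← hQ, he, mul_one]

theorem Pk_le_Sk_of_card_sq {F : Type*} [Field F] [Finite F] (h2 : (2 : F) ≠ 0)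
    (κ k : Subfield F) (hle : κ ≤ k) (h : Nat.card k = Nat.card κ ^ 2) : Pk κ ≤ Sk k := by
  classical
  haveI : Fintype κ := Fintype.ofFinite κ
  obtain ⟨Q, hQ⟩ : ∃ Q, Q = Nat.card κ := ⟨_, rfl⟩
  rw [← hQ] at h
  have hQ2 : 2 ≤ Q := hQ ▸ card_subfield_two_le κ
  -- `Q` is odd
  have hodd : Q % 2 = 1 := by
    rw [hQ, Nat.card_eq_fintype_card]
    apply FiniteField.odd_card_of_char_ne_two
    intro hch
    apply h2
    have h3 : ((ringChar κ : ℕ) : κ) = 0 := ringChar.Nat.cast_ringChar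
    rw [hch] at h3
    have h4 : (2 : κ) = 0 := by exact_mod_cast h3
    have h5 : ((2 : κ) : F) = 0 := by rw [h4]; rfl
    exact h5
  -- square roots of elements of `κ` lie in `k`
  have hsq : ∀ c : F, c ≠ 0 → c ^ 2 ∈ κ → c ∈ k := by
    intro c hc0 hc
    apply mem_of_pow_card k c
    rw [h]
    have h3 : (c ^ 2) ^ Q = c ^ 2 := by rw [hQ]; exact pow_card_sub κ _ hc
    have h4 : (c ^ 2) ^ (Q - 1) = 1 := by
      have h5 : (c ^ 2) ^ (Q - 1) * c ^ 2 = 1 * c ^ 2 := by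
        rw [← pow_succ, one_mul, Nat.sub_add_cancel (by omega)]; exact h3
      exact mul_right_cancel₀ (pow_ne_zero 2 hc0) h5
    obtain ⟨t, ht⟩ : ∃ t, Q + 1 = 2 * t := ⟨(Q + 1) / 2, by omega⟩
    have h6 : Q ^ 2 = 2 * ((Q - 1) * t) + 1 := by
      obtain ⟨Q', rfl⟩ : ∃ Q', Q = Q' + 1 := ⟨Q - 1, by omega⟩
      have : Q' + 1 - 1 = Q' := by omega
      rw [this]
      have e1 : 2 * (Q' * t) = Q' * (2 * t) := by ring
      rw [e1, ← ht]
      ring
    rw [h6, pow_succ, pow_mul, pow_mul, h4, one_pow, one_mul]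
  rintro g ⟨c, hc0, h00, h01, h10, h11⟩
  have hdet : g.1 0 0 * g.1 1 1 - g.1 0 1 * g.1 1 0 = 1 := by
    have := g.2
    rw [Matrix.det_fin_two] at this
    exact this
  have hc2 : c ^ 2 ∈ κ := by
    have e : c ^ 2 = (c * g.1 0 0) * (c * g.1 1 1) - (c * g.1 0 1) * (c * g.1 1 0) := by
      have : (c * g.1 0 0) * (c * g.1 1 1) - (c * g.1 0 1) * (c * g.1 1 0) =
        c ^ 2 * (g.1 0 0 * g.1 1 1 - g.1 0 1 * g.1 1 0) := by ring
      rw [this, hdet, mul_one]
    rw [e]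
    exact κ.sub_mem (κ.mul_mem h00 h11) (κ.mul_mem h01 h10)
  have hck : c ∈ k := hsq c hc0 hc2
  have aux : ∀ x : F, c * x ∈ κ → x ∈ k := by
    intro x hx
    have := k.mul_mem (k.inv_mem hck) (hle hx)
    rwa [inv_mul_cancel_left₀ hc0] at this
  exact ⟨aux _ h00, aux _ h01, aux _ h10, aux _ h11⟩

end Cfsg.Agent.Lib.Helper10.Pg3
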