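import Mathlib
import Cfsg.Agent.Lib.Helper22.S56Stmt

/-!
# S1356, piece CNILK1 (second seat)

`K ≠ 1`: `C_M(M_F)` is nilpotent, from `C_M(M_F) ≤ M'` (`CLe`) and the nilpotency of `M' / M_F`
(`NilQF`): the map `C_M(M_F) → M' M_F / M_F` has central kernel.
-/

set_option autoImplicit false

universe u

namespace Cfsg.Agent.Lib.Helper10.S56CNILK1

open Cfsg.Agent.Lib.Helper22.S56Stmt

theorem main (hC : CLe.{u}) (hN : NilQF.{u}) : CNilK1.{u} := by
  intro G _ _ hG M K U hM hKU hK
  have hle := hC hG M K U hM hKU hK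
  have hnil := hN hG M hM
  -- `C' ≤ commutator ↥M`
  have hCle : Subgroup.centralizer ((Cfsg.fittingHall ↥M : Subgroup ↥M) : Set ↥M) ≤
      commutator ↥M := by
    intro c hc
    have hcG : (c : G) ∈ M ⊓ Subgroup.centralizer ((Cfsg.fittingHallOf M : Subgroup G) : Set G) := by
      refine Subgroup.mem_inf.mpr ⟨c.2, ?_⟩
      rw [Subgroup.mem_centralizer_iff]
      intro y hy
      obtain ⟨y', hy', rfl⟩ := hy
      rw [Subgroup.mem_centralizer_iff] at hc
      have h := hc y' hy'
      have h' := congrArg (Subtype.val) h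
      simpa using h'
    have hcomm : (c : G) ∈ ⁅M, M⁆ := hle hcG
    have hmap : (commutator ↥M).map M.subtype = ⁅M, M⁆ := by
      rw [commutator_def, Subgroup.map_commutator, ← MonoidHom.range_eq_map, Subgroup.range_subtype]
    rw [← hmap] at hcomm
    obtain ⟨c', hc', hcc⟩ := hcomm
    have : c' = c := Subtype.ext hcc
    rw [← this]; exact hc'
  -- the map to the quotient
  let π := QuotientGroup.mk' (Cfsg.fittingHall ↥M)
  let f : ↥(Subgroup.centralizer ((Cfsg.fittingHall ↥M : Subgroup ↥M) : Set ↥M)) →*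
      ↥((commutator ↥M).map π) :=
    (π.comp (Subgroup.subtype _)).codRestrict ((commutator ↥M).map π)
      (fun c => ⟨(c : ↥M), hCle c.2, rfl⟩)
  have := hnil
  refine Subgroup.isNilpotent_of_ker_le_center f ?_
  intro c hc
  rw [MonoidHom.mem_ker] at hc
  have hc1 : π (c : ↥M) = 1 := by
    have h : ((f c : ↥((commutator ↥M).map π)) : ↥M ⧸ Cfsg.fittingHall ↥M) = 1 := by
      rw [hc]; rfl
    exact h
  have hcF : (c : ↥M) ∈ Cfsg.fittingHall ↥M := by
    rw [← QuotientGroup.eq_one_iff]
    exact hc1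
  rw [Subgroup.mem_center_iff]
  intro g
  have hg := g.2
  rw [Subgroup.mem_centralizer_iff] at hg
  have h := hg (c : ↥M) hcF
  apply Subtype.ext
  simp only [Subgroup.coe_mul]
  exact h.symm

end Cfsg.Agent.Lib.Helper10.S56CNILK1
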