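import Mathlib
import Cfsg.Agent.Lib.Helper12.SNStmt

/-!
# S4073, piece BFREE: an element of odd prime order acts fixed point freely on a 2-group
-/

set_option autoImplicit false

universe u

namespace Cfsg.Agent.Lib.Helper10.SNBFREE

open Cfsg.Agent.Lib.Helper12.SNDef Cfsg.Agent.Lib.Helper12.SNStmt

theorem main : BFree.{u} := by
  intro L _ _ hexp e hep heo Q hQ he
  classical
  have : Fact (orderOf e).Prime := ⟨hep⟩
  letI : Fintype ↥Q := Fintype.ofFinite _
  have hmem : ∀ (n : ℕ) (u : L), u ∈ Q → e ^ n * u * (e ^ n)⁻¹ ∈ Q := by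
    intro n u hu
    have hn : e ^ n ∈ Subgroup.normalizer (Q : Set L) :=
      (Subgroup.normalizer (Q : Set L)).pow_mem he n
    exact (Subgroup.mem_normalizer_iff.mp hn u).mp hu
  let f : Function.End ↥Q := fun u => ⟨e * u * e⁻¹, by simpa using hmem 1 u u.2⟩
  have hpow : ∀ (n : ℕ) (u : ↥Q), (((f ^ n) u : ↥Q) : L) = e ^ n * u * (e ^ n)⁻¹ := by
    intro n
    induction n with
    | zero => intro u; show ((u : ↥Q) : L) = e ^ 0 * u * (e ^ 0)⁻¹; simp
    | succ n ih =>
      intro u
      rw [pow_succ']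
      show e * (((f ^ n) u : ↥Q) : L) * e⁻¹ = _
      rw [ih, pow_succ']
      group
  have hf : f ^ (orderOf e) ^ 1 = 1 := by
    funext u
    apply Subtype.ext
    show (((f ^ (orderOf e) ^ 1) u : ↥Q) : L) = (u : L)
    rw [pow_one, hpow, pow_orderOf_eq_one]
    simp
  have hmod := Equiv.Perm.card_fixedPoints_modEq hf
  -- the only fixed point is `1`
  have hfix : ∀ u : ↥Q, f u = u → u = 1 := by
    intro u hu
    by_contra hu1
    have hu' : e * (u : L) * e⁻¹ = (u : L) := congrArg Subtype.val hu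
    have hcomm : Commute (u : L) e := by
      have : e * (u : L) = (u : L) * e := by
        calc e * (u : L) = e * (u : L) * e⁻¹ * e := by group
          _ = (u : L) * e := by rw [hu']
      exact this.symm
    obtain ⟨k, hk⟩ := hQ u
    have hk' : (u : L) ^ 2 ^ k = 1 := by
      have := congrArg Subtype.val hk
      simpa using this
    obtain ⟨j, -, hj⟩ := (Nat.dvd_prime_pow Nat.prime_two).mp (orderOf_dvd_of_pow_eq_one hk')
    have hj0 : j ≠ 0 := by
      rintro rfl
      rw [pow_zero, orderOf_eq_one_iff] at hj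
      exact hu1 (Subtype.ext hj)
    obtain ⟨i, rfl⟩ := Nat.exists_eq_succ_of_ne_zero hj0
    have ht1 : (u : L) ^ 2 ^ i ≠ 1 := by
      intro h1
      have hd := orderOf_dvd_of_pow_eq_one h1
      rw [hj] at hd
      have := Nat.le_of_dvd (by positivity) hd
      have h2 : 2 ^ i < 2 ^ (i + 1) := Nat.pow_lt_pow_right (by norm_num) (Nat.lt_succ_self i)
      omega
    have ht2 : ((u : L) ^ 2 ^ i) ^ 2 = 1 := by
      rw [← pow_mul, ← pow_succ, ← hj, pow_orderOf_eq_one]
    have he2 : e ^ 2 = 1 := hexp _ e ht1 ht2 (hcomm.pow_left _)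
    have hd2 : orderOf e ∣ 2 := orderOf_dvd_of_pow_eq_one he2
    rcases (Nat.dvd_prime Nat.prime_two).mp hd2 with h | h
    · exact hep.ne_one h
    · rw [h] at heo
      exact absurd heo (by decide)
  have hcard : Fintype.card (Function.fixedPoints f) = 1 := by
    rw [Fintype.card_eq_one_iff]
    refine ⟨⟨1, ?_⟩, ?_⟩
    · apply Subtype.ext
      show e * ((1 : ↥Q) : L) * e⁻¹ = ((1 : ↥Q) : L)
      simp
    · rintro ⟨y, hy⟩
      exact Subtype.ext (hfix y hy)
  rw [hcard, ← Nat.card_eq_fintype_card] at hmod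
  exact (Nat.modEq_iff_dvd' Nat.card_pos).mp hmod.symm

end Cfsg.Agent.Lib.Helper10.SNBFREE
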