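import Mathlib

/-!
# Sims–Wong: primitive groups with a suborbit of length 3 (S3385, S3685)

Definitions, conjugation equivariance, and the statements of the pieces of the split proof.

Abstract setting: `H ≤ G` (a point stabilizer).  *Points* are the conjugates of `H`, the *lines*
of a point `P` are its subgroups of index `3`, two points are *adjacent* when their intersection
has index `3` in them.  `Qs P` is the intersection of the lines of `P` (it is `O_2(P)`), `Zs P`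
is generated by the `Ω₁ Z(S)`, `S` a line of `P`.
-/

set_option autoImplicit false

namespace Cfsg.Agent.Lib.Helper10.SWDefs

open Pointwise

universe u v

section Defs

variable {G : Type u} [Group G]

/-- `P` is a conjugate of `H`. -/
def IsPt (H P : Subgroup G) : Prop := ∃ g : G, P = MulAut.conj g • H

/-- `S` is a subgroup of index `3` of `P`. -/
def IsLine (P S : Subgroup G) : Prop := S ≤ P ∧ S.relIndex P = 3

/-- The intersection of `P` and `P'` has index `3` in `P`. -/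
def Adj (P P' : Subgroup G) : Prop := P ≠ P' ∧ (P ⊓ P').relIndex P = 3

/-- `P` normalizes `N`. -/
def Nrm (P N : Subgroup G) : Prop := ∀ p ∈ P, MulAut.conj p • N = N

/-- The intersection of the lines of `P`. -/
def Qs (P : Subgroup G) : Subgroup G := sInf {S | IsLine P S}

/-- `Ω₁ Z(S)`: the central elements of `S` of order at most `2`. -/
def OZ (S : Subgroup G) : Subgroup G where
  carrier := {z | z ∈ S ∧ z * z = 1 ∧ ∀ s ∈ S, s * z = z * s}
  mul_mem' := by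
    rintro a b ⟨ha, ha2, hac⟩ ⟨hb, hb2, hbc⟩
    refine ⟨S.mul_mem ha hb, ?_, ?_⟩
    · calc a * b * (a * b) = a * (b * a) * b := by group
        _ = a * (a * b) * b := by rw [hac b hb]
        _ = (a * a) * (b * b) := by group
        _ = 1 := by rw [ha2, hb2, one_mul]
    · intro s hs
      calc s * (a * b) = (s * a) * b := by group
        _ = (a * s) * b := by rw [hac s hs]
        _ = a * (s * b) := by group
        _ = a * (b * s) := by rw [hbc s hs]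
        _ = a * b * s := by group
  one_mem' := ⟨S.one_mem, by simp, by simp⟩
  inv_mem' := by
    rintro a ⟨ha, ha2, hac⟩
    have hinv : a⁻¹ = a := inv_eq_of_mul_eq_one_left ha2
    rw [Set.mem_ofPred_eq, hinv]
    exact ⟨ha, ha2, hac⟩

/-- The subgroup generated by the `Ω₁ Z(S)`, `S` a line of `P`. -/
def Zs (P : Subgroup G) : Subgroup G := ⨆ (S : Subgroup G) (_ : IsLine P S), OZ S

/-- Some line of `H` is not normal in `H`. -/
def NN (H : Subgroup G) : Prop := ∃ S, IsLine H S ∧ ¬ Nrm H S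

/-- The abstract configuration: `H` is "maximal" (generates `G` with each of its other
conjugates), core-free, and meets some conjugate in a subgroup of index `3`. -/
structure Cfg (H : Subgroup G) : Prop where
  gen : ∀ g : G, g ∉ H → H ⊔ MulAut.conj g • H = ⊤
  core : ∀ N : Subgroup G, N.Normal → N ≤ H → N = ⊥
  adj : ∃ g : G, (H ⊓ MulAut.conj g • H).relIndex H = 3

/-- Adjacent points have different `Qs`. -/
def QNe (H : Subgroup G) : Prop :=
  ∀ P P' : Subgroup G, IsPt H P → IsPt H P' → Adj P P' → Qs P ≠ Qs P'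

/-- No element of order `3` of `H` centralizes `Qs H`. -/
def NoD (H : Subgroup G) : Prop := ¬ ∃ d ∈ H, orderOf d = 3 ∧ ∀ q ∈ Qs H, d * q = q * d

/-- `Zs P ≤ Qs P'` for all adjacent points. -/
def Far (H : Subgroup G) : Prop :=
  ∀ P P' : Subgroup G, IsPt H P → IsPt H P' → Adj P P' → Zs P ≤ Qs P'

/-- Basic facts about points and lines, valid when `Cfg H` and `NN H`. -/
structure Base (H : Subgroup G) : Prop where
  gen : ∀ P P' : Subgroup G, IsPt H P → IsPt H P' → P ≠ P' → P ⊔ P' = ⊤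
  core : ∀ P N : Subgroup G, IsPt H P → N ≤ P → N.Normal → N = ⊥
  self_norm_pt : ∀ P : Subgroup G, IsPt H P → ∀ g : G, MulAut.conj g • P = P → g ∈ P
  card : ∃ k : ℕ, ∀ P : Subgroup G, IsPt H P → Nat.card P = 3 * 2 ^ k
  ex_adj : ∀ P : Subgroup G, IsPt H P → ∃ P', IsPt H P' ∧ Adj P P'
  adj_symm : ∀ P P' : Subgroup G, IsPt H P → IsPt H P' → Adj P P' → Adj P' P
  adj_line : ∀ P P' : Subgroup G, IsPt H P → IsPt H P' → Adj P P' → IsLine P (P ⊓ P')
  line_adj : ∀ P P' S : Subgroup G, IsPt H P → IsPt H P' → P ≠ P' → IsLine P S → S ≤ P' →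
    P ⊓ P' = S ∧ Adj P P'
  line_two : ∀ P S : Subgroup G, IsPt H P → IsLine P S → IsPGroup 2 S
  line_conj : ∀ P S S' : Subgroup G, IsPt H P → IsLine P S → IsLine P S' →
    ∃ p ∈ P, S' = MulAut.conj p • S
  line_sup : ∀ P S S' : Subgroup G, IsPt H P → IsLine P S → IsLine P S' → S ≠ S' → S ⊔ S' = P
  line_inf : ∀ P S S' : Subgroup G, IsPt H P → IsLine P S → IsLine P S' → S ≠ S' →
    S ⊓ S' = Qs P
  q_index : ∀ P S : Subgroup G, IsPt H P → IsLine P S → (Qs P).relIndex S = 2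
  line_self_norm : ∀ P S : Subgroup G, IsPt H P → IsLine P S →
    ∀ p ∈ P, MulAut.conj p • S = S → p ∈ S
  q_nrm : ∀ P : Subgroup G, IsPt H P → Nrm P (Qs P)
  three : ∀ P : Subgroup G, IsPt H P → ∃ S₁ S₂ S₃ : Subgroup G, S₁ ≠ S₂ ∧ S₁ ≠ S₃ ∧ S₂ ≠ S₃ ∧
    ∀ S, IsLine P S ↔ (S = S₁ ∨ S = S₂ ∨ S = S₃)
  swap : ∀ P S S' : Subgroup G, IsPt H P → IsLine P S → IsLine P S' → S' ≠ S →
    ∀ s ∈ S, s ∉ Qs P →
      MulAut.conj s • S' ≠ S' ∧ MulAut.conj s • S' ≠ S ∧ IsLine P (MulAut.conj s • S')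
  inv3 : ∀ P S : Subgroup G, IsPt H P → IsLine P S → ∀ s ∈ S, s ∉ Qs P →
    ∀ d ∈ P, orderOf d = 3 → s * d * s⁻¹ * d ∈ Qs P
  two_trans : ∀ P S₁ S₂ T₁ T₂ : Subgroup G, IsPt H P → IsLine P S₁ → IsLine P S₂ →
    IsLine P T₁ → IsLine P T₂ → S₁ ≠ S₂ → T₁ ≠ T₂ →
    ∃ p ∈ P, MulAut.conj p • S₁ = T₁ ∧ MulAut.conj p • S₂ = T₂

/-- Facts about `Zs` in the case `C_P(Qs P) ≤ Qs P`. -/
structure ZF (H : Subgroup G) : Prop where
  cq : ∀ P : Subgroup G, IsPt H P → ∀ x ∈ P, (∀ q ∈ Qs P, x * q = q * x) → x ∈ Qs P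
  z_le : ∀ P : Subgroup G, IsPt H P → Zs P ≤ Qs P
  z_cent : ∀ P : Subgroup G, IsPt H P → ∀ z ∈ Zs P, ∀ q ∈ Qs P, q * z = z * q
  z_sq : ∀ P : Subgroup G, IsPt H P → ∀ z ∈ Zs P, z * z = 1
  z_nrm : ∀ P : Subgroup G, IsPt H P → Nrm P (Zs P)
  cz : ∀ P : Subgroup G, IsPt H P → ∀ x ∈ P, (∀ z ∈ Zs P, x * z = z * x) → x ∈ Qs P
  z_line : ∀ P S : Subgroup G, IsPt H P → IsLine P S →
    ∀ z ∈ Zs P, ∀ s ∈ S, z * (s * z * s⁻¹) ∈ OZ S
  z_ne : ∀ P : Subgroup G, IsPt H P → Zs P ≠ ⊥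

/-- The structure `Q₀ × X` with `X` of order `24` containing a self-centralizing normal
four-group and `|Q₀| ≤ 2`. -/
def StructS4 (H : Subgroup G) : Prop :=
  ∃ X Q₀ W : Subgroup G, X ≤ H ∧ Q₀ ≤ H ∧ X ⊓ Q₀ = ⊥ ∧ X ⊔ Q₀ = H ∧
    (∀ x ∈ X, ∀ q ∈ Q₀, x * q = q * x) ∧ Nat.card Q₀ ≤ 2 ∧ Nat.card X = 24 ∧ W ≤ X ∧
    Nat.card W = 4 ∧ Nrm X W ∧ (∀ x ∈ X, (∀ w ∈ W, x * w = w * x) → x ∈ W)

/-- A walk of length `n`: points `x 0, …, x n`, consecutive ones adjacent. -/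
def IsWalk (H : Subgroup G) (x : ℕ → Subgroup G) (n : ℕ) : Prop :=
  (∀ i, i ≤ n → IsPt H (x i)) ∧ ∀ i, i < n → Adj (x i) (x (i + 1))

/-- There is a walk of length `n` with `Zs (x 0) ≰ Qs (x n)`. -/
def Bad (H : Subgroup G) (n : ℕ) : Prop :=
  ∃ x : ℕ → Subgroup G, IsWalk H x n ∧ ¬ Zs (x 0) ≤ Qs (x n)

/-- A bad walk of minimal length. -/
def MinBad (H : Subgroup G) (x : ℕ → Subgroup G) (n : ℕ) : Prop :=
  IsWalk H x n ∧ ¬ Zs (x 0) ≤ Qs (x n) ∧ ∀ m, m < n → ¬ Bad H m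

/-- An oriented adjacent pair of points for which `Zs Ps ⊔ Zs Ys` is not normalized by `Ps`. -/
def Orient (H Ps Ys : Subgroup G) : Prop :=
  IsPt H Ps ∧ IsPt H Ys ∧ Adj Ps Ys ∧ ¬ Nrm Ps (Zs Ps ⊔ Zs Ys)

/-- Property (A): shifting a minimal bad walk backwards along the orbital of `(Ps, Ys)`,
off the first line, gives a bad walk. -/
def PropA (H Ps Ys : Subgroup G) : Prop :=
  ∀ (x : ℕ → Subgroup G) (n : ℕ), MinBad H x n → 2 ≤ n → ∀ g : G, MulAut.conj g • Ps = x 0 →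
    x 0 ⊓ MulAut.conj g • Ys ≠ x 0 ⊓ x 1 → ¬ Zs (MulAut.conj g • Ys) ≤ Qs (x (n - 1))

/-! ### Conjugation equivariance -/

theorem conj_mul_smul (g h : G) (P : Subgroup G) :
    MulAut.conj g • MulAut.conj h • P = MulAut.conj (g * h) • P := by
  rw [← mul_smul, ← map_mul]

theorem conj_one_smul (P : Subgroup G) : MulAut.conj (1 : G) • P = P := by
  rw [map_one, one_smul]

theorem conj_inv_smul (g : G) (P : Subgroup G) : MulAut.conj g⁻¹ • MulAut.conj g • P = P := by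
  rw [conj_mul_smul, inv_mul_cancel, conj_one_smul]

theorem conj_smul_inv (g : G) (P : Subgroup G) : MulAut.conj g • MulAut.conj g⁻¹ • P = P := by
  rw [conj_mul_smul, mul_inv_cancel, conj_one_smul]

theorem mem_conj_smul {g x : G} {P : Subgroup G} : x ∈ MulAut.conj g • P ↔ g⁻¹ * x * g ∈ P := by
  rw [Subgroup.mem_pointwise_smul_iff_inv_smul_mem, ← map_inv, MulAut.smul_def,
    MulAut.conj_apply, inv_inv]

theorem conj_mem_conj_smul {g x : G} {P : Subgroup G} (hx : x ∈ P) :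
    g * x * g⁻¹ ∈ MulAut.conj g • P := by
  rw [mem_conj_smul]
  have : g⁻¹ * (g * x * g⁻¹) * g = x := by group
  rw [this]
  exact hx

theorem card_conj_smul (g : G) (P : Subgroup G) :
    Nat.card (MulAut.conj g • P : Subgroup G) = Nat.card P := by
  have h1 := Subgroup.relIndex_pointwise_smul (MulAut.conj g) (⊥ : Subgroup G) P
  rw [Subgroup.smul_bot, Subgroup.relIndex_bot_left, Subgroup.relIndex_bot_left] at h1
  exact h1

theorem isPt_self (H : Subgroup G) : IsPt H H := ⟨1, (conj_one_smul H).symm⟩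

theorem isPt_conj {H P : Subgroup G} (h : IsPt H P) (g : G) : IsPt H (MulAut.conj g • P) := by
  obtain ⟨a, rfl⟩ := h
  exact ⟨g * a, conj_mul_smul g a H⟩

theorem isPt_trans {H P P' : Subgroup G} (h : IsPt H P) (h' : IsPt H P') :
    ∃ g : G, P' = MulAut.conj g • P := by
  obtain ⟨a, rfl⟩ := h
  obtain ⟨b, rfl⟩ := h'
  refine ⟨b * a⁻¹, ?_⟩
  rw [conj_mul_smul, inv_mul_cancel_right]

theorem isLine_conj {P S : Subgroup G} (g : G) (h : IsLine P S) :
    IsLine (MulAut.conj g • P) (MulAut.conj g • S) :=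
  ⟨Subgroup.pointwise_smul_le_pointwise_smul_iff.2 h.1, by
    rw [Subgroup.relIndex_pointwise_smul]; exact h.2⟩

theorem isLine_conj_iff {P S : Subgroup G} (g : G) :
    IsLine (MulAut.conj g • P) (MulAut.conj g • S) ↔ IsLine P S := by
  refine ⟨fun h => ?_, isLine_conj g⟩
  have := isLine_conj g⁻¹ h
  rwa [conj_inv_smul, conj_inv_smul] at this

theorem adj_conj {P P' : Subgroup G} (g : G) (h : Adj P P') :
    Adj (MulAut.conj g • P) (MulAut.conj g • P') := by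
  refine ⟨fun he => h.1 ?_, ?_⟩
  · have := congrArg (fun K => MulAut.conj g⁻¹ • K) he
    simpa [conj_inv_smul] using this
  · rw [← Subgroup.smul_inf, Subgroup.relIndex_pointwise_smul]
    exact h.2

theorem nrm_conj {P N : Subgroup G} (g : G) (h : Nrm P N) :
    Nrm (MulAut.conj g • P) (MulAut.conj g • N) := by
  intro p hp
  rw [mem_conj_smul] at hp
  have h1 := h _ hp
  have h2 : MulAut.conj p • MulAut.conj g • N
      = MulAut.conj g • MulAut.conj (g⁻¹ * p * g) • N := by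
    rw [conj_mul_smul, conj_mul_smul]
    congr 2
    group
  rw [h2, h1]

theorem Qs_conj (g : G) (P : Subgroup G) : Qs (MulAut.conj g • P) = MulAut.conj g • Qs P := by
  ext x
  rw [mem_conj_smul]
  unfold Qs
  simp only [Subgroup.mem_sInf, Set.mem_ofPred_eq]
  constructor
  · intro h S hS
    have h1 := h _ (isLine_conj g hS)
    rwa [mem_conj_smul] at h1
  · intro h S hS
    have hS' : IsLine P (MulAut.conj g⁻¹ • S) := by
      have := isLine_conj g⁻¹ hS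
      rwa [conj_inv_smul] at this
    have h1 := h _ hS'
    rw [mem_conj_smul] at h1
    simpa [mul_assoc] using h1

theorem OZ_conj (g : G) (S : Subgroup G) : OZ (MulAut.conj g • S) = MulAut.conj g • OZ S := by
  ext x
  rw [mem_conj_smul]
  constructor
  · rintro ⟨hx, hx2, hxc⟩
    refine ⟨mem_conj_smul.1 hx, ?_, ?_⟩
    · calc g⁻¹ * x * g * (g⁻¹ * x * g) = g⁻¹ * (x * x) * g := by group
        _ = 1 := by rw [hx2]; group
    · intro s hs
      have h1 := hxc (g * s * g⁻¹) (conj_mem_conj_smul hs)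
      calc s * (g⁻¹ * x * g) = g⁻¹ * (g * s * g⁻¹ * x) * g := by group
        _ = g⁻¹ * (x * (g * s * g⁻¹)) * g := by rw [h1]
        _ = g⁻¹ * x * g * s := by group
  · rintro ⟨hx, hx2, hxc⟩
    refine ⟨mem_conj_smul.2 hx, ?_, ?_⟩
    · calc x * x = g * (g⁻¹ * x * g * (g⁻¹ * x * g)) * g⁻¹ := by group
        _ = 1 := by rw [hx2]; group
    · intro s hs
      have h1 := hxc _ (mem_conj_smul.1 hs)
      calc s * x = g * (g⁻¹ * s * g * (g⁻¹ * x * g)) * g⁻¹ := by group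
        _ = g * (g⁻¹ * x * g * (g⁻¹ * s * g)) * g⁻¹ := by rw [h1]
        _ = x * s := by group

theorem Zs_conj_le (g : G) (P : Subgroup G) : Zs (MulAut.conj g • P) ≤ MulAut.conj g • Zs P := by
  unfold Zs
  refine iSup₂_le fun S hS => ?_
  have hS' : IsLine P (MulAut.conj g⁻¹ • S) := by
    have := isLine_conj g⁻¹ hS
    rwa [conj_inv_smul] at this
  have h1 : OZ S = MulAut.conj g • OZ (MulAut.conj g⁻¹ • S) := by
    rw [← OZ_conj, conj_smul_inv]
  rw [h1]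
  exact Subgroup.pointwise_smul_le_pointwise_smul_iff.2
    (le_iSup₂ (f := fun (S : Subgroup G) (_ : IsLine P S) => OZ S) _ hS')

theorem Zs_conj (g : G) (P : Subgroup G) : Zs (MulAut.conj g • P) = MulAut.conj g • Zs P := by
  refine le_antisymm (Zs_conj_le g P) ?_
  have h1 := Zs_conj_le g⁻¹ (MulAut.conj g • P)
  rw [conj_inv_smul] at h1
  have h2 := Subgroup.pointwise_smul_le_pointwise_smul_iff (a := MulAut.conj g).2 h1
  rwa [conj_smul_inv] at h2

theorem OZ_le_Zs {P S : Subgroup G} (h : IsLine P S) : OZ S ≤ Zs P :=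
  le_iSup₂ (f := fun (S : Subgroup G) (_ : IsLine P S) => OZ S) S h

theorem Qs_le_line {P S : Subgroup G} (h : IsLine P S) : Qs P ≤ S := sInf_le h

end Defs

/-! ### Statements of the pieces -/

/-- R0: the reduction from the permutation group. -/
def StR0 : Prop :=
  ∀ (G : Type u) [Group G] [Finite G] (Ω : Type v) [MulAction G Ω] [FaithfulSMul G Ω],
    MulAction.IsPreprimitive G Ω → ∀ a b : Ω,
    Nat.card (MulAction.orbit (MulAction.stabilizer G a) b) = 3 →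
    Cfg (MulAction.stabilizer G a)

/-- TG: the intersection of two adjacent points is a `2`-group. -/
def StTG : Prop :=
  ∀ (G : Type u) [Group G] [Finite G] (H : Subgroup G), Cfg H → ∃ k : ℕ, Nat.card H = 3 * 2 ^ k

/-- The conclusion of SY1 for a subgroup `P`. -/
def SylStruct {G : Type u} [Group G] (P : Subgroup G) : Prop :=
  (∀ S S' : Subgroup G, IsLine P S → IsLine P S' → ∃ p ∈ P, S' = MulAut.conj p • S) ∧
  (∀ S S' : Subgroup G, IsLine P S → IsLine P S' → S ≠ S' → S ⊓ S' = Qs P) ∧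
  (∀ S : Subgroup G, IsLine P S → (Qs P).relIndex S = 2) ∧
  (∀ S : Subgroup G, IsLine P S → ∀ p ∈ P, MulAut.conj p • S = S → p ∈ S) ∧
  Nrm P (Qs P) ∧
  (∃ S₁ S₂ S₃ : Subgroup G, S₁ ≠ S₂ ∧ S₁ ≠ S₃ ∧ S₂ ≠ S₃ ∧
    ∀ S, IsLine P S ↔ (S = S₁ ∨ S = S₂ ∨ S = S₃))

/-- SY1: Sylow structure of a group of order `3 * 2 ^ k` with a non-normal subgroup of
index `3`. -/
def StSY1 : Prop :=
  ∀ (G : Type u) [Group G] [Finite G] (P : Subgroup G) (k : ℕ), Nat.card P = 3 * 2 ^ k →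
    (∃ S, IsLine P S ∧ ¬ Nrm P S) → SylStruct P

/-- SY2: combinatorics of the three lines. -/
def StSY2 : Prop :=
  ∀ (G : Type u) [Group G] [Finite G] (P : Subgroup G) (k : ℕ), Nat.card P = 3 * 2 ^ k →
    SylStruct P →
    (∀ S : Subgroup G, IsLine P S → IsPGroup 2 S) ∧
    (∀ S S' : Subgroup G, IsLine P S → IsLine P S' → S ≠ S' → S ⊔ S' = P) ∧
    (∀ S S' : Subgroup G, IsLine P S → IsLine P S' → S' ≠ S → ∀ s ∈ S, s ∉ Qs P →
      MulAut.conj s • S' ≠ S' ∧ MulAut.conj s • S' ≠ S ∧ IsLine P (MulAut.conj s • S')) ∧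
    (∀ S : Subgroup G, IsLine P S → ∀ s ∈ S, s ∉ Qs P →
      ∀ d ∈ P, orderOf d = 3 → s * d * s⁻¹ * d ∈ Qs P) ∧
    (∀ S₁ S₂ T₁ T₂ : Subgroup G, IsLine P S₁ → IsLine P S₂ → IsLine P T₁ → IsLine P T₂ →
      S₁ ≠ S₂ → T₁ ≠ T₂ → ∃ p ∈ P, MulAut.conj p • S₁ = T₁ ∧ MulAut.conj p • S₂ = T₂)

/-- BASE. -/
def StBASE : Prop :=
  ∀ (G : Type u) [Group G] [Finite G] (H : Subgroup G), Cfg H → NN H → Base H

/-- ISO3: a group of order `6` with a non-normal subgroup of index `3` is `S₃`. -/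
def StISO3 : Prop :=
  ∀ (K : Type u) [Group K] [Finite K] (S : Subgroup K), Nat.card K = 6 → S.index = 3 →
    ¬ S.Normal → Nonempty (K ≃* Equiv.Perm (Fin 3))

/-- ISO12: recognition of the dihedral group of order `12`. -/
def StISO12 : Prop :=
  ∀ (K : Type u) [Group K] [Finite K] (r s : K), Nat.card K = 12 → orderOf r = 6 → s * s = 1 →
    s ∉ Subgroup.zpowers r → s * r * s⁻¹ = r⁻¹ → Nonempty (K ≃* DihedralGroup 6)

/-- ISO4: a group of order `24` with a self-centralizing normal subgroup of order `4`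
is `S₄`. -/
def StISO4 : Prop :=
  ∀ (K : Type u) [Group K] [Finite K] (W : Subgroup K), Nat.card K = 24 → W.Normal →
    Nat.card W = 4 → (∀ x : K, (∀ w ∈ W, x * w = w * x) → x ∈ W) →
    Nonempty (K ≃* Equiv.Perm (Fin 4))

/-- C0: all lines normal. -/
def StC0 : Prop :=
  ∀ (G : Type u) [Group G] [Finite G] (H : Subgroup G), Cfg H →
    (∃ k : ℕ, Nat.card H = 3 * 2 ^ k) → ¬ NN H → Nonempty (H ≃* Multiplicative (ZMod 3))

/-- C1: some adjacent pair has the same `Qs`. -/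
def StC1 : Prop :=
  StISO3.{u} → ∀ (G : Type u) [Group G] [Finite G] (H : Subgroup G), Base H →
    (∃ P P' : Subgroup G, IsPt H P ∧ IsPt H P' ∧ Adj P P' ∧ Qs P = Qs P') →
    Nonempty (H ≃* Equiv.Perm (Fin 3))

/-- C3: an element of order `3` centralizes `Qs H`. -/
def StC3 : Prop :=
  StISO12.{u} → ∀ (G : Type u) [Group G] [Finite G] (H : Subgroup G), Base H → QNe H →
    (∃ d ∈ H, orderOf d = 3 ∧ ∀ q ∈ Qs H, d * q = q * d) → Nonempty (H ≃* DihedralGroup 6)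

/-- C4Z: the facts about `Zs`. -/
def StC4Z : Prop :=
  ∀ (G : Type u) [Group G] [Finite G] (H : Subgroup G), Base H → QNe H → NoD H → ZF H

/-- DEC: the decomposition `Y = Q₀ × X`. -/
def StDEC : Prop :=
  ∀ (G : Type u) [Group G] [Finite G] (Y Q : Subgroup G) (u e : G), Q ≤ Y → Nrm Y Q →
    IsPGroup 2 Q → Nat.card Y = 6 * Nat.card Q →
    (∀ x ∈ Y, (∀ q ∈ Q, x * q = q * x) → x ∈ Q) → u ∈ Y → u ∉ Q → u * u = 1 → e ≠ 1 → e ∈ Q →
    (∀ q ∈ Q, q * u * q⁻¹ * u⁻¹ = 1 ∨ q * u * q⁻¹ * u⁻¹ = e) →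
    (∀ d ∈ Y, orderOf d = 3 → u * d * u⁻¹ * d ∈ Q) →
    ∃ X Q₀ W : Subgroup G, X ≤ Y ∧ Q₀ ≤ Q ∧ W ≤ Q ∧ W ≤ X ∧ u ∈ X ∧ e ∈ W ∧ X ⊓ Q₀ = ⊥ ∧
      X ⊔ Q₀ = Y ∧ (∀ x ∈ X, ∀ q ∈ Q₀, x * q = q * x) ∧ Nat.card X = 24 ∧ Nat.card W = 4 ∧
      Nrm X W ∧ (∀ x ∈ X, (∀ w ∈ W, x * w = w * x) → x ∈ W) ∧
      (∀ w ∈ W, ∀ q ∈ Q, w * q = q * w) ∧ (∀ w ∈ W, w * w = 1) ∧ Q₀ ⊔ W = Q ∧
      (∀ w ∈ W, u * w = w * u → w = 1 ∨ w = e) ∧ Nrm Y W

/-- C4I: the case `Zs P ≰ Qs P'` for some adjacent pair. -/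
def StC4I : Prop :=
  StDEC.{u} → ∀ (G : Type u) [Group G] [Finite G] (H : Subgroup G), Base H → QNe H → ZF H →
    (∃ P P' : Subgroup G, IsPt H P ∧ IsPt H P' ∧ Adj P P' ∧ ¬ Zs P ≤ Qs P') → StructS4 H

/-- FIN: from the structure to the isomorphism type. -/
def StFIN : Prop :=
  StISO4.{u} → ∀ (G : Type u) [Group G] [Finite G] (H : Subgroup G), StructS4 H →
    Nonempty (H ≃* Equiv.Perm (Fin 4)) ∨
      Nonempty (H ≃* Equiv.Perm (Fin 4) × Multiplicative (ZMod 2))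

/-- WA: basic properties of a minimal bad walk. -/
def StWA : Prop :=
  ∀ (G : Type u) [Group G] [Finite G] (H : Subgroup G), Base H → ZF H →
    ∀ (x : ℕ → Subgroup G) (n : ℕ), MinBad H x n →
    (∀ i j, i ≤ n → j ≤ n → i < j + n → j < i + n → Zs (x i) ≤ Qs (x j)) ∧
    MinBad H (fun i => x (n - i)) n ∧
    (∀ i, i + 2 ≤ n → x i ⊓ x (i + 1) ≠ x (i + 1) ⊓ x (i + 2)) ∧
    (3 ≤ n → x 1 ≠ x (n - 1)) ∧
    (1 ≤ n → ∀ u ∈ Zs (x 0), ∀ z ∈ Zs (x n),
      u * z * u⁻¹ * z⁻¹ ∈ OZ (x 0 ⊓ x 1) ∧ u * z * u⁻¹ * z⁻¹ ∈ OZ (x (n - 1) ⊓ x n))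

/-- WB: the dichotomy; an oriented pair with property (A). -/
def StWB : Prop :=
  StWA.{u} → ∀ (G : Type u) [Group G] [Finite G] (H : Subgroup G), Base H → ZF H →
    (∃ Ps Ys : Subgroup G, Orient H Ps Ys) ∧
    (∀ Ps Ys : Subgroup G, Orient H Ps Ys → PropA H Ps Ys)

/-- WC: the swing; commutators are central in `x (n - 1)`, and `n = 2`. -/
def StWC : Prop :=
  StWA.{u} → ∀ (G : Type u) [Group G] [Finite G] (H : Subgroup G), Base H → ZF H →
    ∀ Ps Ys : Subgroup G, Orient H Ps Ys → PropA H Ps Ys →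
    ∀ (x : ℕ → Subgroup G) (n : ℕ), MinBad H x n → 2 ≤ n →
    (∀ u ∈ Zs (x 0), ∀ z ∈ Zs (x n), ∀ p ∈ x (n - 1),
      p * (u * z * u⁻¹ * z⁻¹) = (u * z * u⁻¹ * z⁻¹) * p) ∧ n = 2

/-- K2: distinct points of the orbital at `Ps` are far apart. -/
def PropK2 {G : Type u} [Group G] (Ps Ys : Subgroup G) : Prop :=
  ∀ p ∈ Ps, MulAut.conj p • Ys ≠ Ys → ¬ Zs Ys ≤ Qs (MulAut.conj p • Ys)

/-- K1: two steps along the orbital, turning. -/
def PropK1 {G : Type u} [Group G] (Ps Ys : Subgroup G) : Prop :=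
  ∀ t h : G, MulAut.conj t • Ps = Ys → h ∈ Ys →
    Ys ⊓ MulAut.conj (h * t) • Ys ≠ Ps ⊓ Ys → ¬ Zs Ps ≤ Qs (MulAut.conj (h * t) • Ys)

/-- WD: the supply of bad walks of length `2`. -/
def StWD : Prop :=
  StWA.{u} → ∀ (G : Type u) [Group G] [Finite G] (H : Subgroup G), Base H → ZF H →
    ∀ Ps Ys : Subgroup G, Orient H Ps Ys → PropA H Ps Ys →
    (∃ x : ℕ → Subgroup G, MinBad H x 2) → PropK2 Ps Ys ∧ PropK1 Ps Ys

/-- WE: the endgame for `n = 2`. -/
def StWE : Prop :=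
  StWA.{u} → ∀ (G : Type u) [Group G] [Finite G] (H : Subgroup G), Base H → ZF H →
    ∀ Ps Ys : Subgroup G, Orient H Ps Ys → ¬ Bad H 0 → ¬ Bad H 1 →
    PropK2 Ps Ys → PropK1 Ps Ys →
    (∀ x : ℕ → Subgroup G, MinBad H x 2 → ∀ u ∈ Zs (x 0), ∀ z ∈ Zs (x 2), ∀ p ∈ x 1,
      p * (u * z * u⁻¹ * z⁻¹) = (u * z * u⁻¹ * z⁻¹) * p) → False

/-- WF: some walk is bad. -/
def StWF : Prop :=
  ∀ (G : Type u) [Group G] [Finite G] (H : Subgroup G), Base H → ZF H → ∃ n : ℕ, Bad H n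

end Cfsg.Agent.Lib.Helper10.SWDefs
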