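import Mathlib
import Cfsg.Agent.Lib.Helper10.SWDefs

/-!
# Sims–Wong: the basic facts `Base H` from `Cfg H` and `NN H`
-/

set_option autoImplicit false

namespace Cfsg.Agent.Lib.Helper10.SWBase

open Pointwise Cfsg.Agent.Lib.Helper10.SWDefs

universe u

variable {G : Type u} [Group G]

theorem card_mul_relIndex {K L : Subgroup G} (h : K ≤ L) :
    Nat.card K * K.relIndex L = Nat.card L := by
  have h1 := Subgroup.relIndex_mul_relIndex (⊥ : Subgroup G) K L bot_le h
  rwa [Subgroup.relIndex_bot_left, Subgroup.relIndex_bot_left] at h1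

theorem conj_smul_top (a : G) : MulAut.conj a • (⊤ : Subgroup G) = ⊤ := by
  rw [eq_top_iff]
  intro x _
  rw [mem_conj_smul]
  exact Subgroup.mem_top _

theorem base (hTG : StTG.{u}) (hSY1 : StSY1.{u}) (hSY2 : StSY2.{u}) : StBASE.{u} := by
  intro G _ _ H hH hnn
  obtain ⟨k, hk⟩ := hTG G H hH
  have hcard : ∀ P : Subgroup G, IsPt H P → Nat.card P = 3 * 2 ^ k := by
    rintro P ⟨g, rfl⟩
    rw [card_conj_smul]
    exact hk
  have hpos : ∀ K : Subgroup G, 0 < Nat.card K := fun K => Nat.card_pos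
  have hnnP : ∀ P : Subgroup G, IsPt H P → ∃ S, IsLine P S ∧ ¬ Nrm P S := by
    rintro P ⟨g, rfl⟩
    obtain ⟨S, hS, hn⟩ := hnn
    refine ⟨MulAut.conj g • S, isLine_conj g hS, fun h => hn ?_⟩
    have := nrm_conj g⁻¹ h
    rwa [conj_inv_smul, conj_inv_smul] at this
  have hsyl : ∀ P : Subgroup G, IsPt H P → SylStruct P :=
    fun P hP => hSY1 G P k (hcard P hP) (hnnP P hP)
  have hsy2 := fun (P : Subgroup G) (hP : IsPt H P) => hSY2 G P k (hcard P hP) (hsyl P hP)
  have hself : ∀ g : G, MulAut.conj g • H = H → g ∈ H := by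
    intro g hg
    by_contra hgH
    have h1 := hH.gen g hgH
    rw [hg, sup_idem] at h1
    exact hgH (h1 ▸ Subgroup.mem_top g)
  have eq_of_le : ∀ P P' : Subgroup G, IsPt H P → IsPt H P' → P ≤ P' → P = P' := by
    intro P P' hP hP' hle
    exact Subgroup.eq_of_le_of_card_ge hle (by rw [hcard P hP, hcard P' hP'])
  refine
    { gen := ?_, core := ?_, self_norm_pt := ?_, card := ⟨k, hcard⟩, ex_adj := ?_,
      adj_symm := ?_, adj_line := ?_, line_adj := ?_,
      line_two := fun P S hP hS => (hsy2 P hP).1 S hS,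
      line_conj := fun P S S' hP hS hS' => (hsyl P hP).1 S S' hS hS',
      line_sup := fun P S S' hP hS hS' hne => (hsy2 P hP).2.1 S S' hS hS' hne,
      line_inf := fun P S S' hP hS hS' hne => (hsyl P hP).2.1 S S' hS hS' hne,
      q_index := fun P S hP hS => (hsyl P hP).2.2.1 S hS,
      line_self_norm := fun P S hP hS => (hsyl P hP).2.2.2.1 S hS,
      q_nrm := fun P hP => (hsyl P hP).2.2.2.2.1,
      three := fun P hP => (hsyl P hP).2.2.2.2.2,
      swap := fun P S S' hP hS hS' hne => (hsy2 P hP).2.2.1 S S' hS hS' hne,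
      inv3 := fun P S hP hS => (hsy2 P hP).2.2.2.1 S hS,
      two_trans := fun P S₁ S₂ T₁ T₂ hP h1 h2 h3 h4 hne hne' =>
        (hsy2 P hP).2.2.2.2 S₁ S₂ T₁ T₂ h1 h2 h3 h4 hne hne' }
  · -- gen
    rintro P P' ⟨a, rfl⟩ ⟨b, rfl⟩ hne
    have hg : a⁻¹ * b ∉ H := by
      intro hmem
      apply hne
      have h1 := Subgroup.conj_smul_eq_self_of_mem hmem
      have h2 : MulAut.conj b • H = MulAut.conj a • MulAut.conj (a⁻¹ * b) • H := by
        rw [conj_mul_smul, mul_inv_cancel_left]
      rw [h2, h1]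
    have h1 := hH.gen _ hg
    have h2 := congrArg (fun K => MulAut.conj a • K) h1
    simp only [Subgroup.smul_sup, conj_mul_smul, mul_inv_cancel_left, conj_smul_top] at h2
    exact h2
  · -- core
    rintro P N ⟨a, rfl⟩ hle hN
    apply hH.core N hN
    intro x hx
    have h1 := mem_conj_smul.1 (hle (hN.conj_mem x hx a))
    have h2 : a⁻¹ * (a * x * a⁻¹) * a = x := by group
    rwa [h2] at h1
  · -- self_norm_pt
    rintro P ⟨a, rfl⟩ g hg
    have h1 : MulAut.conj (a⁻¹ * g * a) • H = H := by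
      have h2 := congrArg (fun K => MulAut.conj a⁻¹ • K) hg
      simp only [conj_mul_smul, inv_mul_cancel, conj_one_smul] at h2
      rw [← h2]
      congr 2
      group
    exact mem_conj_smul.2 (hself _ h1)
  · -- ex_adj
    rintro P ⟨a, rfl⟩
    obtain ⟨g, hg⟩ := hH.adj
    have hadj : Adj H (MulAut.conj g • H) := by
      refine ⟨fun he => ?_, hg⟩
      rw [← he, inf_idem, Subgroup.relIndex_self] at hg
      omega
    exact ⟨MulAut.conj a • MulAut.conj g • H, isPt_conj (isPt_conj (isPt_self H) g) a,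
      adj_conj a hadj⟩
  · -- adj_symm
    intro P P' hP hP' hadj
    refine ⟨fun he => hadj.1 he.symm, ?_⟩
    have h1 := card_mul_relIndex (inf_le_left : P ⊓ P' ≤ P)
    have h2 := card_mul_relIndex (inf_le_right : P ⊓ P' ≤ P')
    rw [hadj.2, hcard P hP] at h1
    rw [hcard P' hP', ← h1] at h2
    rw [inf_comm]
    exact Nat.eq_of_mul_eq_mul_left (hpos _) h2
  · -- adj_line
    intro P P' _ _ hadj
    exact ⟨inf_le_left, hadj.2⟩
  · -- line_adj
    intro P P' S hP hP' hne hS hSP'
    have hSM : S ≤ P ⊓ P' := le_inf hS.1 hSP'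
    have h1 := card_mul_relIndex hS.1
    rw [hS.2] at h1
    have h2 := card_mul_relIndex (inf_le_left : P ⊓ P' ≤ P)
    have h3 := card_mul_relIndex hSM
    have h4 : S.relIndex (P ⊓ P') * (P ⊓ P').relIndex P = 3 := by
      have h5 : Nat.card S * (S.relIndex (P ⊓ P') * (P ⊓ P').relIndex P) = Nat.card S * 3 := by
        rw [← mul_assoc, h3, h2, h1]
      exact Nat.eq_of_mul_eq_mul_left (hpos _) h5
    have h6 : (P ⊓ P').relIndex P ≠ 1 := by
      intro h7
      rw [h7, mul_one] at h2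
      have h8 : P ⊓ P' = P := Subgroup.eq_of_le_of_card_ge inf_le_left (le_of_eq h2.symm)
      exact hne (eq_of_le P P' hP hP' (inf_eq_left.1 h8))
    have h7 : (P ⊓ P').relIndex P = 3 := by
      have hd : (P ⊓ P').relIndex P ∣ 3 := Dvd.intro_left _ h4
      rcases (Nat.dvd_prime Nat.prime_three).1 hd with h | h
      · exact absurd h h6
      · exact h
    have h8 : S.relIndex (P ⊓ P') = 1 := by
      rw [h7] at h4
      omega
    rw [h8, mul_one] at h3
    exact ⟨(Subgroup.eq_of_le_of_card_ge hSM (le_of_eq h3.symm)).symm, hne, h7⟩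

end Cfsg.Agent.Lib.Helper10.SWBase
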