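import Mathlib
import Cfsg.Agent.Lib.Helper10.SWDefs

/-!
# Sims–Wong: assembly of the pieces
-/

set_option autoImplicit false

namespace Cfsg.Agent.Lib.Helper10.SWMain

open Pointwise Cfsg.Agent.Lib.Helper10.SWDefs

universe u v

/-- The case `Zs P ≤ Qs P'` for all adjacent points is contradictory. -/
theorem far_false (hWA : StWA.{u}) (hWB : StWB.{u}) (hWC : StWC.{u}) (hWD : StWD.{u})
    (hWE : StWE.{u}) (hWF : StWF.{u})
    {G : Type u} [Group G] [Finite G] (H : Subgroup G) (hB : Base H) (hZ : ZF H)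
    (hfar : Far H) : False := by
  classical
  have hex : ∃ n, Bad H n := hWF G H hB hZ
  have hn₀ : Bad H (Nat.find hex) := Nat.find_spec hex
  have hmin : ∀ m, m < Nat.find hex → ¬ Bad H m := fun m hm => Nat.find_min hex hm
  have hb0 : ¬ Bad H 0 := by
    rintro ⟨x, hx, hbad⟩
    exact hbad (hZ.z_le (x 0) (hx.1 0 le_rfl))
  have hb1 : ¬ Bad H 1 := by
    rintro ⟨x, hx, hbad⟩
    exact hbad (hfar (x 0) (x 1) (hx.1 0 (by omega)) (hx.1 1 le_rfl) (hx.2 0 (by omega)))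
  have h2 : 2 ≤ Nat.find hex := by
    by_contra hlt
    have h01 : Nat.find hex = 0 ∨ Nat.find hex = 1 := by omega
    rcases h01 with h | h
    · rw [h] at hn₀
      exact hb0 hn₀
    · rw [h] at hn₀
      exact hb1 hn₀
  obtain ⟨x, hx, hbad⟩ := hn₀
  have hMB : MinBad H x (Nat.find hex) := ⟨hx, hbad, hmin⟩
  obtain ⟨⟨Ps, Ys, hO⟩, hA⟩ := hWB hWA G H hB hZ
  have hPA := hA Ps Ys hO
  have hn2 : Nat.find hex = 2 := (hWC hWA G H hB hZ Ps Ys hO hPA x _ hMB h2).2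
  rw [hn2] at hMB
  obtain ⟨hK2, hK1⟩ := hWD hWA G H hB hZ Ps Ys hO hPA ⟨x, hMB⟩
  refine hWE hWA G H hB hZ Ps Ys hO hb0 hb1 hK2 hK1 ?_
  intro y hy a ha z hz p hp
  exact (hWC hWA G H hB hZ Ps Ys hO hPA y 2 hy le_rfl).1 a ha z hz p hp

/-- The abstract Sims–Wong theorem. -/
theorem main_abs (hTG : StTG.{u}) (hBASE : StBASE.{u}) (hISO3 : StISO3.{u})
    (hISO12 : StISO12.{u}) (hISO4 : StISO4.{u}) (hC0 : StC0.{u}) (hC1 : StC1.{u})
    (hC3 : StC3.{u}) (hC4Z : StC4Z.{u}) (hDEC : StDEC.{u}) (hC4I : StC4I.{u})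
    (hFIN : StFIN.{u}) (hWA : StWA.{u}) (hWB : StWB.{u}) (hWC : StWC.{u}) (hWD : StWD.{u})
    (hWE : StWE.{u}) (hWF : StWF.{u})
    {G : Type u} [Group G] [Finite G] (H : Subgroup G) (hH : Cfg H) :
    Nonempty (H ≃* Multiplicative (ZMod 3)) ∨ Nonempty (H ≃* Equiv.Perm (Fin 3)) ∨
      Nonempty (H ≃* DihedralGroup 6) ∨ Nonempty (H ≃* Equiv.Perm (Fin 4)) ∨
      Nonempty (H ≃* Equiv.Perm (Fin 4) × Multiplicative (ZMod 2)) := by
  classical
  by_cases hnn : NN H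
  swap
  · exact Or.inl (hC0 G H hH (hTG G H hH) hnn)
  have hB : Base H := hBASE G H hH hnn
  by_cases h1 : ∃ P P' : Subgroup G, IsPt H P ∧ IsPt H P' ∧ Adj P P' ∧ Qs P = Qs P'
  · exact Or.inr (Or.inl (hC1 hISO3 G H hB h1))
  have hq : QNe H := fun P P' hP hP' hadj heq => h1 ⟨P, P', hP, hP', hadj, heq⟩
  by_cases h3 : ∃ d ∈ H, orderOf d = 3 ∧ ∀ q ∈ Qs H, d * q = q * d
  · exact Or.inr (Or.inr (Or.inl (hC3 hISO12 G H hB hq h3)))
  have hZ : ZF H := hC4Z G H hB hq h3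
  by_cases hfar : Far H
  · exact (far_false hWA hWB hWC hWD hWE hWF H hB hZ hfar).elim
  · have hex : ∃ P P' : Subgroup G, IsPt H P ∧ IsPt H P' ∧ Adj P P' ∧ ¬ Zs P ≤ Qs P' := by
      by_contra hcon
      apply hfar
      intro P P' hP hP' hadj
      by_contra hle
      exact hcon ⟨P, P', hP, hP', hadj, hle⟩
    have hS := hC4I hDEC G H hB hq hZ hex
    rcases hFIN hISO4 G H hS with h | h
    · exact Or.inr (Or.inr (Or.inr (Or.inl h)))
    · exact Or.inr (Or.inr (Or.inr (Or.inr h)))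

end Cfsg.Agent.Lib.Helper10.SWMain
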