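import Mathlib
import Cfsg.Agent.Lib.Helper10.SWDefs

/-!
# Sims–Wong: piece WB (the dichotomy, oriented pairs, property (A))
-/

set_option autoImplicit false

namespace Cfsg.Agent.Lib.Helper10.SWWB

open Pointwise Cfsg.Agent.Lib.Helper10.SWDefs

universe u

variable {G : Type u} [Group G]

theorem qs_le_pt {H : Subgroup G} (hB : Base H) {P : Subgroup G} (hP : IsPt H P) : Qs P ≤ P := by
  obtain ⟨S₁, S₂, S₃, -, -, -, hall⟩ := hB.three P hP
  have hS : IsLine P S₁ := (hall S₁).2 (Or.inl rfl)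
  exact (Qs_le_line hS).trans hS.1

theorem idx2 {Q S : Subgroup G} (_hQS : Q ≤ S) (h2 : Q.relIndex S = 2) {a b : G} (ha : a ∈ S)
    (hb : b ∈ S) (haQ : a ∉ Q) (hbQ : b ∉ Q) : a⁻¹ * b ∈ Q := by
  have h3 : (Q.subgroupOf S).index = 2 := h2
  have h4 := Subgroup.mul_mem_iff_of_index_two h3 (a := (⟨a, ha⟩ : S)⁻¹) (b := (⟨b, hb⟩ : S))
  have h5 : ((⟨a, ha⟩ : S)⁻¹ * ⟨b, hb⟩ ∈ Q.subgroupOf S) := by
    rw [h4]
    constructor
    · intro h
      exact absurd (by simpa [Subgroup.mem_subgroupOf] using h) haQ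
    · intro h
      exact absurd (by simpa [Subgroup.mem_subgroupOf] using h) hbQ
  simpa [Subgroup.mem_subgroupOf] using h5

theorem nrm_le_normalizer {P N : Subgroup G} (h : Nrm P N) :
    P ≤ Subgroup.normalizer (N : Set G) := by
  intro p hp
  rw [Subgroup.mem_normalizer_iff]
  intro n
  have h1 := h p hp
  constructor
  · intro hn
    have := conj_mem_conj_smul (g := p) hn
    rwa [h1] at this
  · intro hn
    rw [← h1, mem_conj_smul] at hn
    have h2 : p⁻¹ * (p * n * p⁻¹) * p = n := by group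
    rwa [h2] at hn

theorem third_unique {P S S' T T' A₁ A₂ A₃ : Subgroup G}
    (hall : ∀ S, IsLine P S ↔ (S = A₁ ∨ S = A₂ ∨ S = A₃))
    (hS : IsLine P S) (hS' : IsLine P S') (hT : IsLine P T) (hT' : IsLine P T')
    (hne : S ≠ S') (h1 : T ≠ S) (h2 : T ≠ S') (h3 : T' ≠ S) (h4 : T' ≠ S') : T = T' := by
  rcases (hall S).1 hS with rfl | rfl | rfl <;> rcases (hall S').1 hS' with rfl | rfl | rfl <;>
    rcases (hall T).1 hT with rfl | rfl | rfl <;> rcases (hall T').1 hT' with rfl | rfl | rfl <;>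
    first
      | rfl
      | exact absurd rfl hne
      | exact absurd rfl h1
      | exact absurd rfl h2
      | exact absurd rfl h3
      | exact absurd rfl h4

theorem zs_comm {H : Subgroup G} (hZ : ZF H) {P : Subgroup G} (hP : IsPt H P) {a b : G}
    (ha : a ∈ Zs P) (hb : b ∈ Zs P) : a * b = b * a :=
  hZ.z_cent P hP b hb a (hZ.z_le P hP ha)

theorem zs_inv {H : Subgroup G} (hZ : ZF H) {P : Subgroup G} (hP : IsPt H P) {a : G}
    (ha : a ∈ Zs P) : a⁻¹ = a :=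
  inv_eq_of_mul_eq_one_left (hZ.z_sq P hP a ha)

/-- The dichotomy. -/
theorem dich [Finite G] (hWA : StWA.{u}) {H : Subgroup G} (hB : Base H) (hZ : ZF H)
    (x : ℕ → Subgroup G) (n : ℕ) (hMB : MinBad H x n) (hn2 : 2 ≤ n) (y : Subgroup G)
    (hy : IsPt H y) (hadj : Adj (x 0) y) (hoff : x 0 ⊓ y ≠ x 0 ⊓ x 1)
    (hle : Zs y ≤ Qs (x (n - 1))) : Nrm (x 0) (Zs (x 0) ⊔ Zs y) := by
  obtain ⟨ha, hrev, -, -, -⟩ := hWA G H hB hZ x n hMB
  have hx0 : IsPt H (x 0) := hMB.1.1 0 (Nat.zero_le _)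
  have hx1 : IsPt H (x 1) := hMB.1.1 1 (by omega)
  have hxn : IsPt H (x n) := hMB.1.1 n le_rfl
  have hxn1 : IsPt H (x (n - 1)) := hMB.1.1 (n - 1) (by omega)
  have hadj01 : Adj (x 0) (x 1) := hMB.1.2 0 (by omega)
  have hadjn : Adj (x (n - 1)) (x n) := by
    have := hMB.1.2 (n - 1) (by omega)
    rwa [Nat.sub_add_cancel (by omega : 1 ≤ n)] at this
  have hS1 : IsLine (x 0) (x 0 ⊓ x 1) := hB.adj_line _ _ hx0 hx1 hadj01
  have hS1' : IsLine (x 1) (x 0 ⊓ x 1) := by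
    have := hB.adj_line _ _ hx1 hx0 (hB.adj_symm _ _ hx0 hx1 hadj01)
    rwa [inf_comm] at this
  have hS' : IsLine (x 0) (x 0 ⊓ y) := hB.adj_line _ _ hx0 hy hadj
  have hSn : IsLine (x n) (x (n - 1) ⊓ x n) := by
    have := hB.adj_line _ _ hxn hxn1 (hB.adj_symm _ _ hxn1 hxn hadjn)
    rwa [inf_comm] at this
  have hSn' : IsLine (x (n - 1)) (x (n - 1) ⊓ x n) := hB.adj_line _ _ hxn1 hxn hadjn
  -- the element u'
  have hrev' : ¬ Zs (x n) ≤ Qs (x 0) := by
    have := hrev.2.1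
    simpa using this
  obtain ⟨u', hu', hu'Q⟩ := SetLike.not_le_iff_exists.1 hrev'
  have hu'1 : u' ∈ Qs (x 1) := ha n 1 le_rfl (by omega) (by omega) (by omega) hu'
  have hu'S1 : u' ∈ x 0 ⊓ x 1 := Qs_le_line hS1' hu'1
  have hu'x0 : u' ∈ x 0 := hu'S1.1
  have hu'n1 : u' ∈ Qs (x (n - 1)) := ha n (n - 1) le_rfl (by omega) (by omega) (by omega) hu'
  have hu'xn1 : u' ∈ x (n - 1) := qs_le_pt hB hxn1 hu'n1
  -- an element of `Zs (x 0)` outside `Qs (x n)`
  obtain ⟨u₀, hu₀, hu₀Q⟩ := SetLike.not_le_iff_exists.1 hMB.2.1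
  have hu₀n1 : u₀ ∈ Qs (x (n - 1)) :=
    ha 0 (n - 1) (Nat.zero_le _) (by omega) (by omega) (by omega) hu₀
  have hu₀Sn : u₀ ∈ x (n - 1) ⊓ x n := Qs_le_line hSn' hu₀n1
  -- Claim A
  have hA : ∀ h ∈ x 0, MulAut.conj h • Zs y ≤ Qs (x (n - 1)) := by
    intro h hh
    have hx0h : MulAut.conj h • x 0 = x 0 := Subgroup.conj_smul_eq_self_of_mem hh
    have hT : IsLine (x 0) (MulAut.conj h • (x 0 ⊓ y)) := by
      have := isLine_conj h hS'
      rwa [hx0h] at this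
    by_cases hc1 : MulAut.conj h • (x 0 ⊓ y) = x 0 ⊓ y
    · have hhS : h ∈ x 0 ⊓ y := hB.line_self_norm _ _ hx0 hS' h hh hc1
      have hyh : MulAut.conj h • y = y := Subgroup.conj_smul_eq_self_of_mem hhS.2
      rw [← Zs_conj, hyh]
      exact hle
    by_cases hc2 : MulAut.conj h • (x 0 ⊓ y) = x 0 ⊓ x 1
    · have hy' : IsPt H (MulAut.conj h • y) := isPt_conj hy h
      have hinf : x 0 ⊓ MulAut.conj h • y = x 0 ⊓ x 1 := by
        rw [← hc2, Subgroup.smul_inf, hx0h]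
      have hSy' : x 0 ⊓ x 1 ≤ MulAut.conj h • y := by
        rw [← hinf]
        exact inf_le_right
      rw [← Zs_conj]
      by_cases hyx1 : MulAut.conj h • y = x 1
      · rw [hyx1]
        exact ha 1 (n - 1) (by omega) (by omega) (by omega) (by omega)
      · have hadj1 : Adj (x 1) (MulAut.conj h • y) :=
          (hB.line_adj _ _ _ hx1 hy' (fun he => hyx1 he.symm) hS1' hSy').2
        have hadj2 : Adj (MulAut.conj h • y) (x 1) := hB.adj_symm _ _ hx1 hy' hadj1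
        have hw : IsWalk H (fun i => if i = 0 then MulAut.conj h • y else x i) (n - 1) := by
          refine ⟨fun i hi => ?_, fun i hi => ?_⟩
          · by_cases h0 : i = 0
            · simp only [h0, if_true]
              exact hy'
            · simp only [h0, if_false]
              exact hMB.1.1 i (by omega)
          · by_cases h0 : i = 0
            · subst h0
              simpa using hadj2
            · have h1 : i + 1 ≠ 0 := by omega
              simp only [h0, h1, if_false]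
              exact hMB.1.2 i (by omega)
        have hnb := hMB.2.2 (n - 1) (by omega)
        have h3 : Zs (MulAut.conj h • y) ≤ Qs (x (n - 1)) := by
          by_contra hcon
          apply hnb
          refine ⟨_, hw, ?_⟩
          have h1 : n - 1 ≠ 0 := by omega
          simpa [h1] using hcon
        exact h3
    · -- the third line
      have hsw := hB.swap (x 0) (x 0 ⊓ x 1) (x 0 ⊓ y) hx0 hS1 hS' hoff u' hu'S1 hu'Q
      obtain ⟨A₁, A₂, A₃, -, -, -, hall⟩ := hB.three (x 0) hx0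
      have heq : MulAut.conj h • (x 0 ⊓ y) = MulAut.conj u' • (x 0 ⊓ y) :=
        third_unique hall hS1 hS' hT hsw.2.2 (fun he => hoff he.symm) hc2 hc1 hsw.2.1 hsw.1
      have h1 : MulAut.conj (u'⁻¹ * h) • (x 0 ⊓ y) = x 0 ⊓ y := by
        rw [← conj_mul_smul, heq, conj_inv_smul]
      have hmem : u'⁻¹ * h ∈ x 0 ⊓ y :=
        hB.line_self_norm _ _ hx0 hS' _ ((x 0).mul_mem ((x 0).inv_mem hu'x0) hh) h1
      have hyh : MulAut.conj (u'⁻¹ * h) • y = y := Subgroup.conj_smul_eq_self_of_mem hmem.2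
      have hyh' : MulAut.conj h • y = MulAut.conj u' • y := by
        have := congrArg (fun K => MulAut.conj u' • K) hyh
        simp only [conj_mul_smul, mul_inv_cancel_left] at this
        exact this
      rw [← Zs_conj, hyh', Zs_conj]
      have h2 := Subgroup.pointwise_smul_le_pointwise_smul_iff (a := MulAut.conj u').2 hle
      rwa [hB.q_nrm _ hxn1 u' hu'xn1] at h2
  -- the subgroup acting trivially modulo `Zs (x 0)`
  let A : Subgroup G :=
    { carrier := {a | a ∈ x 0 ∧ ∀ h ∈ x 0, ∀ v ∈ MulAut.conj h • Zs y,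
        a * v * a⁻¹ * v⁻¹ ∈ Zs (x 0)}
      mul_mem' := by
        rintro a b ⟨hax, hac⟩ ⟨hbx, hbc⟩
        refine ⟨(x 0).mul_mem hax hbx, fun h hh v hv => ?_⟩
        have hv' : b * v * b⁻¹ ∈ MulAut.conj (b * h) • Zs y := by
          rw [← conj_mul_smul]
          exact conj_mem_conj_smul hv
        have h1 := hac (b * h) ((x 0).mul_mem hbx hh) _ hv'
        have h2 := hbc h hh v hv
        have h3 : a * b * v * (a * b)⁻¹ * v⁻¹
            = (a * (b * v * b⁻¹) * a⁻¹ * (b * v * b⁻¹)⁻¹) * (b * v * b⁻¹ * v⁻¹) := by group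
        rw [h3]
        exact (Zs (x 0)).mul_mem h1 h2
      one_mem' := ⟨(x 0).one_mem, fun h _ v _ => by simp⟩
      inv_mem' := by
        rintro a ⟨hax, hac⟩
        refine ⟨(x 0).inv_mem hax, fun h hh v hv => ?_⟩
        have hv' : a⁻¹ * v * a⁻¹⁻¹ ∈ MulAut.conj (a⁻¹ * h) • Zs y := by
          rw [← conj_mul_smul]
          exact conj_mem_conj_smul hv
        have h1 := hac (a⁻¹ * h) ((x 0).mul_mem ((x 0).inv_mem hax) hh) _ hv'
        have h3 : a⁻¹ * v * a⁻¹⁻¹ * v⁻¹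
            = (a * (a⁻¹ * v * a⁻¹⁻¹) * a⁻¹ * (a⁻¹ * v * a⁻¹⁻¹)⁻¹)⁻¹ := by group
        rw [h3]
        exact (Zs (x 0)).inv_mem h1 }
  have hAmem : ∀ a : G, a ∈ A ↔ (a ∈ x 0 ∧ ∀ h ∈ x 0, ∀ v ∈ MulAut.conj h • Zs y,
      a * v * a⁻¹ * v⁻¹ ∈ Zs (x 0)) := fun a => Iff.rfl
  -- `Qs (x 0) ≤ A`
  have hQA : Qs (x 0) ≤ A := by
    intro q hq
    rw [hAmem]
    refine ⟨qs_le_pt hB hx0 hq, fun h hh v hv => ?_⟩
    have hx0h : MulAut.conj h • x 0 = x 0 := Subgroup.conj_smul_eq_self_of_mem hh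
    have hy' : IsPt H (MulAut.conj h • y) := isPt_conj hy h
    have hadj' : Adj (x 0) (MulAut.conj h • y) := by
      have := adj_conj h hadj
      rwa [hx0h] at this
    have hL : IsLine (x 0) (x 0 ⊓ MulAut.conj h • y) := hB.adj_line _ _ hx0 hy' hadj'
    have hL' : IsLine (MulAut.conj h • y) (x 0 ⊓ MulAut.conj h • y) := by
      have := hB.adj_line _ _ hy' hx0 (hB.adj_symm _ _ hx0 hy' hadj')
      rwa [inf_comm] at this
    have hqL : q ∈ x 0 ⊓ MulAut.conj h • y := Qs_le_line hL hq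
    rw [← Zs_conj] at hv
    have h1 := hZ.z_line _ _ hy' hL' v hv q hqL
    have hvinv : v⁻¹ = v := zs_inv hZ hy' hv
    have hconj : q * v * q⁻¹ ∈ Zs (MulAut.conj h • y) := by
      have := conj_mem_conj_smul (g := q) hv
      rwa [hZ.z_nrm _ hy' q hqL.2] at this
    have h2 : q * v * q⁻¹ * v⁻¹ = v * (q * v * q⁻¹) := by
      rw [hvinv]
      exact zs_comm hZ hy' hconj hv
    rw [h2]
    exact OZ_le_Zs hL h1
  -- `u' ∈ A`
  have hu'A : u' ∈ A := by
    rw [hAmem]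
    refine ⟨hu'x0, fun h hh v hv => ?_⟩
    have hvQ : v ∈ Qs (x (n - 1)) := hA h hh hv
    have hvSn : v ∈ x (n - 1) ⊓ x n := Qs_le_line hSn' hvQ
    by_cases hvn : v ∈ Qs (x n)
    · have hc : v * u' = u' * v := hZ.z_cent _ hxn u' hu' v hvn
      have h1 : u' * v * u'⁻¹ * v⁻¹ = 1 := by
        rw [← hc]
        group
      rw [h1]
      exact (Zs (x 0)).one_mem
    · have hq : u₀⁻¹ * v ∈ Qs (x n) :=
        idx2 (Qs_le_line hSn) (hB.q_index _ _ hxn hSn) hu₀Sn hvSn hu₀Q hvn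
      have hc : (u₀⁻¹ * v) * u' = u' * (u₀⁻¹ * v) := hZ.z_cent _ hxn u' hu' _ hq
      have h1 : u' * v * u'⁻¹ * v⁻¹ = (u' * u₀ * u'⁻¹) * u₀⁻¹ := by
        have hv : v = u₀ * (u₀⁻¹ * v) := by group
        have hc' : (u₀⁻¹ * v) * u'⁻¹ = u'⁻¹ * (u₀⁻¹ * v) := by
          have := congrArg (fun t => u'⁻¹ * t * u'⁻¹) hc
          beta_reduce at this
          have e1 : u'⁻¹ * (u₀⁻¹ * v * u') * u'⁻¹ = u'⁻¹ * (u₀⁻¹ * v) := by group
          have e2 : u'⁻¹ * (u' * (u₀⁻¹ * v)) * u'⁻¹ = (u₀⁻¹ * v) * u'⁻¹ := by group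
          rw [e1, e2] at this
          exact this.symm
        calc u' * v * u'⁻¹ * v⁻¹ = u' * u₀ * ((u₀⁻¹ * v) * u'⁻¹) * (u₀⁻¹ * v)⁻¹ * u₀⁻¹ := by
              group
          _ = u' * u₀ * (u'⁻¹ * (u₀⁻¹ * v)) * (u₀⁻¹ * v)⁻¹ * u₀⁻¹ := by rw [hc']
          _ = (u' * u₀ * u'⁻¹) * u₀⁻¹ := by group
      rw [h1]
      have h2 : u' * u₀ * u'⁻¹ ∈ Zs (x 0) := by
        have := conj_mem_conj_smul (g := u') hu₀
        rwa [hZ.z_nrm _ hx0 u' hu'x0] at this
      exact (Zs (x 0)).mul_mem h2 ((Zs (x 0)).inv_mem hu₀)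
  -- `A` is normalized by `x 0`
  have hAn : ∀ p ∈ x 0, ∀ a ∈ A, p * a * p⁻¹ ∈ A := by
    intro p hp a ha
    rw [hAmem] at ha ⊢
    obtain ⟨hax, hac⟩ := ha
    refine ⟨(x 0).mul_mem ((x 0).mul_mem hp hax) ((x 0).inv_mem hp), fun h hh v hv => ?_⟩
    have hv' : p⁻¹ * v * p⁻¹⁻¹ ∈ MulAut.conj (p⁻¹ * h) • Zs y := by
      rw [← conj_mul_smul]
      exact conj_mem_conj_smul hv
    have h1 := hac (p⁻¹ * h) ((x 0).mul_mem ((x 0).inv_mem hp) hh) _ hv'
    have h2 : p * a * p⁻¹ * v * (p * a * p⁻¹)⁻¹ * v⁻¹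
        = p * (a * (p⁻¹ * v * p⁻¹⁻¹) * a⁻¹ * (p⁻¹ * v * p⁻¹⁻¹)⁻¹) * p⁻¹ := by group
    rw [h2]
    have := conj_mem_conj_smul (g := p) h1
    rwa [hZ.z_nrm _ hx0 p hp] at this
  -- the first line is in `A`
  have hS1A : x 0 ⊓ x 1 ≤ A := by
    intro s hs
    by_cases hsQ : s ∈ Qs (x 0)
    · exact hQA hsQ
    · have hq : u'⁻¹ * s ∈ Qs (x 0) :=
        idx2 (Qs_le_line hS1) (hB.q_index _ _ hx0 hS1) hu'S1 hs hu'Q hsQ
      have h1 : s = u' * (u'⁻¹ * s) := by group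
      rw [h1]
      exact A.mul_mem hu'A (hQA hq)
  -- all of `x 0` is in `A`
  have hxA : x 0 ≤ A := by
    obtain ⟨p, hp, hpS⟩ := hB.line_conj (x 0) _ _ hx0 hS1 hS'
    have hS'A : x 0 ⊓ y ≤ A := by
      intro s hs
      rw [hpS, mem_conj_smul] at hs
      have h1 := hAn p hp _ (hS1A hs)
      have h2 : p * (p⁻¹ * s * p) * p⁻¹ = s := by group
      rwa [h2] at h1
    rw [← hB.line_sup (x 0) _ _ hx0 hS1 hS' (fun he => hoff he.symm)]
    exact sup_le hS1A hS'A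
  -- conclusion
  have hkey : ∀ p ∈ x 0, MulAut.conj p • (Zs (x 0) ⊔ Zs y) ≤ Zs (x 0) ⊔ Zs y := by
    intro p hp
    rw [Subgroup.smul_sup, hZ.z_nrm _ hx0 p hp]
    refine sup_le le_sup_left ?_
    intro w hw
    rw [mem_conj_smul] at hw
    have hpA := (hAmem p).1 (hxA hp)
    have h1 := hpA.2 1 (x 0).one_mem (p⁻¹ * w * p) (by rwa [conj_one_smul])
    have h2 : w = (p * (p⁻¹ * w * p) * p⁻¹ * (p⁻¹ * w * p)⁻¹) * (p⁻¹ * w * p) := by group
    rw [h2]
    exact (Zs (x 0) ⊔ Zs y).mul_mem (Subgroup.mem_sup_left h1) (Subgroup.mem_sup_right hw)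
  intro p hp
  refine le_antisymm (hkey p hp) ?_
  have h1 := hkey p⁻¹ ((x 0).inv_mem hp)
  have h2 := Subgroup.pointwise_smul_le_pointwise_smul_iff (a := MulAut.conj p).2 h1
  rwa [conj_smul_inv] at h2

theorem main : StWB.{u} := by
  intro hWA G _ _ H hB hZ
  have hH : IsPt H H := isPt_self H
  constructor
  · obtain ⟨P', hP', hadj⟩ := hB.ex_adj H hH
    have hadj' : Adj P' H := hB.adj_symm _ _ hH hP' hadj
    have hL : IsLine H (H ⊓ P') := hB.adj_line _ _ hH hP' hadj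
    have hL' : IsLine P' (H ⊓ P') := by
      have := hB.adj_line _ _ hP' hH hadj'
      rwa [inf_comm] at this
    have hnot : ¬ (Nrm H (Zs H ⊔ Zs P') ∧ Nrm P' (Zs H ⊔ Zs P')) := by
      rintro ⟨h1, h2⟩
      have hle : Zs H ⊔ Zs P' ≤ H :=
        sup_le ((hZ.z_le H hH).trans (qs_le_pt hB hH))
          (((hZ.z_le P' hP').trans (Qs_le_line hL')).trans inf_le_left)
      have hnorm : (Zs H ⊔ Zs P').Normal := by
        rw [← Subgroup.normalizer_eq_top_iff, eq_top_iff, ← hB.gen H P' hH hP' hadj.1]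
        exact sup_le (nrm_le_normalizer h1) (nrm_le_normalizer h2)
      have hbot := hB.core H _ hH hle hnorm
      apply hZ.z_ne H hH
      rw [eq_bot_iff, ← hbot]
      exact le_sup_left
    by_cases h1 : Nrm H (Zs H ⊔ Zs P')
    · refine ⟨P', H, hP', hH, hadj', ?_⟩
      rw [sup_comm]
      exact fun h2 => hnot ⟨h1, h2⟩
    · exact ⟨H, P', hH, hP', hadj, h1⟩
  · intro Ps Ys hO x n hMB hn2 g hg hoff hle
    obtain ⟨hPs, hYs, hadj, hnn⟩ := hO
    apply hnn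
    have hy : IsPt H (MulAut.conj g • Ys) := isPt_conj hYs g
    have hadj' : Adj (x 0) (MulAut.conj g • Ys) := by
      have := adj_conj g hadj
      rwa [hg] at this
    have h1 := dich hWA hB hZ x n hMB hn2 _ hy hadj' hoff hle
    have h2 := nrm_conj g⁻¹ h1
    rw [← hg, conj_inv_smul, Subgroup.smul_sup, ← Zs_conj, ← Zs_conj, conj_inv_smul,
      conj_inv_smul] at h2
    exact h2

end Cfsg.Agent.Lib.Helper10.SWWB
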