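import Mathlib
import Cfsg.Agent.Lib.Helper10.SWDefs

/-!
# Sims–Wong: piece WD (the supply of bad walks of length `2`)
-/

set_option autoImplicit false

namespace Cfsg.Agent.Lib.Helper10.SWWD

open Pointwise Cfsg.Agent.Lib.Helper10.SWDefs

universe u

variable {G : Type u} [Group G]

/-- The walk `a, b, c, c, …`. -/
def mk3 (a b c : Subgroup G) : ℕ → Subgroup G :=
  fun i => if i = 0 then a else if i = 1 then b else c

theorem mk3_zero (a b c : Subgroup G) : mk3 a b c 0 = a := by simp [mk3]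
theorem mk3_one (a b c : Subgroup G) : mk3 a b c 1 = b := by simp [mk3]
theorem mk3_two (a b c : Subgroup G) : mk3 a b c 2 = c := by simp [mk3]

/-- A bad walk of length two. -/
structure Tri (H a b c : Subgroup G) : Prop where
  ha : IsPt H a
  hb : IsPt H b
  hc : IsPt H c
  hab : Adj a b
  hbc : Adj b c
  bad : ¬ Zs a ≤ Qs c

theorem Tri.minBad {H a b c : Subgroup G} (hnb : ∀ m, m < 2 → ¬ Bad H m) (h : Tri H a b c) :
    MinBad H (mk3 a b c) 2 := by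
  refine ⟨⟨fun i hi => ?_, fun i hi => ?_⟩, ?_, hnb⟩
  · have : i = 0 ∨ i = 1 ∨ i = 2 := by omega
    rcases this with rfl | rfl | rfl
    · rw [mk3_zero]; exact h.ha
    · rw [mk3_one]; exact h.hb
    · rw [mk3_two]; exact h.hc
  · have : i = 0 ∨ i = 1 := by omega
    rcases this with rfl | rfl
    · rw [mk3_zero, mk3_one]; exact h.hab
    · rw [mk3_one, mk3_two]; exact h.hbc
  · rw [mk3_zero, mk3_two]; exact h.bad

theorem Tri.rev [Finite G] (hWA : StWA.{u}) {H a b c : Subgroup G} (hB : Base H) (hZ : ZF H)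
    (hnb : ∀ m, m < 2 → ¬ Bad H m) (h : Tri H a b c) : Tri H c b a := by
  have h1 := (hWA G H hB hZ _ 2 (h.minBad hnb)).2.1
  have h2 := h1.2.1
  simp only [Nat.sub_zero, Nat.sub_self, mk3_zero, mk3_two] at h2
  exact ⟨h.hc, h.hb, h.ha, hB.adj_symm _ _ h.hb h.hc h.hbc, hB.adj_symm _ _ h.ha h.hb h.hab, h2⟩

theorem Tri.step {H Ps Ys a b c : Subgroup G} (hB : Base H) (hO : Orient H Ps Ys)
    (hPA : PropA H Ps Ys) (hnb : ∀ m, m < 2 → ¬ Bad H m) (h : Tri H a b c) (g : G)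
    (hg : MulAut.conj g • Ps = a) (hoff : a ⊓ MulAut.conj g • Ys ≠ a ⊓ b) :
    Tri H (MulAut.conj g • Ys) a b := by
  have h1 := hPA (mk3 a b c) 2 (h.minBad hnb) le_rfl g (by rw [mk3_zero]; exact hg)
    (by rw [mk3_zero, mk3_one]; exact hoff)
  have h2 : ¬ Zs (MulAut.conj g • Ys) ≤ Qs b := by
    have : mk3 a b c (2 - 1) = b := mk3_one a b c
    rwa [this] at h1
  have hy : IsPt H (MulAut.conj g • Ys) := isPt_conj hO.2.1 g
  have hadj : Adj a (MulAut.conj g • Ys) := by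
    have := adj_conj g hO.2.2.1
    rwa [hg] at this
  exact ⟨hy, h.ha, h.hb, hB.adj_symm _ _ h.ha hy hadj, h.hab, h2⟩

theorem ex_off {H Ps Ys a : Subgroup G} (hB : Base H) (hO : Orient H Ps Ys) (ha : IsPt H a)
    (S₀ : Subgroup G) : ∃ g : G, MulAut.conj g • Ps = a ∧ a ⊓ MulAut.conj g • Ys ≠ S₀ := by
  obtain ⟨g₀, hg₀⟩ := isPt_trans hO.1 ha
  have hadj : Adj a (MulAut.conj g₀ • Ys) := by
    have := adj_conj g₀ hO.2.2.1
    rwa [← hg₀] at this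
  have hL : IsLine a (a ⊓ MulAut.conj g₀ • Ys) := hB.adj_line _ _ ha (isPt_conj hO.2.1 g₀) hadj
  obtain ⟨A₁, A₂, A₃, h12, -, -, hall⟩ := hB.three a ha
  have hex : ∃ S, IsLine a S ∧ S ≠ S₀ := by
    by_cases h1 : A₁ = S₀
    · exact ⟨A₂, (hall A₂).2 (Or.inr (Or.inl rfl)), fun h => h12 (h1.trans h.symm)⟩
    · exact ⟨A₁, (hall A₁).2 (Or.inl rfl), h1⟩
  obtain ⟨S, hS, hne⟩ := hex
  obtain ⟨p, hp, hpS⟩ := hB.line_conj a _ S ha hL hS
  refine ⟨p * g₀, ?_, ?_⟩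
  · rw [← conj_mul_smul, ← hg₀]
    exact Subgroup.conj_smul_eq_self_of_mem hp
  · rw [← conj_mul_smul]
    have h1 : a ⊓ MulAut.conj p • MulAut.conj g₀ • Ys
        = MulAut.conj p • (a ⊓ MulAut.conj g₀ • Ys) := by
      rw [Subgroup.smul_inf, Subgroup.conj_smul_eq_self_of_mem hp]
    rw [h1, ← hpS]
    exact hne

theorem not_le_conj (g : G) {A B : Subgroup G} (h : ¬ Zs A ≤ Qs B) :
    ¬ Zs (MulAut.conj g • A) ≤ Qs (MulAut.conj g • B) := by
  rw [Zs_conj, Qs_conj, Subgroup.pointwise_smul_le_pointwise_smul_iff]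
  exact h

theorem ne_conj (g : G) {A B : Subgroup G} (h : A ≠ B) :
    MulAut.conj g • A ≠ MulAut.conj g • B := by
  intro he
  apply h
  have := congrArg (fun K => MulAut.conj g⁻¹ • K) he
  simpa [conj_inv_smul] using this

theorem main : StWD.{u} := by
  intro hWA G _ _ H hB hZ Ps Ys hO hPA hex
  obtain ⟨x, hx⟩ := hex
  have hnb : ∀ m, m < 2 → ¬ Bad H m := hx.2.2
  have hO' : Orient H Ps Ys := hO
  obtain ⟨hPs, hYs, hadj, -⟩ := hO
  -- the starting triple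
  have hT0 : Tri H (x 0) (x 1) (x 2) :=
    ⟨hx.1.1 0 (by omega), hx.1.1 1 (by omega), hx.1.1 2 le_rfl, hx.1.2 0 (by omega),
      hx.1.2 1 (by omega), hx.2.1⟩
  have hT0r := hT0.rev hWA hB hZ hnb
  -- step 1
  obtain ⟨g₁, hg₁, hoff₁⟩ := ex_off hB hO' hT0r.ha (x 2 ⊓ x 1)
  have hT1 := hT0r.step hB hO' hPA hnb g₁ hg₁ hoff₁
  -- step 2
  obtain ⟨g₂, hg₂, hoff₂⟩ := ex_off hB hO' hT1.ha (MulAut.conj g₁ • Ys ⊓ x 2)
  have hT2 := hT1.step hB hO' hPA hnb g₂ hg₂ hoff₂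
  have hT2r := hT2.rev hWA hB hZ hnb
  -- step 3
  obtain ⟨g₃, hg₃, hoff₃⟩ := ex_off hB hO' hT2r.ha (x 2 ⊓ MulAut.conj g₁ • Ys)
  have hT3 := hT2r.step hB hO' hPA hnb g₃ hg₃ hoff₃
  have hLine : IsLine Ps (Ps ⊓ Ys) := hB.adj_line _ _ hPs hYs hadj
  have hLine' : IsLine Ys (Ys ⊓ Ps) := hB.adj_line _ _ hYs hPs (hB.adj_symm _ _ hPs hYs hadj)
  constructor
  · -- K2
    intro p hp hpne
    -- the instance, conjugated by `g₃⁻¹`
    have hm : g₃⁻¹ * g₁ ∈ Ps := by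
      apply hB.self_norm_pt Ps hPs
      rw [← conj_mul_smul, hg₁, ← hg₃, conj_inv_smul]
    have hinst : ¬ Zs Ys ≤ Qs (MulAut.conj (g₃⁻¹ * g₁) • Ys) := by
      have := not_le_conj g₃⁻¹ hT3.bad
      rwa [conj_inv_smul, conj_mul_smul] at this
    have hlne : Ps ⊓ Ys ≠ Ps ⊓ MulAut.conj (g₃⁻¹ * g₁) • Ys := by
      have := ne_conj g₃⁻¹ hoff₃
      rw [Subgroup.smul_inf, Subgroup.smul_inf, conj_inv_smul, ← hg₃, conj_inv_smul,
        conj_mul_smul] at this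
      exact this
    -- the lines
    have hcl : ∀ r ∈ Ps, Ps ⊓ MulAut.conj r • Ys = MulAut.conj r • (Ps ⊓ Ys) := by
      intro r hr
      rw [Subgroup.smul_inf, Subgroup.conj_smul_eq_self_of_mem hr]
    have hlm : IsLine Ps (MulAut.conj (g₃⁻¹ * g₁) • (Ps ⊓ Ys)) := by
      have := isLine_conj (g₃⁻¹ * g₁) hLine
      rwa [Subgroup.conj_smul_eq_self_of_mem hm] at this
    have hlp : IsLine Ps (MulAut.conj p • (Ps ⊓ Ys)) := by
      have := isLine_conj p hLine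
      rwa [Subgroup.conj_smul_eq_self_of_mem hp] at this
    have hlpne : Ps ⊓ Ys ≠ MulAut.conj p • (Ps ⊓ Ys) := by
      intro he
      have hpL := hB.line_self_norm Ps _ hPs hLine p hp he.symm
      exact hpne (Subgroup.conj_smul_eq_self_of_mem hpL.2)
    rw [hcl _ hm] at hlne
    obtain ⟨r, hr, hr1, hr2⟩ := hB.two_trans Ps _ _ _ _ hPs hLine hlm hLine hlp hlne hlpne
    have hrL := hB.line_self_norm Ps _ hPs hLine r hr hr1
    have hrY : MulAut.conj r • Ys = Ys := Subgroup.conj_smul_eq_self_of_mem hrL.2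
    have h3 : MulAut.conj (p⁻¹ * (r * (g₃⁻¹ * g₁))) • (Ps ⊓ Ys) = Ps ⊓ Ys := by
      rw [← conj_mul_smul, ← conj_mul_smul, hr2, conj_inv_smul]
    have h4 : p⁻¹ * (r * (g₃⁻¹ * g₁)) ∈ Ps ⊓ Ys :=
      hB.line_self_norm Ps _ hPs hLine _
        (Ps.mul_mem (Ps.inv_mem hp) (Ps.mul_mem hr hm)) h3
    have h5 : MulAut.conj (p⁻¹ * (r * (g₃⁻¹ * g₁))) • Ys = Ys :=
      Subgroup.conj_smul_eq_self_of_mem h4.2
    have h6 : MulAut.conj r • MulAut.conj (g₃⁻¹ * g₁) • Ys = MulAut.conj p • Ys := by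
      have := congrArg (fun K => MulAut.conj p • K) h5
      simp only [conj_mul_smul, mul_inv_cancel_left] at this
      rw [conj_mul_smul]
      exact this
    have h7 := not_le_conj r hinst
    rwa [hrY, h6] at h7
  · -- K1
    intro t h ht hh hoff
    -- the instance, conjugated by `g₁⁻¹`
    have hs : MulAut.conj (g₁⁻¹ * g₂) • Ps = Ys := by
      rw [← conj_mul_smul, hg₂, conj_inv_smul]
    have hinst : ¬ Zs Ps ≤ Qs (MulAut.conj (g₁⁻¹ * g₂) • Ys) := by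
      have := not_le_conj g₁⁻¹ hT2r.bad
      rwa [← hg₁, conj_inv_smul, conj_mul_smul] at this
    have hlne : Ys ⊓ MulAut.conj (g₁⁻¹ * g₂) • Ys ≠ Ys ⊓ Ps := by
      have := ne_conj g₁⁻¹ hoff₂
      rw [Subgroup.smul_inf, Subgroup.smul_inf, conj_inv_smul, ← hg₁, conj_inv_smul,
        conj_mul_smul] at this
      exact this
    -- `k := h t s⁻¹ ∈ Ys`
    have hk : h * t * (g₁⁻¹ * g₂)⁻¹ ∈ Ys := by
      apply hB.self_norm_pt Ys hYs
      have h1 : MulAut.conj (g₁⁻¹ * g₂)⁻¹ • Ys = Ps := by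
        rw [← hs, conj_inv_smul]
      rw [← conj_mul_smul, h1, ← conj_mul_smul, ht]
      exact Subgroup.conj_smul_eq_self_of_mem hh
    have hw : MulAut.conj (h * t) • Ys
        = MulAut.conj (h * t * (g₁⁻¹ * g₂)⁻¹) • MulAut.conj (g₁⁻¹ * g₂) • Ys := by
      rw [conj_mul_smul]
      congr 2
      group
    have hadjw₀ : Adj Ys (MulAut.conj (g₁⁻¹ * g₂) • Ys) := by
      have := adj_conj (g₁⁻¹ * g₂) hadj
      rwa [hs] at this
    have hN₀ : IsLine Ys (Ys ⊓ MulAut.conj (g₁⁻¹ * g₂) • Ys) :=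
      hB.adj_line _ _ hYs (isPt_conj hYs _) hadjw₀
    have hN₁e : Ys ⊓ MulAut.conj (h * t) • Ys
        = MulAut.conj (h * t * (g₁⁻¹ * g₂)⁻¹) • (Ys ⊓ MulAut.conj (g₁⁻¹ * g₂) • Ys) := by
      rw [hw, Subgroup.smul_inf, Subgroup.conj_smul_eq_self_of_mem hk]
    have hN₁ : IsLine Ys (MulAut.conj (h * t * (g₁⁻¹ * g₂)⁻¹) •
        (Ys ⊓ MulAut.conj (g₁⁻¹ * g₂) • Ys)) := by
      have := isLine_conj (h * t * (g₁⁻¹ * g₂)⁻¹) hN₀
      rwa [Subgroup.conj_smul_eq_self_of_mem hk] at this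
    have hoff' : Ys ⊓ Ps ≠ MulAut.conj (h * t * (g₁⁻¹ * g₂)⁻¹) •
        (Ys ⊓ MulAut.conj (g₁⁻¹ * g₂) • Ys) := by
      rw [← hN₁e, inf_comm Ys Ps]
      exact fun he => hoff he.symm
    obtain ⟨r, hr, hr1, hr2⟩ := hB.two_trans Ys _ _ _ _ hYs hLine' hN₀ hLine' hN₁
      (fun he => hlne he.symm) hoff'
    have hrL := hB.line_self_norm Ys _ hYs hLine' r hr hr1
    have hrP : MulAut.conj r • Ps = Ps := Subgroup.conj_smul_eq_self_of_mem hrL.2
    have h3 : MulAut.conj ((h * t * (g₁⁻¹ * g₂)⁻¹)⁻¹ * r) •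
        (Ys ⊓ MulAut.conj (g₁⁻¹ * g₂) • Ys) = Ys ⊓ MulAut.conj (g₁⁻¹ * g₂) • Ys := by
      rw [← conj_mul_smul, hr2, conj_inv_smul]
    have h4 : (h * t * (g₁⁻¹ * g₂)⁻¹)⁻¹ * r ∈ Ys ⊓ MulAut.conj (g₁⁻¹ * g₂) • Ys :=
      hB.line_self_norm Ys _ hYs hN₀ _ (Ys.mul_mem (Ys.inv_mem hk) hr) h3
    have h5 : MulAut.conj ((h * t * (g₁⁻¹ * g₂)⁻¹)⁻¹ * r) • MulAut.conj (g₁⁻¹ * g₂) • Ys
        = MulAut.conj (g₁⁻¹ * g₂) • Ys := Subgroup.conj_smul_eq_self_of_mem h4.2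
    have h6 : MulAut.conj r • MulAut.conj (g₁⁻¹ * g₂) • Ys = MulAut.conj (h * t) • Ys := by
      have := congrArg (fun K => MulAut.conj (h * t * (g₁⁻¹ * g₂)⁻¹) • K) h5
      beta_reduce at this
      rw [hw, ← this]
      simp only [conj_mul_smul]
      congr 2
      group
    have h7 := not_le_conj r hinst
    rwa [hrP, h6] at h7

end Cfsg.Agent.Lib.Helper10.SWWD
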