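import Mathlib
import Cfsg.Agent.Lib.Helper10.SWDefs
import Cfsg.Agent.Lib.Helper10.SWMain
import Cfsg.Agent.Lib.Helper10.SWBase
import Cfsg.Agent.Lib.Helper10.SWWB
import Cfsg.Agent.Lib.Helper10.SWWD
import Cfsg.Agent.Lib.Helper58.SWR0
import Cfsg.Agent.Lib.Helper58.SWTG
import Cfsg.Agent.Lib.Helper58.SWISO3
import Cfsg.Agent.Lib.Helper92.SWSY1
import Cfsg.Agent.Lib.Helper92.SWSY2
import Cfsg.Agent.Lib.Helper89.SWISO12
import Cfsg.Agent.Lib.Helper89.SWISO4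
import Cfsg.Agent.Lib.Helper33.SWC3
import Cfsg.Agent.Lib.Helper33.SWC4I
import Cfsg.Agent.Lib.Helper57.SWC0
import Cfsg.Agent.Lib.Helper57.SWC1
import Cfsg.Agent.Lib.Helper57.SWWF
import Cfsg.Agent.Lib.Helper93.SWFIN
import Cfsg.Agent.Lib.Helper93.SWWA
import Cfsg.Agent.Lib.Helper72.SWWC
import Cfsg.Agent.Lib.Helper14.SWWE
import Cfsg.Agent.Lib.Helper49.SWC4Z
import Cfsg.Agent.Lib.Helper64.SWDEC

/-!
# Sims–Wong: the final theorem for permutation groups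
-/

set_option autoImplicit false

namespace Cfsg.Agent.Lib.Helper10.SWFinal

open Pointwise Cfsg.Agent.Lib.Helper10.SWDefs

universe u v

/-- The abstract theorem, with all pieces plugged in. -/
theorem abs_thm {G : Type u} [Group G] [Finite G] (H : Subgroup G) (hH : Cfg H) :
    Nonempty (H ≃* Multiplicative (ZMod 3)) ∨ Nonempty (H ≃* Equiv.Perm (Fin 3)) ∨
      Nonempty (H ≃* DihedralGroup 6) ∨ Nonempty (H ≃* Equiv.Perm (Fin 4)) ∨
      Nonempty (H ≃* Equiv.Perm (Fin 4) × Multiplicative (ZMod 2)) :=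
  Cfsg.Agent.Lib.Helper10.SWMain.main_abs
    Cfsg.Agent.Lib.Helper58.SWTG.main
    (Cfsg.Agent.Lib.Helper10.SWBase.base Cfsg.Agent.Lib.Helper58.SWTG.main
      Cfsg.Agent.Lib.Helper92.SWSY1.main Cfsg.Agent.Lib.Helper92.SWSY2.main)
    Cfsg.Agent.Lib.Helper58.SWISO3.main
    Cfsg.Agent.Lib.Helper89.SWISO12.main
    Cfsg.Agent.Lib.Helper89.SWISO4.main
    Cfsg.Agent.Lib.Helper57.SWC0.main
    Cfsg.Agent.Lib.Helper57.SWC1.main
    Cfsg.Agent.Lib.Helper33.SWC3.main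
    Cfsg.Agent.Lib.Helper49.SWC4Z.main
    Cfsg.Agent.Lib.Helper64.SWDEC.main
    Cfsg.Agent.Lib.Helper33.SWC4I.main
    Cfsg.Agent.Lib.Helper93.SWFIN.main
    Cfsg.Agent.Lib.Helper93.SWWA.main
    Cfsg.Agent.Lib.Helper10.SWWB.main
    Cfsg.Agent.Lib.Helper72.SWWC.main
    Cfsg.Agent.Lib.Helper10.SWWD.main
    Cfsg.Agent.Lib.Helper14.SWWE.main
    Cfsg.Agent.Lib.Helper57.SWWF.main
    H hH

/-- Sims–Wong for a primitive permutation group. -/
theorem perm_thm {G : Type u} [Group G] [Finite G] {Ω : Type v} [MulAction G Ω]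
    [FaithfulSMul G Ω] (hprim : MulAction.IsPreprimitive G Ω) (a b : Ω)
    (h3 : Nat.card (MulAction.orbit (MulAction.stabilizer G a) b) = 3) :
    Nonempty (MulAction.stabilizer G a ≃* Multiplicative (ZMod 3)) ∨
      Nonempty (MulAction.stabilizer G a ≃* Equiv.Perm (Fin 3)) ∨
      Nonempty (MulAction.stabilizer G a ≃* DihedralGroup 6) ∨
      Nonempty (MulAction.stabilizer G a ≃* Equiv.Perm (Fin 4)) ∨
      Nonempty (MulAction.stabilizer G a ≃* Equiv.Perm (Fin 4) × Multiplicative (ZMod 2)) :=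
  abs_thm _ (Cfsg.Agent.Lib.Helper58.SWR0.main G Ω hprim a b h3)

/-- The order of the stabilizer. -/
theorem card_thm {G : Type u} [Group G] [Finite G] {Ω : Type v} [MulAction G Ω]
    [FaithfulSMul G Ω] (hprim : MulAction.IsPreprimitive G Ω) (a b : Ω)
    (h3 : Nat.card (MulAction.orbit (MulAction.stabilizer G a) b) = 3) :
    ∃ k : ℕ, k ≤ 4 ∧ Nat.card ↥(MulAction.stabilizer G a) = 2 ^ k * 3 := by
  rcases perm_thm hprim a b h3 with ⟨⟨e⟩⟩ | ⟨⟨e⟩⟩ | ⟨⟨e⟩⟩ | ⟨⟨e⟩⟩ | ⟨⟨e⟩⟩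
  · refine ⟨0, by norm_num, ?_⟩
    rw [Nat.card_congr e.toEquiv]
    simp [Nat.card_eq_fintype_card, ZMod.card]
  · refine ⟨1, by norm_num, ?_⟩
    rw [Nat.card_congr e.toEquiv]
    simp [Nat.card_eq_fintype_card, Fintype.card_perm]
    rfl
  · refine ⟨2, by norm_num, ?_⟩
    rw [Nat.card_congr e.toEquiv, DihedralGroup.nat_card]
    norm_num
  · refine ⟨3, by norm_num, ?_⟩
    rw [Nat.card_congr e.toEquiv]
    simp [Nat.card_eq_fintype_card, Fintype.card_perm]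
    rfl
  · refine ⟨4, by norm_num, ?_⟩
    rw [Nat.card_congr e.toEquiv]
    simp [Nat.card_eq_fintype_card, Fintype.card_perm, ZMod.card]
    rfl

end Cfsg.Agent.Lib.Helper10.SWFinal
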