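import Mathlib
import Cfsg.Prelude.Def_Transfer

set_option autoImplicit false

namespace Cfsg.Agent.Lib.Helper10.Thompson

variable {G : Type*} [Group G]

theorem card_mul_relIndex {H K : Subgroup G} (h : H ≤ K) :
    Nat.card H * H.relIndex K = Nat.card K := by
  rw [← Subgroup.relIndex_bot_left, ← Subgroup.relIndex_bot_left]
  exact Subgroup.relIndex_mul_relIndex ⊥ H K bot_le h

theorem card_mul_card_le [Finite G] (H K : Subgroup G) :
    Nat.card H * Nat.card K ≤ Nat.card (H ⊔ K : Subgroup G) * Nat.card (H ⊓ K : Subgroup G) := by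
  have h1 : Nat.card (H ⊓ K : Subgroup G) * H.relIndex K = Nat.card K := by
    rw [← Subgroup.inf_relIndex_right]
    exact card_mul_relIndex inf_le_right
  have h2 : Nat.card H * H.relIndex (H ⊔ K) = Nat.card (H ⊔ K : Subgroup G) :=
    card_mul_relIndex le_sup_left
  have h3 : H.relIndex K ≤ H.relIndex (H ⊔ K) := by
    apply Subgroup.relIndex_le_of_le_right le_sup_right
    intro h0
    rw [h0, mul_zero] at h2
    exact (Nat.card_pos (α := (H ⊔ K : Subgroup G))).ne h2
  calc Nat.card H * Nat.card K = Nat.card H * (Nat.card (H ⊓ K : Subgroup G) * H.relIndex K) := by rw [h1]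
    _ ≤ Nat.card H * (Nat.card (H ⊓ K : Subgroup G) * H.relIndex (H ⊔ K)) :=
        Nat.mul_le_mul_left _ (Nat.mul_le_mul_left _ h3)
    _ = (Nat.card H * H.relIndex (H ⊔ K)) * Nat.card (H ⊓ K : Subgroup G) := by ring
    _ = Nat.card (H ⊔ K : Subgroup G) * Nat.card (H ⊓ K : Subgroup G) := by rw [h2]

variable {p : ℕ}

theorem ea_comm {A : Subgroup G} (hA : Cfsg.IsElementaryAbelian p A) :
    ∀ x ∈ A, ∀ y ∈ A, x * y = y * x := by
  intro x hx y hy
  have := hA.1
  exact setLike_mul_comm hx hy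

theorem ea_le_centralizer {A : Subgroup G} (hA : Cfsg.IsElementaryAbelian p A) :
    A ≤ Subgroup.centralizer (A : Set G) :=
  Subgroup.le_centralizer_iff_isMulCommutative.mpr hA.1

theorem ea_of_le {A B : Subgroup G} (hA : Cfsg.IsElementaryAbelian p A) (h : B ≤ A) :
    Cfsg.IsElementaryAbelian p B := by
  refine ⟨?_, fun b hb => hA.2 b (h hb)⟩
  apply Subgroup.le_centralizer_iff_isMulCommutative.mp
  exact h.trans ((ea_le_centralizer hA).trans (Subgroup.centralizer_le h))

theorem ea_bot : Cfsg.IsElementaryAbelian p (⊥ : Subgroup G) := by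
  refine ⟨?_, ?_⟩
  · apply Subgroup.le_centralizer_iff_isMulCommutative.mp
    exact bot_le
  · intro a ha
    rw [Subgroup.mem_bot] at ha
    rw [ha, one_pow]

theorem ea_sup {A B : Subgroup G} (hA : Cfsg.IsElementaryAbelian p A)
    (hB : Cfsg.IsElementaryAbelian p B) (h : A ≤ Subgroup.centralizer (B : Set G)) :
    Cfsg.IsElementaryAbelian p (A ⊔ B) := by
  have h1 : A ⊔ B ≤ Subgroup.centralizer (A : Set G) :=
    sup_le (ea_le_centralizer hA) (Subgroup.le_centralizer_iff.mp h)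
  have h2 : A ⊔ B ≤ Subgroup.centralizer (B : Set G) := sup_le h (ea_le_centralizer hB)
  have h3 : A ⊔ B ≤ Subgroup.centralizer ((A ⊔ B : Subgroup G) : Set G) :=
    sup_le (Subgroup.le_centralizer_iff.mp h1) (Subgroup.le_centralizer_iff.mp h2)
  have hc : IsMulCommutative (A ⊔ B : Subgroup G) := Subgroup.le_centralizer_iff_isMulCommutative.mp h3
  refine ⟨hc, ?_⟩
  let K : Subgroup G :=
    { carrier := {g | g ∈ A ⊔ B ∧ g ^ p = 1}
      one_mem' := ⟨Subgroup.one_mem _, one_pow _⟩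
      mul_mem' := by
        rintro x y ⟨hx, hxp⟩ ⟨hy, hyp⟩
        refine ⟨Subgroup.mul_mem _ hx hy, ?_⟩
        have hcomm : Commute x y := setLike_mul_comm hx hy
        rw [hcomm.mul_pow, hxp, hyp, one_mul]
      inv_mem' := by
        rintro x ⟨hx, hxp⟩
        exact ⟨Subgroup.inv_mem _ hx, by rw [inv_pow, hxp, inv_one]⟩ }
  have hK : A ⊔ B ≤ K := by
    apply sup_le
    · intro a ha; exact ⟨Subgroup.mem_sup_left ha, hA.2 a ha⟩
    · intro b hb; exact ⟨Subgroup.mem_sup_right hb, hB.2 b hb⟩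
  intro g hg
  exact (hK hg).2

theorem ea_map {H : Type*} [Group H] (f : G →* H) {A : Subgroup G}
    (hA : Cfsg.IsElementaryAbelian p A) : Cfsg.IsElementaryAbelian p (A.map f) := by
  have := hA.1
  refine ⟨inferInstance, ?_⟩
  rintro _ ⟨a, ha, rfl⟩
  rw [← map_pow, hA.2 a ha, map_one]

theorem ea_subgroupOf {A : Subgroup G} (hA : Cfsg.IsElementaryAbelian p A) (U : Subgroup G) :
    Cfsg.IsElementaryAbelian p (A.subgroupOf U) := by
  have := hA.1
  refine ⟨inferInstance, ?_⟩
  intro a ha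
  rw [Subgroup.mem_subgroupOf] at ha
  apply Subtype.ext
  simpa using hA.2 _ ha

theorem ea_isPGroup [Fact p.Prime] {A : Subgroup G} (hA : Cfsg.IsElementaryAbelian p A) :
    IsPGroup p A := by
  intro g
  refine ⟨1, ?_⟩
  apply Subtype.ext
  simpa using hA.2 _ g.2

theorem exists_max [Finite G] (p : ℕ) :
    ∃ A : Subgroup G, A ∈ Cfsg.maxElementaryAbelianSubgroups p G := by
  have : Nonempty {A : Subgroup G // Cfsg.IsElementaryAbelian p A} := ⟨⟨⊥, ea_bot⟩⟩
  obtain ⟨A, hA⟩ := Finite.exists_max (fun A : {A : Subgroup G // Cfsg.IsElementaryAbelian p A} =>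
    Nat.card (A : Subgroup G))
  exact ⟨A.1, A.2, fun B hB => hA ⟨B, hB⟩⟩

theorem card_map_subtype (U : Subgroup G) (A' : Subgroup U) :
    Nat.card (A'.map U.subtype) = Nat.card A' :=
  (Nat.card_congr (A'.equivMapOfInjective U.subtype U.subtype_injective).toEquiv).symm

theorem card_subgroupOf {A U : Subgroup G} (h : A ≤ U) :
    Nat.card (A.subgroupOf U) = Nat.card A :=
  Nat.card_congr (Subgroup.subgroupOfEquivOfLe h).toEquiv

theorem map_mem_max [Finite G] {U A0 : Subgroup G}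
    (hA0 : A0 ∈ Cfsg.maxElementaryAbelianSubgroups p G) (hle : A0 ≤ U) {A' : Subgroup U}
    (hA' : A' ∈ Cfsg.maxElementaryAbelianSubgroups p U) :
    A'.map U.subtype ∈ Cfsg.maxElementaryAbelianSubgroups p G := by
  refine ⟨ea_map _ hA'.1, ?_⟩
  intro B hB
  calc Nat.card B ≤ Nat.card A0 := hA0.2 B hB
    _ = Nat.card (A0.subgroupOf U) := (card_subgroupOf hle).symm
    _ ≤ Nat.card A' := hA'.2 _ (ea_subgroupOf hA0.1 U)
    _ = Nat.card (A'.map U.subtype) := (card_map_subtype U A').symm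

theorem subgroupOf_mem_max {U A : Subgroup G}
    (hA : A ∈ Cfsg.maxElementaryAbelianSubgroups p G) (hle : A ≤ U) :
    A.subgroupOf U ∈ Cfsg.maxElementaryAbelianSubgroups p U := by
  refine ⟨ea_subgroupOf hA.1 U, ?_⟩
  intro B hB
  calc Nat.card B = Nat.card (B.map U.subtype) := (card_map_subtype U B).symm
    _ ≤ Nat.card A := hA.2 _ (ea_map _ hB)
    _ = Nat.card (A.subgroupOf U) := (card_subgroupOf hle).symm

theorem le_thompsonOf {U A : Subgroup G}
    (hA : A ∈ Cfsg.maxElementaryAbelianSubgroups p G) (hle : A ≤ U) :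
    A ≤ Cfsg.thompsonSubgroupOf p U := by
  have h1 : A.subgroupOf U ≤ Cfsg.thompsonSubgroup p U := le_sSup (subgroupOf_mem_max hA hle)
  have h2 := Subgroup.map_mono (f := U.subtype) h1
  rw [Subgroup.map_subgroupOf_eq_of_le hle] at h2
  exact h2

theorem thompsonOf_le [Finite G] {U A0 : Subgroup G}
    (hA0 : A0 ∈ Cfsg.maxElementaryAbelianSubgroups p G) (hle : A0 ≤ U) :
    Cfsg.thompsonSubgroupOf p U ≤ Cfsg.thompsonSubgroup p G := by
  unfold Cfsg.thompsonSubgroupOf
  rw [Subgroup.map_le_iff_le_comap]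
  unfold Cfsg.thompsonSubgroup
  apply sSup_le
  intro A' hA'
  rw [← Subgroup.map_le_iff_le_comap]
  exact le_sSup (map_mem_max hA0 hle hA')

end Cfsg.Agent.Lib.Helper10.Thompson
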