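import Mathlib
import Cfsg.Prelude.Def_Transfer
import Cfsg.Agent.Lib.Helper10.Thompson

set_option autoImplicit false

namespace Cfsg.Agent.Lib.Helper10.Timmesfeld

open scoped commutatorElement
open Cfsg.Agent.Lib.Helper10.Thompson

variable {G : Type*} [Group G]

theorem abel4 {x1 x2 y1 y2 : G} (hx : x1 * x2 = x2 * x1) (hy : y1 * y2 = y2 * y1) :
    x2 * y2⁻¹ = x1 * y1⁻¹ ↔ y1 * y2⁻¹ = x1 * x2⁻¹ := by
  have hx' : x1 * x2⁻¹ = x2⁻¹ * x1 := ((show Commute x1 x2 from hx).inv_right).eq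
  have hy' : y1 * y2⁻¹ = y2⁻¹ * y1 := ((show Commute y1 y2 from hy).inv_right).eq
  constructor
  · intro h
    rw [hy', hx']
    calc y2⁻¹ * y1 = x2⁻¹ * (x2 * y2⁻¹) * y1 := by group
      _ = x2⁻¹ * (x1 * y1⁻¹) * y1 := by rw [h]
      _ = x2⁻¹ * x1 := by group
  · intro h
    rw [hy', hx'] at h
    calc x2 * y2⁻¹ = x2 * (y2⁻¹ * y1) * y1⁻¹ := by group
      _ = x2 * (x2⁻¹ * x1) * y1⁻¹ := by rw [h]
      _ = x1 * y1⁻¹ := by group

theorem conj_comm (V A : Subgroup G) (hab : ⁅A, A⁆ ≤ Subgroup.centralizer (V : Set G))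
    {u a c : G} (hu : u ∈ V) (ha : a ∈ A) (hc : c ∈ A) :
    (c * a) * u * (c * a)⁻¹ = (a * c) * u * (a * c)⁻¹ := by
  have h1 : ⁅c⁻¹, a⁻¹⁆ ∈ Subgroup.centralizer (V : Set G) :=
    hab (Subgroup.commutator_mem_commutator (A.inv_mem hc) (A.inv_mem ha))
  have h2 := Subgroup.mem_centralizer_iff.mp h1 u hu
  have e : (c * a) * u * (c * a)⁻¹ = (a * c) * (⁅c⁻¹, a⁻¹⁆ * u) * ⁅c⁻¹, a⁻¹⁆⁻¹ * (a * c)⁻¹ := by
    simp only [commutatorElement_def]; group
  rw [e, ← h2]; group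

theorem comm_mem (V A : Subgroup G) (hAV : A ≤ Subgroup.normalizer (V : Set G))
    {u a : G} (hu : u ∈ V) (ha : a ∈ A) : ⁅u, a⁆ ∈ V := by
  have : a * u⁻¹ * a⁻¹ ∈ V := (Subgroup.mem_normalizer_iff.mp (hAV ha) u⁻¹).mp (V.inv_mem hu)
  have e : ⁅u, a⁆ = u * (a * u⁻¹ * a⁻¹) := by simp only [commutatorElement_def]; group
  rw [e]; exact V.mul_mem hu this

theorem perc (V A : Subgroup G) (hVc : ∀ x ∈ V, ∀ y ∈ V, x * y = y * x)
    (hAV : A ≤ Subgroup.normalizer (V : Set G)) (hab : ⁅A, A⁆ ≤ Subgroup.centralizer (V : Set G))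
    {u a b c : G} (hu : u ∈ V) (ha : a ∈ A) (hb : b ∈ A) (hc : c ∈ A) :
    (⁅u, c⁆ * (a⁻¹ * b) = (a⁻¹ * b) * ⁅u, c⁆) ↔
      (c * (⁅u, a⁆⁻¹ * ⁅u, b⁆) = (⁅u, a⁆⁻¹ * ⁅u, b⁆) * c) := by
  have hconj : ∀ g ∈ A, g * u * g⁻¹ ∈ V :=
    fun g hg => (Subgroup.mem_normalizer_iff.mp (hAV hg) u).mp hu
  have hxx : (a * u * a⁻¹) * (b * u * b⁻¹) = (b * u * b⁻¹) * (a * u * a⁻¹) :=
    hVc _ (hconj a ha) _ (hconj b hb)
  have hyy : ((a * c) * u * (a * c)⁻¹) * ((b * c) * u * (b * c)⁻¹) =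
      ((b * c) * u * (b * c)⁻¹) * ((a * c) * u * (a * c)⁻¹) :=
    hVc _ (hconj _ (A.mul_mem ha hc)) _ (hconj _ (A.mul_mem hb hc))
  have hP : (⁅u, c⁆ * (a⁻¹ * b) = (a⁻¹ * b) * ⁅u, c⁆) ↔
      (b * u * b⁻¹) * ((b * c) * u * (b * c)⁻¹)⁻¹ = (a * u * a⁻¹) * ((a * c) * u * (a * c)⁻¹)⁻¹ := by
    have e2 : (b * u * b⁻¹) * ((b * c) * u * (b * c)⁻¹)⁻¹ = b * ⁅u, c⁆ * b⁻¹ := by
      simp only [commutatorElement_def]; group
    have e1 : (a * u * a⁻¹) * ((a * c) * u * (a * c)⁻¹)⁻¹ = a * ⁅u, c⁆ * a⁻¹ := by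
      simp only [commutatorElement_def]; group
    rw [e1, e2]
    constructor
    · intro h
      calc b * ⁅u, c⁆ * b⁻¹ = a * ((a⁻¹ * b) * ⁅u, c⁆) * b⁻¹ := by group
        _ = a * (⁅u, c⁆ * (a⁻¹ * b)) * b⁻¹ := by rw [h]
        _ = a * ⁅u, c⁆ * a⁻¹ := by group
    · intro h
      calc ⁅u, c⁆ * (a⁻¹ * b) = a⁻¹ * (a * ⁅u, c⁆ * a⁻¹) * b := by group
        _ = a⁻¹ * (b * ⁅u, c⁆ * b⁻¹) * b := by rw [h]
        _ = (a⁻¹ * b) * ⁅u, c⁆ := by group
  have hQ : (c * (⁅u, a⁆⁻¹ * ⁅u, b⁆) = (⁅u, a⁆⁻¹ * ⁅u, b⁆) * c) ↔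
      ((a * c) * u * (a * c)⁻¹) * ((b * c) * u * (b * c)⁻¹)⁻¹ = (a * u * a⁻¹) * (b * u * b⁻¹)⁻¹ := by
    have e1 : ⁅u, a⁆⁻¹ * ⁅u, b⁆ = (a * u * a⁻¹) * (b * u * b⁻¹)⁻¹ := by
      simp only [commutatorElement_def]; group
    have e2 : ((a * c) * u * (a * c)⁻¹) * ((b * c) * u * (b * c)⁻¹)⁻¹ =
        c * ((a * u * a⁻¹) * (b * u * b⁻¹)⁻¹) * c⁻¹ := by
      have ea := conj_comm V A hab hu ha hc
      have eb := conj_comm V A hab hu hb hc
      have : c * ((a * u * a⁻¹) * (b * u * b⁻¹)⁻¹) * c⁻¹ =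
          ((c * a) * u * (c * a)⁻¹) * ((c * b) * u * (c * b)⁻¹)⁻¹ := by group
      rw [this, ea, eb]
    rw [e1, e2]
    constructor
    · intro h; rw [h]; group
    · intro h
      calc c * ((a * u * a⁻¹) * (b * u * b⁻¹)⁻¹)
          = (c * ((a * u * a⁻¹) * (b * u * b⁻¹)⁻¹) * c⁻¹) * c := by group
        _ = ((a * u * a⁻¹) * (b * u * b⁻¹)⁻¹) * c := by rw [h]
  rw [hP, hQ]
  exact abel4 hxx hyy

theorem single [Finite G] (V A : Subgroup G) (hVc : ∀ x ∈ V, ∀ y ∈ V, x * y = y * x)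
    (hAV : A ≤ Subgroup.normalizer (V : Set G)) (hab : ⁅A, A⁆ ≤ Subgroup.centralizer (V : Set G))
    (u : G) (hu : u ∈ V) :
    Nat.card A * Nat.card ↥(V ⊓ Subgroup.centralizer (A : Set G)) ≤
      Nat.card ↥(A ⊓ Subgroup.centralizer (Subgroup.closure {x | ∃ a ∈ A, x = ⁅u, a⁆} : Set G)) *
        Nat.card ↥(Subgroup.closure {x | ∃ a ∈ A, x = ⁅u, a⁆} ⊔
          (V ⊓ Subgroup.centralizer (A : Set G))) := by
  have hmemX : ∀ a ∈ A, ⁅u, a⁆ ∈ Subgroup.closure {x | ∃ a ∈ A, x = ⁅u, a⁆} :=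
    fun a ha => Subgroup.subset_closure ⟨a, ha, rfl⟩
  have hmemV : ∀ a ∈ A, ⁅u, a⁆ ∈ V := fun a ha => comm_mem V A hAV hu ha
  let f0 : A → ↥(Subgroup.closure {x | ∃ a ∈ A, x = ⁅u, a⁆} ⊔
      (V ⊓ Subgroup.centralizer (A : Set G))) :=
    fun a => ⟨⁅u, (a : G)⁆, Subgroup.mem_sup_left (hmemX a a.2)⟩
  have hiff : ∀ a b : A,
      (a⁻¹ * b ∈ (A ⊓ Subgroup.centralizer
        (Subgroup.closure {x | ∃ a ∈ A, x = ⁅u, a⁆} : Set G)).subgroupOf A) ↔
      ((f0 a)⁻¹ * f0 b ∈ (V ⊓ Subgroup.centralizer (A : Set G)).subgroupOf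
        (Subgroup.closure {x | ∃ a ∈ A, x = ⁅u, a⁆} ⊔ (V ⊓ Subgroup.centralizer (A : Set G)))) := by
    intro a b
    rw [Subgroup.mem_subgroupOf, Subgroup.mem_subgroupOf]
    have hl : ((a⁻¹ * b : A) : G) ∈ A ⊓ Subgroup.centralizer
        (Subgroup.closure {x | ∃ a ∈ A, x = ⁅u, a⁆} : Set G) ↔
        ∀ c ∈ A, ⁅u, c⁆ * ((a : G)⁻¹ * b) = ((a : G)⁻¹ * b) * ⁅u, c⁆ := by
      rw [Subgroup.mem_inf, Subgroup.centralizer_closure, Subgroup.mem_centralizer_iff]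
      constructor
      · rintro ⟨_, h⟩ c hc
        exact h _ ⟨c, hc, rfl⟩
      · intro h
        refine ⟨(a⁻¹ * b).2, ?_⟩
        rintro x ⟨c, hc, rfl⟩
        exact h c hc
    have hr : (((f0 a)⁻¹ * f0 b : ↥(Subgroup.closure {x | ∃ a ∈ A, x = ⁅u, a⁆} ⊔
        (V ⊓ Subgroup.centralizer (A : Set G)))) : G) ∈ V ⊓ Subgroup.centralizer (A : Set G) ↔
        ∀ c ∈ A, c * (⁅u, (a : G)⁆⁻¹ * ⁅u, (b : G)⁆) = (⁅u, (a : G)⁆⁻¹ * ⁅u, (b : G)⁆) * c := by
      rw [Subgroup.mem_inf, Subgroup.mem_centralizer_iff]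
      constructor
      · rintro ⟨_, h⟩ c hc
        exact h c hc
      · intro h
        exact ⟨V.mul_mem (V.inv_mem (hmemV a a.2)) (hmemV b b.2), fun c hc => h c hc⟩
    rw [hl, hr]
    exact forall₂_congr (fun c hc => perc V A hVc hAV hab hu a.2 b.2 hc)
  let f : (A ⧸ (A ⊓ Subgroup.centralizer
        (Subgroup.closure {x | ∃ a ∈ A, x = ⁅u, a⁆} : Set G)).subgroupOf A) →
      (↥(Subgroup.closure {x | ∃ a ∈ A, x = ⁅u, a⁆} ⊔ (V ⊓ Subgroup.centralizer (A : Set G))) ⧸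
        (V ⊓ Subgroup.centralizer (A : Set G)).subgroupOf
          (Subgroup.closure {x | ∃ a ∈ A, x = ⁅u, a⁆} ⊔ (V ⊓ Subgroup.centralizer (A : Set G)))) :=
    Quotient.map' f0 (fun a b h => by
      rw [QuotientGroup.leftRel_apply] at h ⊢
      exact (hiff a b).mp h)
  have hinj : Function.Injective f := by
    intro x y
    induction x using Quotient.inductionOn' with | _ a => ?_
    induction y using Quotient.inductionOn' with | _ b => ?_
    intro h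
    have h' : (QuotientGroup.mk (f0 a) : _ ⧸ (V ⊓ Subgroup.centralizer (A : Set G)).subgroupOf
          (Subgroup.closure {x | ∃ a ∈ A, x = ⁅u, a⁆} ⊔ (V ⊓ Subgroup.centralizer (A : Set G)))) =
        QuotientGroup.mk (f0 b) := h
    rw [QuotientGroup.eq] at h'
    exact QuotientGroup.eq.mpr ((hiff a b).mpr h')
  have hidx : (A ⊓ Subgroup.centralizer
        (Subgroup.closure {x | ∃ a ∈ A, x = ⁅u, a⁆} : Set G)).relIndex A ≤
      (V ⊓ Subgroup.centralizer (A : Set G)).relIndex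
        (Subgroup.closure {x | ∃ a ∈ A, x = ⁅u, a⁆} ⊔ (V ⊓ Subgroup.centralizer (A : Set G))) :=
    Nat.card_le_card_of_injective f hinj
  have hA1 := card_mul_relIndex (inf_le_left : A ⊓ Subgroup.centralizer
        (Subgroup.closure {x | ∃ a ∈ A, x = ⁅u, a⁆} : Set G) ≤ A)
  have hW1 := card_mul_relIndex (le_sup_right : V ⊓ Subgroup.centralizer (A : Set G) ≤
    Subgroup.closure {x | ∃ a ∈ A, x = ⁅u, a⁆} ⊔ (V ⊓ Subgroup.centralizer (A : Set G)))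
  rw [← hA1, ← hW1]
  calc _ = Nat.card ↥(A ⊓ Subgroup.centralizer
        (Subgroup.closure {x | ∃ a ∈ A, x = ⁅u, a⁆} : Set G)) * ((A ⊓ Subgroup.centralizer
        (Subgroup.closure {x | ∃ a ∈ A, x = ⁅u, a⁆} : Set G)).relIndex A *
        Nat.card ↥(V ⊓ Subgroup.centralizer (A : Set G))) := by ring
    _ ≤ Nat.card ↥(A ⊓ Subgroup.centralizer
        (Subgroup.closure {x | ∃ a ∈ A, x = ⁅u, a⁆} : Set G)) *
        ((V ⊓ Subgroup.centralizer (A : Set G)).relIndex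
        (Subgroup.closure {x | ∃ a ∈ A, x = ⁅u, a⁆} ⊔ (V ⊓ Subgroup.centralizer (A : Set G))) *
        Nat.card ↥(V ⊓ Subgroup.centralizer (A : Set G))) :=
      Nat.mul_le_mul_left _ (Nat.mul_le_mul_right _ hidx)
    _ = _ := by ring


theorem cent_sup_le (V B1 B2 : Subgroup G) :
    (V ⊓ Subgroup.centralizer (B1 : Set G)) ⊓ (V ⊓ Subgroup.centralizer (B2 : Set G)) ≤
      V ⊓ Subgroup.centralizer ((B1 ⊔ B2 : Subgroup G) : Set G) := by
  intro x hx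
  refine ⟨hx.1.1, ?_⟩
  have h1 : B1 ≤ Subgroup.centralizer ({x} : Set G) := by
    intro b hb
    rw [Subgroup.mem_centralizer_iff]
    intro y hy
    rw [Set.mem_singleton_iff] at hy
    rw [hy]
    exact (Subgroup.mem_centralizer_iff.mp hx.1.2 b hb).symm
  have h2 : B2 ≤ Subgroup.centralizer ({x} : Set G) := by
    intro b hb
    rw [Subgroup.mem_centralizer_iff]
    intro y hy
    rw [Set.mem_singleton_iff] at hy
    rw [hy]
    exact (Subgroup.mem_centralizer_iff.mp hx.2.2 b hb).symm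
  apply Subgroup.mem_centralizer_iff.mpr
  intro b hb
  have := Subgroup.mem_centralizer_iff.mp ((sup_le h1 h2) hb) x rfl
  exact this.symm

theorem nat_aux {M a b c d c' d' b1 b2 c1 c2 : ℕ} (e1 : b1 * c1 = M) (e2 : b2 * c2 = M)
    (hB : b1 * b2 ≤ a * b) (hC : c1 * c2 ≤ c * d) (hc : c ≤ c') (hd : d ≤ d')
    (hM1 : a * d' ≤ M) (hM2 : b * c' ≤ M) (hMpos : 0 < M) (hapos : 0 < a) (hbpos : 0 < b)
    (hdpos : 0 < d) : b * c' = M ∧ c' ≤ c := by
  have hMM : M * M ≤ (a * b) * (c * d) := by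
    calc M * M = (b1 * c1) * (b2 * c2) := by rw [e1, e2]
      _ = (b1 * b2) * (c1 * c2) := by ring
      _ ≤ (a * b) * (c * d) := Nat.mul_le_mul hB hC
  have h3 : (a * b) * (c * d) ≤ (a * d') * (b * c') := by
    calc (a * b) * (c * d) ≤ (a * b) * (c' * d') := Nat.mul_le_mul_left _ (Nat.mul_le_mul hc hd)
      _ = (a * d') * (b * c') := by ring
  have h4 : (a * d') * (b * c') ≤ M * M := Nat.mul_le_mul hM1 hM2
  have hbc : b * c' = M := by
    by_contra hne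
    have hlt : b * c' < M := lt_of_le_of_ne hM2 hne
    have : (a * d') * (b * c') < M * M :=
      calc (a * d') * (b * c') ≤ M * (b * c') := Nat.mul_le_mul_right _ hM1
        _ < M * M := Nat.mul_lt_mul_of_pos_left hlt hMpos
    omega
  have hcc : c' ≤ c := by
    by_contra hne
    have hlt : c < c' := not_le.mp hne
    have : (a * b) * (c * d) < (a * b) * (c' * d') := by
      apply Nat.mul_lt_mul_of_pos_left _ (Nat.mul_pos hapos hbpos)
      calc c * d < c' * d := Nat.mul_lt_mul_of_pos_right hlt hdpos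
        _ ≤ c' * d' := Nat.mul_le_mul_left _ hd
    have h5 : (a * b) * (c' * d') = (a * d') * (b * c') := by ring
    omega
  exact ⟨hbc, hcc⟩

theorem inter [Finite G] (V A B1 B2 : Subgroup G)
    (hmax : ∀ B : Subgroup G, B ≤ A →
      Nat.card B * Nat.card ↥(V ⊓ Subgroup.centralizer (B : Set G)) ≤
        Nat.card A * Nat.card ↥(V ⊓ Subgroup.centralizer (A : Set G)))
    (h1 : B1 ≤ A) (h2 : B2 ≤ A)
    (e1 : Nat.card B1 * Nat.card ↥(V ⊓ Subgroup.centralizer (B1 : Set G)) =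
      Nat.card A * Nat.card ↥(V ⊓ Subgroup.centralizer (A : Set G)))
    (e2 : Nat.card B2 * Nat.card ↥(V ⊓ Subgroup.centralizer (B2 : Set G)) =
      Nat.card A * Nat.card ↥(V ⊓ Subgroup.centralizer (A : Set G))) :
    Nat.card ↥(B1 ⊓ B2) * Nat.card ↥(V ⊓ Subgroup.centralizer ((B1 ⊓ B2 : Subgroup G) : Set G)) =
        Nat.card A * Nat.card ↥(V ⊓ Subgroup.centralizer (A : Set G)) ∧
      V ⊓ Subgroup.centralizer ((B1 ⊓ B2 : Subgroup G) : Set G) =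
        (V ⊓ Subgroup.centralizer (B1 : Set G)) ⊔ (V ⊓ Subgroup.centralizer (B2 : Set G)) := by
  have hM1 := hmax (B1 ⊔ B2) (sup_le h1 h2)
  have hM2 := hmax (B1 ⊓ B2) (inf_le_left.trans h1)
  have hB := card_mul_card_le B1 B2
  have hC := card_mul_card_le (V ⊓ Subgroup.centralizer (B1 : Set G))
    (V ⊓ Subgroup.centralizer (B2 : Set G))
  have hle : (V ⊓ Subgroup.centralizer (B1 : Set G)) ⊔ (V ⊓ Subgroup.centralizer (B2 : Set G)) ≤
      V ⊓ Subgroup.centralizer ((B1 ⊓ B2 : Subgroup G) : Set G) :=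
    sup_le (inf_le_inf_left V (Subgroup.centralizer_le inf_le_left))
      (inf_le_inf_left V (Subgroup.centralizer_le inf_le_right))
  have hc := Subgroup.card_le_of_le hle
  have hd := Subgroup.card_le_of_le (cent_sup_le V B1 B2)
  have hMpos : 0 < Nat.card A * Nat.card ↥(V ⊓ Subgroup.centralizer (A : Set G)) :=
    Nat.mul_pos Nat.card_pos Nat.card_pos
  have hapos : 0 < Nat.card ↥(B1 ⊔ B2) := Nat.card_pos
  have hbpos : 0 < Nat.card ↥(B1 ⊓ B2) := Nat.card_pos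
  have hdpos : 0 < Nat.card ↥((V ⊓ Subgroup.centralizer (B1 : Set G)) ⊓
      (V ⊓ Subgroup.centralizer (B2 : Set G))) := Nat.card_pos
  obtain ⟨r1, r2⟩ := nat_aux e1 e2 hB hC hc hd hM1 hM2 hMpos hapos hbpos hdpos
  exact ⟨r1, (Subgroup.eq_of_le_of_card_ge hle r2).symm⟩

theorem core [Finite G] (V A U : Subgroup G) (hVc : ∀ x ∈ V, ∀ y ∈ V, x * y = y * x)
    (hAV : A ≤ Subgroup.normalizer (V : Set G)) (hab : ⁅A, A⁆ ≤ Subgroup.centralizer (V : Set G))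
    (hU : U ≤ V)
    (hmax : ∀ B : Subgroup G, B ≤ A →
      Nat.card B * Nat.card ↥(V ⊓ Subgroup.centralizer (B : Set G)) ≤
        Nat.card A * Nat.card ↥(V ⊓ Subgroup.centralizer (A : Set G))) :
    Nat.card ↥(A ⊓ Subgroup.centralizer ((⁅U, A⁆ : Subgroup G) : Set G)) *
        Nat.card ↥(V ⊓ Subgroup.centralizer
          ((A ⊓ Subgroup.centralizer ((⁅U, A⁆ : Subgroup G) : Set G) : Subgroup G) : Set G)) =
      Nat.card A * Nat.card ↥(V ⊓ Subgroup.centralizer (A : Set G)) ∧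
    V ⊓ Subgroup.centralizer
        ((A ⊓ Subgroup.centralizer ((⁅U, A⁆ : Subgroup G) : Set G) : Subgroup G) : Set G) =
      ⁅U, A⁆ ⊔ (V ⊓ Subgroup.centralizer (A : Set G)) := by
  have hXV : ⁅U, A⁆ ≤ V := by
    rw [Subgroup.commutator_le]
    intro u hu a ha
    exact comm_mem V A hAV (hU hu) ha
  have hWle : ⁅U, A⁆ ⊔ (V ⊓ Subgroup.centralizer (A : Set G)) ≤ V ⊓ Subgroup.centralizer
        ((A ⊓ Subgroup.centralizer ((⁅U, A⁆ : Subgroup G) : Set G) : Subgroup G) : Set G) := by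
    apply sup_le
    · exact le_inf hXV (Subgroup.le_centralizer_iff.mp inf_le_right)
    · exact inf_le_inf_left V (Subgroup.centralizer_le inf_le_left)
  obtain ⟨B, ⟨hBA, hBM, hA0B, hBW⟩, hmin⟩ := exists_minimal_of_wellFoundedLT
    (fun B : Subgroup G => B ≤ A ∧
      Nat.card B * Nat.card ↥(V ⊓ Subgroup.centralizer (B : Set G)) =
        Nat.card A * Nat.card ↥(V ⊓ Subgroup.centralizer (A : Set G)) ∧
      A ⊓ Subgroup.centralizer ((⁅U, A⁆ : Subgroup G) : Set G) ≤ B ∧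
      V ⊓ Subgroup.centralizer (B : Set G) ≤ ⁅U, A⁆ ⊔ (V ⊓ Subgroup.centralizer (A : Set G)))
    ⟨A, le_rfl, rfl, inf_le_left, le_sup_right⟩
  have hBcent : ∀ u ∈ U, B ≤ Subgroup.centralizer
      (Subgroup.closure {x | ∃ a ∈ A, x = ⁅u, a⁆} : Set G) := by
    intro u hu
    have hXuX : Subgroup.closure {x | ∃ a ∈ A, x = ⁅u, a⁆} ≤ ⁅U, A⁆ := by
      rw [Subgroup.closure_le]
      rintro x ⟨a, ha, rfl⟩
      exact Subgroup.commutator_mem_commutator hu ha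
    have hs := single V A hVc hAV hab u (hU hu)
    have hle2 : Subgroup.closure {x | ∃ a ∈ A, x = ⁅u, a⁆} ⊔ (V ⊓ Subgroup.centralizer (A : Set G)) ≤
        V ⊓ Subgroup.centralizer ((A ⊓ Subgroup.centralizer
          (Subgroup.closure {x | ∃ a ∈ A, x = ⁅u, a⁆} : Set G) : Subgroup G) : Set G) := by
      apply sup_le
      · exact le_inf (hXuX.trans hXV) (Subgroup.le_centralizer_iff.mp inf_le_right)
      · exact inf_le_inf_left V (Subgroup.centralizer_le inf_le_left)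
    have hcard2 := Subgroup.card_le_of_le hle2
    have hAu := hmax (A ⊓ Subgroup.centralizer
          (Subgroup.closure {x | ∃ a ∈ A, x = ⁅u, a⁆} : Set G)) inf_le_left
    have hAupos : 0 < Nat.card ↥(A ⊓ Subgroup.centralizer
          (Subgroup.closure {x | ∃ a ∈ A, x = ⁅u, a⁆} : Set G)) := Nat.card_pos
    have hAuM : Nat.card ↥(A ⊓ Subgroup.centralizer
          (Subgroup.closure {x | ∃ a ∈ A, x = ⁅u, a⁆} : Set G)) *
        Nat.card ↥(V ⊓ Subgroup.centralizer ((A ⊓ Subgroup.centralizer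
          (Subgroup.closure {x | ∃ a ∈ A, x = ⁅u, a⁆} : Set G) : Subgroup G) : Set G)) =
        Nat.card A * Nat.card ↥(V ⊓ Subgroup.centralizer (A : Set G)) :=
      le_antisymm hAu (hs.trans (Nat.mul_le_mul_left _ hcard2))
    have hcard3 : Nat.card ↥(V ⊓ Subgroup.centralizer ((A ⊓ Subgroup.centralizer
          (Subgroup.closure {x | ∃ a ∈ A, x = ⁅u, a⁆} : Set G) : Subgroup G) : Set G)) ≤
        Nat.card ↥(Subgroup.closure {x | ∃ a ∈ A, x = ⁅u, a⁆} ⊔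
          (V ⊓ Subgroup.centralizer (A : Set G))) := by
      rw [← hAuM] at hs
      exact Nat.le_of_mul_le_mul_left hs hAupos
    have hCeq := Subgroup.eq_of_le_of_card_ge hle2 hcard3
    obtain ⟨r1, r2⟩ := inter V A B (A ⊓ Subgroup.centralizer
          (Subgroup.closure {x | ∃ a ∈ A, x = ⁅u, a⁆} : Set G)) hmax hBA inf_le_left hBM hAuM
    have hP : B ⊓ (A ⊓ Subgroup.centralizer
          (Subgroup.closure {x | ∃ a ∈ A, x = ⁅u, a⁆} : Set G)) ≤ A ∧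
      Nat.card ↥(B ⊓ (A ⊓ Subgroup.centralizer
          (Subgroup.closure {x | ∃ a ∈ A, x = ⁅u, a⁆} : Set G))) *
          Nat.card ↥(V ⊓ Subgroup.centralizer ((B ⊓ (A ⊓ Subgroup.centralizer
          (Subgroup.closure {x | ∃ a ∈ A, x = ⁅u, a⁆} : Set G)) : Subgroup G) : Set G)) =
        Nat.card A * Nat.card ↥(V ⊓ Subgroup.centralizer (A : Set G)) ∧
      A ⊓ Subgroup.centralizer ((⁅U, A⁆ : Subgroup G) : Set G) ≤ B ⊓ (A ⊓ Subgroup.centralizer
          (Subgroup.closure {x | ∃ a ∈ A, x = ⁅u, a⁆} : Set G)) ∧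
      V ⊓ Subgroup.centralizer ((B ⊓ (A ⊓ Subgroup.centralizer
          (Subgroup.closure {x | ∃ a ∈ A, x = ⁅u, a⁆} : Set G)) : Subgroup G) : Set G) ≤
        ⁅U, A⁆ ⊔ (V ⊓ Subgroup.centralizer (A : Set G)) := by
      refine ⟨inf_le_left.trans hBA, r1, le_inf hA0B (le_inf inf_le_left
        (inf_le_right.trans (Subgroup.centralizer_le hXuX))), ?_⟩
      rw [r2, ← hCeq]
      exact sup_le hBW (sup_le (hXuX.trans le_sup_left) le_sup_right)
    have := hmin hP inf_le_left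
    exact this.trans (inf_le_right.trans inf_le_right)
  have hBX : B ≤ Subgroup.centralizer ((⁅U, A⁆ : Subgroup G) : Set G) := by
    rw [Subgroup.le_centralizer_iff, Subgroup.commutator_le]
    intro u hu a ha
    exact (Subgroup.le_centralizer_iff.mp (hBcent u hu)) (Subgroup.subset_closure ⟨a, ha, rfl⟩)
  have hBeq : B = A ⊓ Subgroup.centralizer ((⁅U, A⁆ : Subgroup G) : Set G) :=
    le_antisymm (le_inf hBA hBX) hA0B
  rw [← hBeq]
  exact ⟨hBM, le_antisymm hBW (hBeq ▸ hWle)⟩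

theorem nilp [Finite G] {p : ℕ} [Fact p.Prime] (V P M : Subgroup G) (hV : IsPGroup p V)
    (hP : IsPGroup p P) (hPV : P ≤ Subgroup.normalizer (V : Set G)) (hMV : M ≤ V)
    (h : M ≤ ⁅M, P⁆) : M = ⊥ := by
  have hN : IsPGroup p (P ⊔ V : Subgroup G) := IsPGroup.to_sup_of_normal_right' hP hV hPV
  have hnil : Group.IsNilpotent (P ⊔ V : Subgroup G) := hN.isNilpotent
  obtain ⟨n, hn⟩ := (Subgroup.isNilpotent_iff_lowerCentralSeries _).mp hnil
  have key : ∀ k, M ≤ (P ⊔ V).lowerCentralSeries k := by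
    intro k
    induction k with
    | zero => simpa using hMV.trans le_sup_right
    | succ k ih =>
      rw [Subgroup.lowerCentralSeries_succ]
      exact h.trans (Subgroup.commutator_mono ih le_sup_left)
  rw [← le_bot_iff, ← hn]
  exact key n


theorem comm_le_of_sup (V A M : Subgroup G) (hVc : ∀ x ∈ V, ∀ y ∈ V, x * y = y * x)
    (hAV : A ≤ Subgroup.normalizer (V : Set G)) (hMV : M ≤ V)
    (hV : V ≤ M ⊔ (V ⊓ Subgroup.centralizer (A : Set G))) : ⁅V, A⁆ ≤ ⁅M, A⁆ := by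
  let T : Subgroup G :=
    { carrier := {v | v ∈ V ∧ ∀ a ∈ A, ⁅v, a⁆ ∈ ⁅M, A⁆}
      one_mem' := ⟨V.one_mem, fun a _ => by
        rw [commutatorElement_one_left]; exact Subgroup.one_mem _⟩
      mul_mem' := by
        rintro v w ⟨hv, hv'⟩ ⟨hw, hw'⟩
        refine ⟨V.mul_mem hv hw, fun a ha => ?_⟩
        have e : ⁅v * w, a⁆ = v * ⁅w, a⁆ * v⁻¹ * ⁅v, a⁆ := by
          simp only [commutatorElement_def]; group
        have hc : v * ⁅w, a⁆ = ⁅w, a⁆ * v := hVc _ hv _ (comm_mem V A hAV hw ha)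
        rw [e, hc]
        have : ⁅w, a⁆ * v * v⁻¹ * ⁅v, a⁆ = ⁅w, a⁆ * ⁅v, a⁆ := by group
        rw [this]
        exact Subgroup.mul_mem _ (hw' a ha) (hv' a ha)
      inv_mem' := by
        rintro v ⟨hv, hv'⟩
        refine ⟨V.inv_mem hv, fun a ha => ?_⟩
        have e : ⁅v⁻¹, a⁆ = v⁻¹ * ⁅v, a⁆⁻¹ * v := by
          simp only [commutatorElement_def]; group
        have hc : v⁻¹ * ⁅v, a⁆⁻¹ = ⁅v, a⁆⁻¹ * v⁻¹ :=
          hVc _ (V.inv_mem hv) _ (V.inv_mem (comm_mem V A hAV hv ha))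
        rw [e, hc]
        have : ⁅v, a⁆⁻¹ * v⁻¹ * v = ⁅v, a⁆⁻¹ := by group
        rw [this]
        exact Subgroup.inv_mem _ (hv' a ha) }
  have hMT : M ≤ T := fun m hm => ⟨hMV hm, fun a ha => Subgroup.commutator_mem_commutator hm ha⟩
  have hCT : V ⊓ Subgroup.centralizer (A : Set G) ≤ T := by
    intro c hc
    refine ⟨hc.1, fun a ha => ?_⟩
    have : ⁅c, a⁆ = 1 :=
      commutatorElement_eq_one_iff_mul_comm.mpr ((Subgroup.mem_centralizer_iff.mp hc.2 a ha).symm)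
    rw [this]; exact Subgroup.one_mem _
  rw [Subgroup.commutator_le]
  intro v hv a ha
  exact ((hV.trans (sup_le hMT hCT)) hv).2 a ha

theorem comm_eq_bot_of_eq [Finite G] {p : ℕ} [Fact p.Prime] (V A P U : Subgroup G)
    (hVc : ∀ x ∈ V, ∀ y ∈ V, x * y = y * x) (hVp : IsPGroup p V)
    (hAV : A ≤ Subgroup.normalizer (V : Set G)) (hU : U ≤ V)
    (hP : IsPGroup p P) (hPA : P ≤ A)
    (hdec : ∀ a ∈ A, ∃ s ∈ P, ∃ c ∈ Subgroup.centralizer (V : Set G), a = s * c)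
    (hVeq : V ≤ ⁅U, A⁆ ⊔ (V ⊓ Subgroup.centralizer (A : Set G))) : ⁅V, A⁆ = ⊥ := by
  have hMV : ⁅V, A⁆ ≤ V := by
    rw [Subgroup.commutator_le]
    intro v hv a ha
    exact comm_mem V A hAV hv ha
  have h1 : ⁅V, A⁆ ≤ ⁅⁅V, A⁆, A⁆ :=
    comm_le_of_sup V A ⁅V, A⁆ hVc hAV hMV
      (hVeq.trans (sup_le_sup_right (Subgroup.commutator_mono hU le_rfl) _))
  have h2 : ⁅⁅V, A⁆, A⁆ ≤ ⁅⁅V, A⁆, P⁆ := by
    rw [Subgroup.commutator_le]
    intro m hm a ha
    obtain ⟨s, hs, c, hc, rfl⟩ := hdec a ha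
    have e : ⁅m, s * c⁆ = ⁅m, s⁆ * (s * ⁅m, c⁆ * s⁻¹) := by
      simp only [commutatorElement_def]; group
    have h1 : ⁅m, c⁆ = 1 :=
      commutatorElement_eq_one_iff_mul_comm.mpr (Subgroup.mem_centralizer_iff.mp hc m (hMV hm))
    rw [e, h1]
    have : ⁅m, s⁆ * (s * 1 * s⁻¹) = ⁅m, s⁆ := by group
    rw [this]
    exact Subgroup.commutator_mem_commutator hm hs
  exact nilp V P ⁅V, A⁆ hVp hP (hPA.trans hAV) hMV (h1.trans h2)

theorem exists_pgroup_dec [Finite G] {p : ℕ} [Fact p.Prime] (V A : Subgroup G)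
    (hAV : A ≤ Subgroup.normalizer (V : Set G))
    (hpow : ∀ a ∈ A, a ^ p ∈ Subgroup.centralizer (V : Set G)) :
    ∃ P : Subgroup G, IsPGroup p P ∧ P ≤ A ∧
      ∀ a ∈ A, ∃ s ∈ P, ∃ c ∈ Subgroup.centralizer (V : Set G), a = s * c := by
  have hKn : ((Subgroup.centralizer (V : Set G)).subgroupOf A).Normal := by
    constructor
    intro n hn g
    rw [Subgroup.mem_subgroupOf] at hn ⊢
    apply Subgroup.mem_centralizer_iff.mpr
    intro v hv
    have hg : (g : G)⁻¹ ∈ Subgroup.normalizer (V : Set G) := hAV (A.inv_mem g.2)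
    have hw : (g : G)⁻¹ * v * ((g : G)⁻¹)⁻¹ ∈ V := (Subgroup.mem_normalizer_iff.mp hg v).mp hv
    have hcomm := Subgroup.mem_centralizer_iff.mp hn _ hw
    have e1 : v * ((g * n * g⁻¹ : A) : G) =
        (g : G) * (((g : G)⁻¹ * v * ((g : G)⁻¹)⁻¹) * (n : G)) * (g : G)⁻¹ := by
      simp only [Subgroup.coe_mul, Subgroup.coe_inv]; group
    have e2 : ((g * n * g⁻¹ : A) : G) * v =
        (g : G) * ((n : G) * ((g : G)⁻¹ * v * ((g : G)⁻¹)⁻¹)) * (g : G)⁻¹ := by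
      simp only [Subgroup.coe_mul, Subgroup.coe_inv]; group
    rw [e1, e2, hcomm]
  have hQ : IsPGroup p (↥A ⧸ (Subgroup.centralizer (V : Set G)).subgroupOf A) := by
    intro q
    obtain ⟨a, rfl⟩ := QuotientGroup.mk_surjective q
    refine ⟨1, ?_⟩
    rw [pow_one, ← QuotientGroup.mk_pow, QuotientGroup.eq_one_iff, Subgroup.mem_subgroupOf]
    simpa using hpow a a.2
  obtain ⟨P⟩ := (inferInstance : Nonempty (Sylow p A))
  have htop : (P : Subgroup A) ⊔ (Subgroup.centralizer (V : Set G)).subgroupOf A = ⊤ := by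
    rw [← Subgroup.index_eq_one]
    have h1 : ((P : Subgroup A) ⊔ (Subgroup.centralizer (V : Set G)).subgroupOf A).index ∣
        (P : Subgroup A).index := Subgroup.index_dvd_of_le le_sup_left
    have h2 : ((P : Subgroup A) ⊔ (Subgroup.centralizer (V : Set G)).subgroupOf A).index ∣
        ((Subgroup.centralizer (V : Set G)).subgroupOf A).index := Subgroup.index_dvd_of_le le_sup_right
    obtain ⟨n, hn⟩ := IsPGroup.iff_card.mp hQ
    have h3 : ((Subgroup.centralizer (V : Set G)).subgroupOf A).index = p ^ n := hn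
    rw [h3] at h2
    obtain ⟨k, hk, hk'⟩ := (Nat.dvd_prime_pow (Fact.out : p.Prime)).mp h2
    rcases Nat.eq_zero_or_pos k with h0 | hpos
    · rw [hk', h0, pow_zero]
    · exfalso
      apply P.not_dvd_index
      exact dvd_trans (hk' ▸ dvd_pow_self p hpos.ne') h1
  refine ⟨(P : Subgroup A).map A.subtype, P.2.map _, Subgroup.map_subtype_le _, ?_⟩
  intro a ha
  have hmem : (⟨a, ha⟩ : A) ∈ (P : Subgroup A) ⊔ (Subgroup.centralizer (V : Set G)).subgroupOf A := by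
    rw [htop]; trivial
  obtain ⟨s, hs, c, hc, hsc⟩ := Subgroup.mem_sup_of_normal_right.mp hmem
  refine ⟨s, Subgroup.mem_map_of_mem _ hs, c, Subgroup.mem_subgroupOf.mp hc, ?_⟩
  have := congrArg Subtype.val hsc
  simpa using this.symm

end Cfsg.Agent.Lib.Helper10.Timmesfeld
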